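import Cfsg.Agent.S0205
import Cfsg.Agent.S0217
import Cfsg.Agent.S2899
import Cfsg.Agent.Lib.Amalgam.PEmbed
import Cfsg.Agent.Lib.Comp.ConstrainedBalance
import Cfsg.Agent.Lib.Comp.FunctorTrivial
import Cfsg.Agent.Lib.Coprime.Generation
import Cfsg.Agent.Lib.InvChar.ConstrainedSignalizer
import Cfsg.Agent.Lib.Invol.Strong
import Cfsg.Agent.Lib.Transfer.Frobenius

/-!
Closure of the cores of involution centralizers on an elementary abelian 2-group, the strongly
embedded criterion with two classes of involutions, and groups with an elementary abelian Sylow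
2-subgroup of order 16 and semiregular normalizer.
-/

set_option autoImplicit false
set_option linter.unusedSectionVars false
set_option linter.style.haveILetI false

namespace CfsgLib.SylL34

open Subgroup CfsgLib.Invol

universe u

variable {G : Type u} [Group G] [Finite G]

/-- The subgroup generated by the cores of the centralizers of the nontrivial elements of `A`. -/
abbrev coreClosure (A : Subgroup G) : Subgroup G :=
  ⨆ a : {a : G // a ∈ A ∧ a ≠ 1}, Cfsg.centralizerPPrimeCore 2 (a : G)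

theorem core_le_coreClosure {A : Subgroup G} {a : G} (ha : a ∈ A) (ha1 : a ≠ 1) :
    Cfsg.centralizerPPrimeCore 2 a ≤ coreClosure A :=
  le_iSup (fun b : {b : G // b ∈ A ∧ b ≠ 1} => Cfsg.centralizerPPrimeCore 2 (b : G)) ⟨a, ha, ha1⟩

theorem core_le_centralizer (a : G) :
    Cfsg.centralizerPPrimeCore 2 a ≤ centralizer ({a} : Set G) := map_subtype_le _

/-- The normalizer of `B` normalizes the closure of its cores. -/
theorem normalizer_le_coreClosure (B : Subgroup G) :
    normalizer (B : Set G) ≤ normalizer (coreClosure B : Set G) := by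
  haveI : Fact (Nat.Prime 2) := ⟨Nat.prime_two⟩
  have key : ∀ g ∈ normalizer (B : Set G), ∀ x ∈ coreClosure B, g * x * g⁻¹ ∈ coreClosure B := by
    intro g hg x hx
    have hle : (coreClosure B).map (MulAut.conj g).toMonoidHom ≤ coreClosure B := by
      rw [Subgroup.map_iSup]
      refine iSup_le ?_
      rintro ⟨b, hb, hb1⟩
      refine (CfsgLib.Comp.FunctorTriv.map_centralizerPPrimeCore_conj_le g b).trans
        (core_le_coreClosure ((mem_normalizer_iff.1 hg b).1 hb) fun e => hb1 (conj_eq_one_iff.1 e))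
    exact hle ⟨x, hx, rfl⟩
  intro g hg
  refine mem_normalizer_iff.2 fun x => ⟨key g hg x, fun h => ?_⟩
  have := key g⁻¹ (inv_mem hg) _ h
  simpa [mul_assoc] using this

/-- **Closure of balanced cores** (signalizer functor theorem). -/
theorem coreClosure_spec (A : Subgroup G) (hA : Cfsg.IsElementaryAbelian 2 A)
    (hA3 : 8 ≤ Nat.card A)
    (hbal : ∀ a ∈ A, a ≠ 1 → ∀ b ∈ A, b ≠ 1 →
      Cfsg.centralizerPPrimeCore 2 a ⊓ centralizer ({b} : Set G) ≤
        Cfsg.centralizerPPrimeCore 2 b) :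
    Odd (Nat.card (coreClosure A)) ∧
      (∀ a ∈ A, a ≠ 1 → coreClosure A ⊓ centralizer ({a} : Set G) =
        Cfsg.centralizerPPrimeCore 2 a) ∧
      ∀ B : Subgroup G, B ≤ A → 4 ≤ Nat.card B → coreClosure A = coreClosure B ∧
        normalizer (B : Set G) ≤ normalizer (coreClosure A : Set G) := by
  haveI : Fact (Nat.Prime 2) := ⟨Nat.prime_two⟩
  have hcomm : ∀ a ∈ A, ∀ b ∈ A, a * b = b * a := fun a ha b hb =>
    congrArg Subtype.val (hA.1.is_comm.comm ⟨a, ha⟩ ⟨b, hb⟩)
  have hinv : ∀ a ∈ A, a ≠ 1 → A ≤ normalizer (Cfsg.centralizerPPrimeCore 2 a : Set G) :=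
    fun a ha _ b hb => CfsgLib.InvChar.ConstrainedSignalizer.le_normalizer_core (hcomm a ha b hb)
  have hodd : ∀ a : G, Odd (Nat.card (Cfsg.centralizerPPrimeCore 2 a)) :=
    CfsgLib.InvChar.ConstrainedSignalizer.odd_core
  obtain ⟨h1, h2⟩ := Cfsg.Agent.S0217.result A hcomm hA.2 (by simpa using hA3)
    (fun a => Cfsg.centralizerPPrimeCore 2 a) (fun a _ _ => core_le_centralizer a)
    (fun a _ _ hd => Nat.not_even_iff_odd.2 (hodd a) (even_iff_two_dvd.2 hd))
    (fun a ha ha1 b hb x hx => (mem_normalizer_iff.1 (hinv a ha ha1 hb) x).1 hx)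
    (fun a _ _ => Cfsg.Agent.S0205.result (hodd a)) hbal
  refine ⟨Nat.not_even_iff_odd.1 fun he => h1 (even_iff_two_dvd.1 he), h2, fun B hBA hB4 => ?_⟩
  have hBe : Cfsg.IsElementaryAbelian 2 B :=
    ⟨⟨⟨fun x y => Subtype.ext (hcomm x (hBA x.2) y (hBA y.2))⟩⟩, fun b hb => hA.2 b (hBA hb)⟩
  have hnc : ¬ IsCyclic B := CfsgLib.Comp.not_isCyclic_elemAb hBe (by simpa using hB4)
  have heq : coreClosure A = coreClosure B := by
    refine le_antisymm (iSup_le ?_) (iSup_le fun b => core_le_coreClosure (hBA b.2.1) b.2.2)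
    rintro ⟨a, ha, ha1⟩
    rw [← CfsgLib.Coprime.iSup_centralizer_eq hBe.1 hnc (hBA.trans (hinv a ha ha1))
      (CfsgLib.Comp.coprime_card_elemAb hBe
        fun hd => Nat.not_even_iff_odd.2 (hodd a) (even_iff_two_dvd.2 hd))]
    exact iSup_le fun b => (hbal a ha ha1 b (hBA b.2.1) b.2.2).trans
      (core_le_coreClosure b.2.1 b.2.2)
  exact ⟨heq, heq ▸ normalizer_le_coreClosure B⟩

/-- Balance towards a solvable centralizer. -/
theorem bal_of_solvable {a b : G} (ha : a * a = 1) (hab : a * b = b * a)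
    (hb : Group.IsSolvable ↥(centralizer ({b} : Set G))) :
    Cfsg.centralizerPPrimeCore 2 a ⊓ centralizer ({b} : Set G) ≤
      Cfsg.centralizerPPrimeCore 2 b := by
  haveI : Fact (Nat.Prime 2) := ⟨Nat.prime_two⟩
  refine CfsgLib.Comp.centralizerPPrimeCore_inf_centralizer_le_of_isSolvable hb
    (mem_centralizer_singleton_iff.2 hab) fun x => ⟨1, Subtype.ext ?_⟩
  obtain ⟨i, hi⟩ := mem_zpowers_iff.1 x.2
  rw [pow_one, Subgroup.coe_pow, ← hi, ← zpow_natCast, ← zpow_mul, mul_comm i, zpow_mul,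
    zpow_natCast, pow_two, ha, one_zpow, Subgroup.coe_one]

/-- A subgroup containing the normalizer of a Sylow 2-subgroup and the centralizers of its
involutions is the whole group if there are two classes of involutions. -/
theorem eq_top_of_two_classes (S : Sylow 2 G) (M : Subgroup G)
    (hN : normalizer ((S : Subgroup G) : Set G) ≤ M)
    (hC : ∀ x ∈ (S : Subgroup G), orderOf x = 2 → centralizer ({x} : Set G) ≤ M)
    {x y : G} (hx : orderOf x = 2) (hy : orderOf y = 2) (hxy : ¬ IsConj x y) : M = ⊤ := by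
  haveI : Fact (Nat.Prime 2) := ⟨Nat.prime_two⟩
  by_contra hM
  have hSM : (S : Subgroup G) ≤ M := le_normalizer.trans hN
  let T : Sylow 2 M := S.subtype hSM
  have hT : (T : Subgroup M).map M.subtype = (S : Subgroup G) := by
    show ((S : Subgroup G).subgroupOf M).map M.subtype = _
    exact map_subgroupOf_eq_of_le hSM
  have hp : Cfsg.IsStronglyPEmbedded 2 M := by
    refine (Cfsg.Agent.S2899.result M hM T).2 ⟨fun z hz ho => hC z (hT ▸ hz) ho, ?_⟩
    rw [hT]; exact hN
  obtain ⟨-, h2, h3⟩ := CfsgLib.Amalgam.isStronglyPEmbedded_iff_trivialMeet.1 hp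
  exact hxy (se_isConj (H := M) ⟨hM, even_iff_two_dvd.2 h2,
    fun g hg => Nat.not_even_iff_odd.1 fun he => h3 g hg (even_iff_two_dvd.1 he)⟩ hx hy)

/-- An elementary abelian Sylow 2-subgroup of order 16 with semiregular normalizer is normal,
if there are two classes of involutions and no odd core. -/
theorem abelian_sylow_normal (B : Sylow 2 G) (hB : Cfsg.IsElementaryAbelian 2 (B : Subgroup G))
    (h16 : Nat.card (B : Subgroup G) = 16) (hO : Cfsg.oddCore G = ⊥)
    (hfix : ∀ g ∈ normalizer ((B : Subgroup G) : Set G), ∀ x ∈ (B : Subgroup G), x ≠ 1 →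
      g * x = x * g → g ∈ centralizer ((B : Subgroup G) : Set G))
    {x y : G} (hxB : x ∈ (B : Subgroup G)) (hx1 : x ≠ 1) (hyB : y ∈ (B : Subgroup G)) (hy1 : y ≠ 1)
    (hxy : ¬ IsConj x y) : (B : Subgroup G).Normal := by
  classical
  haveI : Fact (Nat.Prime 2) := ⟨Nat.prime_two⟩
  have hcomm : ∀ a ∈ (B : Subgroup G), ∀ b ∈ (B : Subgroup G), a * b = b * a := fun a ha b hb =>
    congrArg Subtype.val (hB.1.is_comm.comm ⟨a, ha⟩ ⟨b, hb⟩)
  have hsq : ∀ a ∈ (B : Subgroup G), a * a = 1 := fun a ha => by rw [← pow_two]; exact hB.2 a ha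
  -- the centralizers of involutions of `B`
  have hcent : ∀ z ∈ (B : Subgroup G), z ≠ 1 →
      centralizer ({z} : Set G) ≤ Cfsg.centralizerPPrimeCore 2 z ⊔ (B : Subgroup G) ∧
        Group.IsSolvable ↥(centralizer ({z} : Set G)) := by
    intro z hz hz1
    set C := centralizer ({z} : Set G)
    have hBC : (B : Subgroup G) ≤ C := fun b hb =>
      mem_centralizer_singleton_iff.2 (hcomm b hb z hz)
    let T : Sylow 2 C := B.subtype hBC
    have hT : ∀ c : C, c ∈ (T : Subgroup C) ↔ (c : G) ∈ (B : Subgroup G) := fun c => Iff.rfl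
    have hnT : normalizer ((T : Subgroup C) : Set C) ≤ centralizer ((T : Subgroup C) : Set C) := by
      intro n hn
      have hnB : (n : G) ∈ normalizer ((B : Subgroup G) : Set G) := by
        refine mem_normalizer_iff.2 fun v => ⟨fun hv => ?_, fun hv => ?_⟩
        · exact (hT _).1 ((mem_normalizer_iff.1 hn ⟨v, hBC hv⟩).1 ((hT _).2 hv))
        · have hvC : v ∈ C := by
            have := mul_mem (mul_mem (inv_mem n.2) (hBC hv)) n.2
            simpa [mul_assoc] using this
          exact (hT _).1 ((mem_normalizer_iff.1 hn ⟨v, hvC⟩).2 ((hT _).2 hv))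
      have hnc := hfix _ hnB z hz hz1 (mem_centralizer_singleton_iff.1 n.2)
      exact mem_centralizer_iff.2 fun v hv =>
        Subtype.ext (mem_centralizer_iff.1 hnc v ((hT v).1 hv))
    let N : Subgroup C := (MonoidHom.transferSylow T hnT).ker
    have hcp : N.IsComplement' (T : Subgroup C) := MonoidHom.ker_transferSylow_isComplement' T hnT
    have hNodd : Odd (Nat.card N) := by
      rw [← Nat.not_even_iff_odd, even_iff_two_dvd, ← hcp.index_eq_card]
      exact T.not_dvd_index
    refine ⟨fun c hc => ?_, ?_⟩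
    · have hO : N ≤ Cfsg.pPrimeCore 2 C :=
        CfsgLib.Solvable.le_pPrimeCore inferInstance (Nat.coprime_two_right.2 hNodd)
      have hmem : (⟨c, hc⟩ : C) ∈ N ⊔ (T : Subgroup C) := by
        rw [hcp.sup_eq_top]; exact mem_top _
      obtain ⟨k, hk, b, hb, hkb⟩ := mem_sup_of_normal_left.1 hmem
      have e : c = (k : G) * b := (congrArg Subtype.val hkb).symm
      rw [e]
      exact mul_mem (mem_sup_left ⟨k, hO hk, rfl⟩) (mem_sup_right ((hT b).1 hb))
    · haveI : Group.IsSolvable N := Cfsg.Agent.S0205.result hNodd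
      have hq : IsPGroup 2 (C ⧸ N) := by
        refine IsPGroup.of_card (n := 4) ?_
        rw [← Subgroup.index_eq_card, hcp.symm.index_eq_card,
          show (T : Subgroup C) = (B : Subgroup G).subgroupOf C from rfl,
          Nat.card_congr (subgroupOfEquivOfLe hBC).toEquiv, h16]
        rfl
      haveI := hq.isNilpotent
      exact Group.isSolvable_of_ker_le_range N.subtype (QuotientGroup.mk' N)
        (by rw [QuotientGroup.ker_mk', Subgroup.range_subtype])
  have hbal : ∀ a ∈ (B : Subgroup G), a ≠ 1 → ∀ b ∈ (B : Subgroup G), b ≠ 1 →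
      Cfsg.centralizerPPrimeCore 2 a ⊓ centralizer ({b} : Set G) ≤
        Cfsg.centralizerPPrimeCore 2 b := fun a ha _ b hb hb1 =>
    bal_of_solvable (hsq a ha) (hcomm a ha b hb) (hcent b hb hb1).2
  obtain ⟨hWodd, -, hWB⟩ := coreClosure_spec (B : Subgroup G) hB (by omega) hbal
  have hNW := (hWB _ le_rfl (by omega)).2
  have hx2 : orderOf x = 2 := invol_of_mul_self (hsq x hxB) hx1
  have hy2 : orderOf y = 2 := invol_of_mul_self (hsq y hyB) hy1
  have htop : normalizer (coreClosure (B : Subgroup G) : Set G) = ⊤ :=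
    eq_top_of_two_classes B _ hNW
      (fun z hz ho => (hcent z hz (invol_ne_one ho)).1.trans (sup_le
        ((core_le_coreClosure hz (invol_ne_one ho)).trans le_normalizer)
        (le_normalizer.trans hNW))) hx2 hy2 hxy
  have hWn : (coreClosure (B : Subgroup G)).Normal := normalizer_eq_top_iff.1 htop
  have hW1 : coreClosure (B : Subgroup G) = ⊥ :=
    le_bot_iff.1 (hO ▸ CfsgLib.Solvable.le_pPrimeCore hWn (Nat.coprime_two_right.2 hWodd))
  have hCB : ∀ z ∈ (B : Subgroup G), z ≠ 1 → centralizer ({z} : Set G) ≤ (B : Subgroup G) :=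
    fun z hz hz1 => (hcent z hz hz1).1.trans
      (sup_le ((core_le_coreClosure hz hz1).trans (hW1 ▸ bot_le)) le_rfl)
  -- every involution lies in `B`
  have hall : ∀ v : G, orderOf v = 2 → v ∈ (B : Subgroup G) := by
    intro v hv
    obtain ⟨z, hz, hz2, hnc⟩ : ∃ z ∈ (B : Subgroup G), orderOf z = 2 ∧ ¬ IsConj v z := by
      by_cases hvx : IsConj v x
      · exact ⟨y, hyB, hy2, fun hvy => hxy (hvx.symm.trans hvy)⟩
      · exact ⟨x, hxB, hx2, hvx⟩
    obtain ⟨w, hw, hwv, hwz⟩ := exists_commute_both hv hz2 (even_of_not_isConj hv hz2 hnc)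
    have hwB : w ∈ (B : Subgroup G) :=
      hCB z hz (invol_ne_one hz2) (mem_centralizer_singleton_iff.2 hwz.eq)
    exact hCB w hwB (invol_ne_one hw) (mem_centralizer_singleton_iff.2 hwv.eq.symm)
  refine ⟨fun b hb g => ?_⟩
  rcases eq_or_ne b 1 with rfl | hb1
  · simp
  exact hall _ (by rw [orderOf_conj_eq, invol_of_mul_self (hsq b hb) hb1])

end CfsgLib.SylL34
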