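import Cfsg.Agent.Lib.SylLThreeFour.Weak

/-!
The normalizer of an elementary abelian subgroup of order 16 either normalizes the centre or is
transitive on the involutions.
-/

set_option autoImplicit false

namespace CfsgLib.SylL34

open Subgroup CfsgLib.Recog.LThreeFour

universe u

variable {G : Type u} [Group G]

namespace Shape

variable {S A B Z : Subgroup G} (h : Shape S A B Z)
include h

/-- The elements of `B` move an element of `A` outside `Z` over its whole coset. -/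
theorem exists_move {u c : G} (hu : u ∈ A) (huZ : u ∉ Z) (hc : c ∈ Z) :
    ∃ b ∈ B, b * u * b⁻¹ = u * c := by
  classical
  have : Finite B := Nat.finite_of_card_ne_zero (by rw [h.cardB]; norm_num)
  have : Finite Z := Nat.finite_of_card_ne_zero (by rw [h.cardZ]; norm_num)
  have hm : ∀ b ∈ B, u⁻¹ * (b * u * b⁻¹) ∈ Z := fun b hb => by
    have h1 := inv_mem (h.comm u hu b hb)
    have h2 : (u * b * u⁻¹ * b⁻¹)⁻¹ * u = u * (u * b * u⁻¹ * b⁻¹)⁻¹ := h.cen _ h1 u (h.hA hu)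
    rw [show b * u * b⁻¹ = (u * b * u⁻¹ * b⁻¹)⁻¹ * u by group, h2, inv_mul_cancel_left]
    exact h1
  let f : ↥B →* ↥Z :=
    { toFun := fun b => ⟨_, hm b b.2⟩
      map_one' := Subtype.ext (by simp)
      map_mul' := fun b d => Subtype.ext (by
        show u⁻¹ * ((b : G) * d * u * ((b : G) * d)⁻¹) =
          u⁻¹ * ((b : G) * u * (b : G)⁻¹) * (u⁻¹ * ((d : G) * u * (d : G)⁻¹))
        have h3 := h.cen _ (hm d d.2) (b : G) (h.hB b.2)
        calc u⁻¹ * ((b : G) * d * u * ((b : G) * d)⁻¹)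
            = u⁻¹ * ((b : G) * u * ((u⁻¹ * ((d : G) * u * (d : G)⁻¹)) * (b : G)⁻¹)) := by group
          _ = _ := by
            rw [show (u⁻¹ * ((d : G) * u * (d : G)⁻¹)) * (b : G)⁻¹ =
              (b : G)⁻¹ * (u⁻¹ * ((d : G) * u * (d : G)⁻¹)) by
                rw [eq_inv_mul_iff_mul_eq, ← mul_assoc, ← h3, mul_inv_cancel_right]]
            group) }
  have hker : f.ker = (Z.subgroupOf B) := by
    ext b
    rw [MonoidHom.mem_ker, mem_subgroupOf]
    constructor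
    · intro hb
      have h1 : u⁻¹ * ((b : G) * u * (b : G)⁻¹) = 1 := congrArg Subtype.val hb
      rw [inv_mul_eq_one] at h1
      exact (h.key hu b.2 (by
        have := congrArg (· * (b : G)) h1
        simpa using this)).resolve_left huZ
    · intro hb
      refine Subtype.ext ?_
      show u⁻¹ * ((b : G) * u * (b : G)⁻¹) = 1
      rw [h.cen b hb u (h.hA hu)]
      group
  have hsur : f.range = ⊤ := by
    refine Subgroup.eq_top_of_card_eq _ ?_
    have := Subgroup.card_eq_card_quotient_mul_card_subgroup f.ker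
    rw [Nat.card_congr (QuotientGroup.quotientKerEquivRange f).toEquiv, hker,
      Nat.card_congr (Subgroup.subgroupOfEquivOfLe h.hZB).toEquiv, h.cardB, h.cardZ] at this
    rw [h.cardZ]
    omega
  obtain ⟨b, hb⟩ : (⟨c, hc⟩ : ↥Z) ∈ f.range := hsur ▸ mem_top _
  refine ⟨b, b.2, ?_⟩
  have h4 : u⁻¹ * ((b : G) * u * (b : G)⁻¹) = c := congrArg Subtype.val hb
  rw [← h4, mul_inv_cancel_left]

end Shape

namespace Shape

variable [Finite G] {P : Sylow 2 G} {A B Z : Subgroup G} (h : Shape (P : Subgroup G) A B Z)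
include h

/-- Conjugates of the centre under the normalizer of `A` meet trivially. -/
theorem centre_ti {n z : G} (hn : n ∈ normalizer (A : Set G)) (hz : z ∈ Z) (hz1 : z ≠ 1)
    (hzn : z ∈ cj n Z) : cj n Z ≤ Z ∧ Z ≤ cj n Z := by
  classical
  have := twoFact
  by_cases hsub : Z ≤ cj n Z
  · refine ⟨(Subgroup.eq_of_le_of_card_ge hsub ?_).ge, hsub⟩
    rw [card_cj]
  exfalso
  obtain ⟨w, hw, hwn⟩ := SetLike.not_le_iff_exists.1 hsub
  set c := n⁻¹ * z * n
  have hc : c ∈ Z := mem_cj.1 hzn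
  set u := n⁻¹ * w * n
  have hu : u ∈ A := by
    have := conj_mem_of_normalizer (inv_mem hn) (h.hZA hw)
    rwa [inv_inv] at this
  have huZ : u ∉ Z := fun e => hwn (mem_cj.2 e)
  obtain ⟨b, hb, hbu⟩ := h.exists_move hu huZ hc
  set s := n * b * n⁻¹
  have hsw : s * w * s⁻¹ = w * z := by
    calc s * w * s⁻¹ = n * (b * u * b⁻¹) * n⁻¹ := by simp only [s, u]; group
      _ = w * z := by rw [hbu]; simp only [u, c]; group
  have hsz : s * z * s⁻¹ = z := by
    calc s * z * s⁻¹ = n * (b * c * b⁻¹) * n⁻¹ := by simp only [s, c]; group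
      _ = z := by rw [← h.cen c hc b (h.hB hb)]; simp only [c]; group
  -- `s` is an involution normalizing `Z`
  have hsZ : ∀ y ∈ Z, s * y * s⁻¹ ∈ Z := by
    intro y hy
    have : Finite Z := inferInstance
    have hwz : w ≠ z := fun e => hwn (e ▸ hzn)
    have hw1 : w ≠ 1 := fun e => hwn (e ▸ one_mem _)
    have hz_w : z * w ≠ 1 := fun e => hwz (by
      rw [← h.eZ hz] at e; exact mul_left_cancel e)
    haveI : Fintype Z := Fintype.ofFinite _
    let t : Finset Z := {1, ⟨z, hz⟩, ⟨w, hw⟩, ⟨z * w, mul_mem hz hw⟩}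
    have ht : t.card = 4 := by
      rw [Finset.card_eq_four.2]
      exact ⟨_, _, _, _, by simp [Subtype.ext_iff, Ne.symm hz1],
        by simp [Subtype.ext_iff, Ne.symm hw1],
        by simp [Subtype.ext_iff, Ne.symm hz_w], by simp [Subtype.ext_iff, Ne.symm hwz],
        by simp [Subtype.ext_iff, hw1], by simp [Subtype.ext_iff, hz1], rfl⟩
    have hm : (⟨y, hy⟩ : Z) ∈ t := by
      rw [Finset.eq_univ_of_card t (by rw [ht, ← Nat.card_eq_fintype_card, h.cardZ])]
      exact Finset.mem_univ _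
    simp only [t, Finset.mem_insert, Finset.mem_singleton, Subtype.ext_iff] at hm
    rcases hm with e | e | e | e
    · rw [e]; simp
    · rw [e, hsz]; exact hz
    · rw [e, hsw]; exact mul_mem hw hz
    · rw [e, show s * (z * w) * s⁻¹ = (s * z * s⁻¹) * (s * w * s⁻¹) by group, hsz, hsw]
      exact mul_mem hz (mul_mem hw hz)
  set M := normalizer (A : Set G) ⊓ normalizer (Z : Set G)
  have hPM : (P : Subgroup G) ≤ M := le_inf h.S_le_normalizer fun x hx =>
    mem_normalizer_iff.2 fun y => by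
      constructor
      · intro hy; rwa [← h.cen y hy x hx, mul_inv_cancel_right]
      · intro hy
        have h5 := h.cen _ hy x⁻¹ (inv_mem hx)
        have : y = x * y * x⁻¹ := by
          calc y = x⁻¹ * (x * y * x⁻¹) * x := by group
            _ = x * y * x⁻¹ := by rw [← h5]; group
        rwa [this]
  have hsM : s ∈ M := by
    refine mem_inf.2 ⟨mul_mem (mul_mem hn (h.S_le_normalizer (h.hB hb))) (inv_mem hn),
      mem_normalizer_iff.2 fun y => ⟨hsZ y, fun hy => ?_⟩⟩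
    have hs2 : s * s = 1 := by
      calc s * s = n * (b * b) * n⁻¹ := by simp only [s]; group
        _ = 1 := by rw [h.eB b hb]; group
    have := hsZ _ hy
    rwa [show s * (s * y * s⁻¹) * s⁻¹ = (s * s) * y * (s * s)⁻¹ by group, hs2, one_mul, inv_one,
      mul_one] at this
  have h2 : IsPGroup 2 ↥(zpowers (⟨s, hsM⟩ : M)) := IsPGroup.of_card_dvd_pow (n := 1) (by
    rw [Nat.card_zpowers]
    refine orderOf_dvd_of_pow_eq_one (Subtype.ext ?_)
    show s ^ (2 ^ 1) = 1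
    rw [pow_one, pow_two]
    calc s * s = n * (b * b) * n⁻¹ := by simp only [s]; group
      _ = 1 := by rw [h.eB b hb]; group)
  obtain ⟨Q, hQ⟩ := h2.exists_le_sylow
  obtain ⟨m, hm⟩ := MulAction.exists_smul_eq ↥M (P.subtype hPM) Q
  have hs' : s ∈ cj (m : G) (P : Subgroup G) := by
    have hsQ : (⟨s, hsM⟩ : M) ∈ (m • P.subtype hPM : Sylow 2 M) := hm ▸ hQ (mem_zpowers _)
    obtain ⟨y, hy, hye⟩ := hsQ
    refine mem_cj.2 ?_
    have := congrArg Subtype.val hye
    simp at this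
    rw [← this]
    simpa [mul_assoc, Subgroup.mem_subgroupOf] using hy
  have hcom := h.cen _ (conj_mem_of_normalizer (inv_mem (mem_inf.1 m.2).2) hw) _ (mem_cj.1 hs')
  rw [inv_inv] at hcom
  have : s * w = w * s := by
    calc s * w = (m : G) * (((m : G)⁻¹ * s * m) * ((m : G)⁻¹ * w * m)) * (m : G)⁻¹ := by group
      _ = (m : G) * (((m : G)⁻¹ * w * m) * ((m : G)⁻¹ * s * m)) * (m : G)⁻¹ := by rw [hcom]
      _ = w * s := by group
  rw [this, mul_inv_cancel_right] at hsw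
  exact hz1 (mul_left_cancel (a := w) (hsw.symm.trans (mul_one w).symm))

/-- The dichotomy. -/
theorem sType_or_lType : SType A Z ∨ LType A := by
  classical
  by_cases hS : SType A Z
  · exact Or.inl hS
  refine Or.inr ?_
  obtain ⟨n₀, hn₀, hn₀Z⟩ := SetLike.not_le_iff_exists.1 hS
  obtain ⟨Z₁, hn₁, hZ₁⟩ : ∃ Z₁, (Z₁ = cj n₀ Z) ∧ Z₁ ≠ Z := ⟨_, rfl, fun e => hn₀Z (cj_eq_self_iff.1 e)⟩
  have hd : ∀ x ∈ Z₁, x ∈ Z → x = 1 := by
    intro x hx hxZ
    by_contra hx1
    subst hn₁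
    obtain ⟨e1, e2⟩ := h.centre_ti hn₀ hxZ hx1 hx
    exact hZ₁ (le_antisymm e1 e2)
  have hfix : ∀ z ∈ Z, z ≠ 1 → ∀ (hall : ∀ n ∈ normalizer (A : Set G), n * z * n⁻¹ ∈ Z), False := by
    intro z hz hz1 hall
    subst hn₁
    refine hz1 (hd z (mem_cj.2 ?_) hz)
    have := hall _ (inv_mem hn₀)
    rwa [inv_inv] at this
  -- every element outside `Z` is conjugate into `Z`
  have hcov : ∀ v ∈ A, ∃ n ∈ normalizer (A : Set G), n * v * n⁻¹ ∈ Z := by
    intro v hv
    by_cases hvZ : v ∈ Z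
    · exact ⟨1, one_mem _, by simpa using hvZ⟩
    have : Finite A := inferInstance
    obtain ⟨x, hx, hxv⟩ : ∃ x ∈ Z₁, v⁻¹ * x ∈ Z := by
      subst hn₁
      obtain ⟨x₁, hx₁, hx₁1⟩ : ∃ x ∈ cj n₀ Z, x ≠ 1 := by
        suffices hne : cj n₀ Z ≠ ⊥ by
          obtain ⟨x, hx⟩ := Subgroup.ne_bot_iff_exists_ne_one.1 hne
          exact ⟨x, x.2, fun e => hx (OneMemClass.coe_eq_one.1 e)⟩
        intro e
        have := card_cj n₀ Z
        rw [e, Subgroup.card_bot, h.cardZ] at this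
        omega
      obtain ⟨x₂, hx₂, hx₂'⟩ : ∃ x ∈ cj n₀ Z, x ∉ zpowers x₁ := by
        refine SetLike.not_le_iff_exists.1 fun e => ?_
        have h1 := Subgroup.card_dvd_of_le e
        rw [card_cj, h.cardZ, Nat.card_zpowers] at h1
        have h2 : orderOf x₁ ∣ 2 := orderOf_dvd_of_pow_eq_one (by
          rw [pow_two]
          have := h.eZ (mem_cj.1 hx₁)
          calc x₁ * x₁ = n₀ * (n₀⁻¹ * x₁ * n₀ * (n₀⁻¹ * x₁ * n₀)) * n₀⁻¹ := by group
            _ = 1 := by rw [this]; group)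
        have := Nat.le_of_dvd (by norm_num) h2
        have := Nat.le_of_dvd (orderOf_pos x₁) h1
        omega
      have hA₁ : ∀ {x}, x ∈ cj n₀ Z → x ∈ A := fun {x} hx => by
        have := conj_mem_of_normalizer hn₀ (h.hZA (mem_cj.1 hx))
        rwa [show n₀ * (n₀⁻¹ * x * n₀) * n₀⁻¹ = x by group] at this
      have hx₂1 : x₂ ≠ 1 := fun e => hx₂' (e ▸ one_mem _)
      have hsep : x₁⁻¹ * x₂ ∉ Z := fun e => hx₂' (by
        have h1 := hd _ (mul_mem (inv_mem hx₁) hx₂) e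
        rw [inv_mul_eq_one] at h1
        exact h1 ▸ mem_zpowers _)
      rcases h.cosets (hA₁ hx₁) (fun e => hx₁1 (hd _ hx₁ e)) (hA₁ hx₂) (fun e => hx₂1 (hd _ hx₂ e))
        hsep hv with e | e | e | e
      · exact absurd e hvZ
      · exact ⟨x₁, hx₁, by simpa using inv_mem e⟩
      · exact ⟨x₂, hx₂, by simpa using inv_mem e⟩
      · exact ⟨x₁ * x₂, mul_mem hx₁ hx₂, by simpa [mul_assoc] using inv_mem e⟩
    have hxA : x ∈ A := by
      subst hn₁
      have := conj_mem_of_normalizer hn₀ (h.hZA (mem_cj.1 hx))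
      rwa [show n₀ * (n₀⁻¹ * x * n₀) * n₀⁻¹ = x by group] at this
    obtain ⟨b, hb, hbe⟩ := h.exists_move hv hvZ hxv
    rw [mul_inv_cancel_left] at hbe
    subst hn₁
    refine ⟨n₀⁻¹ * b, mul_mem (inv_mem hn₀) (h.S_le_normalizer (h.hB hb)), ?_⟩
    rw [show n₀⁻¹ * b * v * (n₀⁻¹ * b)⁻¹ = n₀⁻¹ * (b * v * b⁻¹) * n₀ by group, hbe]
    exact mem_cj.1 hx
  -- the three elements of `Z` are conjugate
  have hZ : ∀ z ∈ Z, z ≠ 1 → ∀ y ∈ Z, y ≠ 1 →
      ∃ g ∈ normalizer (A : Set G), g * z * g⁻¹ = y := by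
    by_contra hne
    push Not at hne
    obtain ⟨z₀, hz₀, hz₀1, y₀, hy₀, hy₀1, hzy⟩ := hne
    -- no two elements of `Z` are conjugate
    have hnc : ∀ z ∈ Z, z ≠ 1 → ∀ n ∈ normalizer (A : Set G), n * z * n⁻¹ ∈ Z → n * z * n⁻¹ = z := by
      intro z hz hz1 n _ hnz
      by_contra hne'
      obtain ⟨m, hm, hme⟩ := h.conj_Z hz hnz
      obtain ⟨s, hs, e, -, hem, hodd, rfl⟩ := exists_odd_part P hm
      have heZ := h.normalizer_le_Z hem
      have hez : e * z * e⁻¹ = n * z * n⁻¹ := by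
        have hez' := conj_mem_of_normalizer heZ hz
        rw [← hme, show s * e * z * (s * e)⁻¹ = s * (e * z * e⁻¹) * s⁻¹ by group,
          ← h.cen _ hez' s hs, mul_inv_cancel_right]
      obtain ⟨g, hg, hgz⟩ : ∃ g ∈ normalizer (A : Set G), g * z₀ * g⁻¹ = y₀ := by
        -- `e` acts transitively on the involutions of `Z`
        have hw : ∀ y ∈ Z, y ≠ 1 → y = z ∨ y = e * z * e⁻¹ ∨ y = e ^ 2 * z * (e ^ 2)⁻¹ := by
          intro y hy hy1
          by_contra hc
          push Not at hc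
          have he1 : e * z * e⁻¹ ≠ z := hez ▸ hne'
          have hez' := conj_mem_of_normalizer heZ hz
          have he2' := conj_mem_of_normalizer (pow_mem heZ 2) hz
          have he2 : e ^ 2 * z * (e ^ 2)⁻¹ ≠ z := fun e' => by
            obtain ⟨k, hk⟩ := pow_sq_eq hodd
            have h3 : Commute ((e ^ 2) ^ k) z := Commute.pow_left (mul_inv_eq_iff_eq_mul.1 e') k
            rw [hk] at h3
            exact he1 (by rw [h3.eq, mul_inv_cancel_right])
          have he3 : e ^ 2 * z * (e ^ 2)⁻¹ ≠ e * z * e⁻¹ := fun e' => by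
            refine he1 ?_
            rw [pow_two, show e * e * z * (e * e)⁻¹ = e * (e * z * e⁻¹) * e⁻¹ by group] at e'
            exact mul_left_cancel (mul_right_cancel e')
          haveI : Fintype Z := Fintype.ofFinite _
          let t : Finset Z := {1, ⟨z, hz⟩, ⟨_, hez'⟩, ⟨_, he2'⟩, ⟨y, hy⟩}
          have ht : t.card = 5 := by
            simp only [t]
            rw [Finset.card_insert_of_notMem, Finset.card_insert_of_notMem,
              Finset.card_insert_of_notMem, Finset.card_insert_of_notMem, Finset.card_singleton]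
            · simp [Subtype.ext_iff, Ne.symm hc.2.2]
            · simp [Subtype.ext_iff, Ne.symm he3, Ne.symm hc.2.1]
            · simp [Subtype.ext_iff, Ne.symm he1, Ne.symm he2, Ne.symm hc.1]
            · simp [Subtype.ext_iff, Ne.symm hz1, Ne.symm hy1, conj_eq_one_iff, hz1,
                eq_comm (a := (1 : G))]
          have := Finset.card_le_univ t
          rw [ht, ← Nat.card_eq_fintype_card, h.cardZ] at this
          omega
        have heA := h.normalizer_le_A hem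
        have hpow : ∀ y ∈ Z, y ≠ 1 → ∃ g ∈ normalizer (A : Set G), g * z * g⁻¹ = y := by
          intro y hy hy1
          rcases hw y hy hy1 with e' | e' | e'
          · exact ⟨1, one_mem _, by simp [e']⟩
          · exact ⟨e, heA, e'.symm⟩
          · exact ⟨e ^ 2, pow_mem heA 2, e'.symm⟩
        obtain ⟨g₁, hg₁, e₁⟩ := hpow z₀ hz₀ hz₀1
        obtain ⟨g₂, hg₂, e₂⟩ := hpow y₀ hy₀ hy₀1
        exact ⟨g₂ * g₁⁻¹, mul_mem hg₂ (inv_mem hg₁), by rw [← e₁, ← e₂]; group⟩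
      exact hzy g hg hgz
    -- so each of them escapes to one coset, and spans an invariant subgroup of order eight
    have hesc : ∀ z ∈ Z, z ≠ 1 → ∃ u ∈ A, u ∉ Z ∧
        ∀ c ∈ Z, ∃ g ∈ normalizer (A : Set G), g * z * g⁻¹ = u * c := by
      intro z hz hz1
      by_contra hc
      push Not at hc
      refine hfix z hz hz1 fun n hn => ?_
      by_contra hnz
      have hu : n * z * n⁻¹ ∈ A := conj_mem_of_normalizer hn (h.hZA hz)
      obtain ⟨c, hc', hcc⟩ := hc _ hu hnz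
      obtain ⟨b, hb, hbe⟩ := h.exists_move hu hnz hc'
      exact hcc (b * n) (mul_mem (h.S_le_normalizer (h.hB hb)) hn) (by rw [← hbe]; group)
    have hsame : ∀ z ∈ Z, z ≠ 1 → ∀ y ∈ Z, y ≠ 1 → ∀ g ∈ normalizer (A : Set G),
        ∀ k ∈ normalizer (A : Set G), g * z * g⁻¹ = k * y * k⁻¹ → z = y := by
      intro z hz hz1 y hy _ g hg k hk hgk
      have hzy' : k⁻¹ * g * z * (k⁻¹ * g)⁻¹ = y := by
        rw [show k⁻¹ * g * z * (k⁻¹ * g)⁻¹ = k⁻¹ * (g * z * g⁻¹) * k by group, hgk]; group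
      have := hnc z hz hz1 _ (mul_mem (inv_mem hk) hg) (hzy' ▸ hy)
      exact this.symm.trans hzy'
    have hy₀z₀ : z₀ ≠ y₀ := fun e => hzy 1 (one_mem _) (by simp [e])
    have hx₀1 : z₀ * y₀ ≠ 1 := fun e => hy₀z₀ (by
      rw [← h.eZ hz₀] at e; exact (mul_left_cancel e).symm)
    have hxz : z₀ * y₀ ≠ z₀ := fun e => hy₀1 (by simpa using e)
    have hxy : z₀ * y₀ ≠ y₀ := fun e => hz₀1 (by simpa using e)
    obtain ⟨u, hu, huZ, hu'⟩ := hesc z₀ hz₀ hz₀1
    obtain ⟨v, hv, hvZ, hv'⟩ := hesc y₀ hy₀ hy₀1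
    obtain ⟨w, hw, hwZ, hw'⟩ := hesc (z₀ * y₀) (mul_mem hz₀ hy₀) hx₀1
    have hdis : ∀ {z₁ z₂ u₁ u₂ : G}, z₁ ∈ Z → z₁ ≠ 1 → z₂ ∈ Z → z₂ ≠ 1 → z₁ ≠ z₂ →
        (∀ c ∈ Z, ∃ g ∈ normalizer (A : Set G), g * z₁ * g⁻¹ = u₁ * c) →
        (∀ c ∈ Z, ∃ g ∈ normalizer (A : Set G), g * z₂ * g⁻¹ = u₂ * c) → u₁⁻¹ * u₂ ∉ Z := by
      intro z₁ z₂ u₁ u₂ a1 a2 a3 a4 a5 h₁ h₂ hc
      obtain ⟨g, hg, hge⟩ := h₁ _ hc
      obtain ⟨k, hk, hke⟩ := h₂ 1 (one_mem _)
      exact a5 (hsame z₁ a1 a2 z₂ a3 a4 g hg k hk (by rw [hge, hke]; simp))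
    have huv := hdis hz₀ hz₀1 hy₀ hy₀1 hy₀z₀ hu' hv'
    -- the conjugates of `z₀` lie in `Z ∪ u Z`
    have hin : ∀ n ∈ normalizer (A : Set G), n * z₀ * n⁻¹ ∈ Z ∨ u⁻¹ * (n * z₀ * n⁻¹) ∈ Z := by
      intro n hn
      rcases h.cosets hu huZ hv hvZ huv (conj_mem_of_normalizer hn (h.hZA hz₀)) with e | e | e | e
      · exact Or.inl e
      · exact Or.inr e
      · exfalso
        obtain ⟨g, hg, hge⟩ := hv' _ e
        exact hy₀z₀ (hsame z₀ hz₀ hz₀1 y₀ hy₀ hy₀1 n hn g hg (by rw [hge]; group))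
      · exfalso
        rcases h.cosets hu huZ hv hvZ huv hw with e' | e' | e' | e'
        · exact hwZ e'
        · exact hdis hz₀ hz₀1 (mul_mem hz₀ hy₀) hx₀1 (Ne.symm hxz) hu' hw' e'
        · exact hdis hy₀ hy₀1 (mul_mem hz₀ hy₀) hx₀1 (Ne.symm hxy) hv' hw' e'
        · have e2 : w⁻¹ * (n * z₀ * n⁻¹) ∈ Z := by
            rw [show w⁻¹ * (n * z₀ * n⁻¹) =
              ((u * v)⁻¹ * w)⁻¹ * ((u * v)⁻¹ * (n * z₀ * n⁻¹)) by group]
            exact mul_mem (inv_mem e') e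
          obtain ⟨g, hg, hge⟩ := hw' _ e2
          exact hxz (hsame _ (mul_mem hz₀ hy₀) hx₀1 z₀ hz₀ hz₀1 g hg n hn (by rw [hge]; group))
    -- hence `n₀` maps `Z ∪ u Z` to itself
    set W : Subgroup G := Z ⊔ zpowers u
    have hWn : ∀ n ∈ normalizer (A : Set G), n * z₀ * n⁻¹ ∈ W := fun n hn => by
      rcases hin n hn with e | e
      · exact mem_sup_left e
      · have := mul_mem (mem_sup_right (S := Z) (mem_zpowers u)) (mem_sup_left (T := zpowers u) e)
        rwa [mul_inv_cancel_left] at this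
    have hgenW : ∀ x ∈ W, ∀ n ∈ normalizer (A : Set G), n * x * n⁻¹ ∈ W := by
      intro x hx n hn
      suffices W ≤ W.comap (MulAut.conj n).toMonoidHom from this hx
      have hu0 : ∀ c ∈ Z, n * (u * c) * n⁻¹ ∈ W := fun c hc => by
        obtain ⟨g, hg, hge⟩ := hu' c hc
        rw [← hge, show n * (g * z₀ * g⁻¹) * n⁻¹ = n * g * z₀ * (n * g)⁻¹ by group]
        exact hWn _ (mul_mem hn hg)
      refine sup_le (fun c hc => ?_) (zpowers_le.2 ?_)
      · show n * c * n⁻¹ ∈ W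
        rw [show n * c * n⁻¹ = (n * (u * 1) * n⁻¹)⁻¹ * (n * (u * c) * n⁻¹) by group]
        exact mul_mem (inv_mem (hu0 1 (one_mem _))) (hu0 c hc)
      · show n * u * n⁻¹ ∈ W
        simpa using hu0 1 (one_mem _)
    have hWle : ∀ x ∈ W, x ∈ Z ∨ u⁻¹ * x ∈ Z := by
      intro x hx
      have hZn : zpowers u ≤ normalizer (Z : Set G) := zpowers_le.2 (mem_normalizer_iff.2 fun y => by
        constructor
        · intro hy; rwa [← h.cen y hy u (h.hA hu), mul_inv_cancel_right]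
        · intro hy
          have h5 := h.cen _ hy u⁻¹ (inv_mem (h.hA hu))
          have : y = u * y * u⁻¹ := by
            calc y = u⁻¹ * (u * y * u⁻¹) * u := by group
              _ = u * y * u⁻¹ := by rw [← h5]; group
          rwa [this])
      rw [← SetLike.mem_coe, Subgroup.coe_mul_of_right_le_normalizer_left Z (zpowers u) hZn] at hx
      obtain ⟨c, hc, p, ⟨k, rfl⟩, rfl⟩ := hx
      simp only
      rcases Int.even_or_odd k with ⟨j, rfl⟩ | ⟨j, rfl⟩
      · left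
        rw [← two_mul, zpow_mul, show u ^ (2 : ℤ) = 1 by rw [zpow_two, h.eA u hu], one_zpow, mul_one]
        exact hc
      · right
        rw [zpow_add, zpow_mul, show u ^ (2 : ℤ) = 1 by rw [zpow_two, h.eA u hu], one_zpow, one_mul,
          zpow_one, h.cen c hc u (h.hA hu), inv_mul_cancel_left]
        exact hc
    subst hn₁
    -- two disjoint four-groups do not fit into `Z ∪ u Z`
    obtain ⟨c, hc, hc1, d, hdd, hd1, hcd⟩ : ∃ c ∈ Z, c ≠ 1 ∧ ∃ d ∈ Z, d ≠ 1 ∧ c ≠ d :=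
      ⟨z₀, hz₀, hz₀1, y₀, hy₀, hy₀1, hy₀z₀⟩
    have hin2 : ∀ c ∈ Z, c ≠ 1 → u⁻¹ * (n₀ * c * n₀⁻¹) ∈ Z := by
      intro c hc hc1
      refine (hWle _ (hgenW c (mem_sup_left hc) n₀ hn₀)).resolve_left fun e => ?_
      have := hd _ (mem_cj_of n₀ hc) e
      exact hc1 (by simpa using this)
    have h6 := mul_mem (inv_mem (hin2 c hc hc1)) (hin2 d hdd hd1)
    rw [show (u⁻¹ * (n₀ * c * n₀⁻¹))⁻¹ * (u⁻¹ * (n₀ * d * n₀⁻¹)) = n₀ * (c⁻¹ * d) * n₀⁻¹ by group] at h6
    have h7 := hd _ (mem_cj_of n₀ (mul_mem (inv_mem hc) hdd)) h6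
    exact hcd (inv_mul_eq_one.1 (by simpa using h7))
  intro a ha ha1 b hb hb1
  obtain ⟨n, hn, hna⟩ := hcov a ha
  obtain ⟨m, hm, hmb⟩ := hcov b hb
  obtain ⟨g, hg, hge⟩ := hZ _ hna (by simpa using ha1) _ hmb (by simpa using hb1)
  refine ⟨m⁻¹ * g * n, mul_mem (mul_mem (inv_mem hm) hg) hn, ?_⟩
  calc m⁻¹ * g * n * a * (m⁻¹ * g * n)⁻¹ = m⁻¹ * (g * (n * a * n⁻¹) * g⁻¹) * m := by group
    _ = b := by rw [hge]; group

end Shape

end CfsgLib.SylL34
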