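import Cfsg.Agent.S0205
import Cfsg.Agent.Lib.Invol.BrauerSuzuki
import Cfsg.Agent.Lib.Invol.Isolated
import Cfsg.Agent.Lib.Fusion.ZStarCenter
import Cfsg.Agent.Lib.SylLThreeFour.Orbit
import Cfsg.Agent.Lib.SylLThreeFour.Functor

/-!
Centralizers of the involutions of the centre: modulo the odd core the Sylow subgroup is normal.
-/

set_option autoImplicit false

namespace CfsgLib.SylL34

open Subgroup CfsgLib.Recog.LThreeFour

universe u v

variable {G : Type u} [Group G]

namespace Shape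

/-- The image of a shape under a homomorphism injective on it. -/
theorem map {S A B Z : Subgroup G} (h : Shape S A B Z) {H : Type v} [Group H] (f : G →* H)
    (hf : ∀ x ∈ S, f x = 1 → x = 1) : Shape (S.map f) (A.map f) (B.map f) (Z.map f) := by
  have hinj : ∀ x ∈ S, ∀ y ∈ S, f x = f y → x = y := fun x hx y hy e => by
    refine (inv_mul_eq_one.1 (hf _ (mul_mem (inv_mem hx) hy) ?_))
    rw [map_mul, map_inv, e, inv_mul_cancel]
  have hcard : ∀ K : Subgroup G, K ≤ S → Nat.card (K.map f) = Nat.card K := fun K hK =>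
    (Nat.card_congr (Equiv.ofBijective (fun x : K => (⟨f x, x, x.2, rfl⟩ : K.map f))
      ⟨fun x y e => Subtype.ext (hinj x (hK x.2) y (hK y.2) (congrArg Subtype.val e)),
        fun ⟨_, x, hx, e⟩ => ⟨⟨x, hx⟩, Subtype.ext e⟩⟩)).symm
  constructor
  · rw [hcard S le_rfl, h.cardS]
  · exact map_mono h.hA
  · exact map_mono h.hB
  · rintro _ ⟨a, ha, rfl⟩; rw [← map_mul, h.eA a ha, map_one]
  · rintro _ ⟨a, ha, rfl⟩; rw [← map_mul, h.eB a ha, map_one]
  · rw [hcard A h.hA, h.cardA]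
  · rw [hcard B h.hB, h.cardB]
  · refine le_antisymm ?_ (le_inf (map_mono h.hZA) (map_mono h.hZB))
    rintro _ ⟨⟨a, ha, rfl⟩, b, hb, e⟩
    obtain rfl : b = a := hinj b (h.hB hb) a (h.hA ha) e
    exact ⟨b, h.mem_Z ha hb, rfl⟩
  · rw [hcard Z h.hZS, h.cardZ]
  · rintro _ ⟨s, hs, rfl⟩ h2
    rw [← map_mul] at h2
    rcases h.invol s hs (hf _ (mul_mem hs hs) h2) with e | e
    · exact Or.inl ⟨s, e, rfl⟩
    · exact Or.inr ⟨s, e, rfl⟩
  · rintro _ ⟨z, hz, rfl⟩ _ ⟨s, hs, rfl⟩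
    rw [← map_mul, ← map_mul, h.cen z hz s hs]
  · rintro _ ⟨a, ha, rfl⟩ _ ⟨b, hb, rfl⟩
    exact ⟨_, h.comm a ha b hb, by simp [map_mul, map_inv]⟩

/-- The shape inside a subgroup containing it. -/
theorem restrict {S A B Z : Subgroup G} (h : Shape S A B Z) (K : Subgroup G) (hSK : S ≤ K) :
    Shape (S.subgroupOf K) (A.subgroupOf K) (B.subgroupOf K) (Z.subgroupOf K) := by
  have hcard : ∀ H : Subgroup G, H ≤ S → Nat.card (H.subgroupOf K) = Nat.card H := fun H hH =>
    Nat.card_congr (subgroupOfEquivOfLe (hH.trans hSK)).toEquiv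
  constructor
  · rw [hcard S le_rfl, h.cardS]
  · exact fun x hx => h.hA hx
  · exact fun x hx => h.hB hx
  · exact fun x hx => Subtype.ext (h.eA _ hx)
  · exact fun x hx => Subtype.ext (h.eB _ hx)
  · rw [hcard A h.hA, h.cardA]
  · rw [hcard B h.hB, h.cardB]
  · ext x; simp [mem_subgroupOf, ← h.inter]
  · rw [hcard Z h.hZS, h.cardZ]
  · exact fun x hx h2 => h.invol _ hx (congrArg Subtype.val h2)
  · exact fun z hz s hs => Subtype.ext (h.cen _ hz _ hs)
  · exact fun a ha b hb => h.comm _ ha _ hb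

variable {S A B Z : Subgroup G} (h : Shape S A B Z)
include h

/-- The squares of the elements of the group lie in the centre. -/
theorem sq_mem {s : G} (hs : s ∈ S) : s * s ∈ Z := by
  obtain ⟨a, ha, b, hb, rfl⟩ := h.exists_mul hs
  rw [show a * b * (a * b) = a * b * a⁻¹ * b⁻¹ by
    rw [inv_eq_of_mul_eq_one_right (h.eA a ha), inv_eq_of_mul_eq_one_right (h.eB b hb)]; group]
  exact h.comm a ha b hb

/-- Fixing the coset of `a * b` means fixing those of `a` and `b`. -/
theorem fixes_split {g a b : G} (hgA : g ∈ normalizer (A : Set G))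
    (hgB : g ∈ normalizer (B : Set G)) (ha : a ∈ A) (hb : b ∈ B) (hfix : Fixes Z g (a * b)) :
    Fixes Z g a ∧ Fixes Z g b := by
  unfold Fixes at *
  set a' := g * a * g⁻¹ with ha'
  set b' := g * b * g⁻¹ with hb'
  have ha'A : a' ∈ A := conj_mem_of_normalizer hgA ha
  have hb'B : b' ∈ B := conj_mem_of_normalizer hgB hb
  have hA1 : a⁻¹ * a' ∈ A := mul_mem (inv_mem ha) ha'A
  have hc : b⁻¹ * (a⁻¹ * a') * b' ∈ Z := by
    rw [show b⁻¹ * (a⁻¹ * a') * b' = (a * b)⁻¹ * (g * (a * b) * g⁻¹) by simp [ha', hb']; group]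
    exact hfix
  have h1 : a⁻¹ * a' ∈ Z := by
    refine h.mem_Z hA1 ?_
    rw [show a⁻¹ * a' = b * (b⁻¹ * (a⁻¹ * a') * b') * b'⁻¹ by group]
    exact mul_mem (mul_mem hb (h.hZB hc)) (inv_mem hb'B)
  refine ⟨h1, ?_⟩
  have h2 : b⁻¹ * (a⁻¹ * a') = a⁻¹ * a' * b⁻¹ := (h.cen _ h1 _ (inv_mem (h.hB hb))).symm
  rw [h2, mul_assoc] at hc
  simpa [mul_assoc] using mul_mem (inv_mem h1) hc

end Shape

/-- A Sylow subgroup of an abelian quotient controls fusion. -/
theorem exists_normalizer_conj [Finite G] (P : Sylow 2 G)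
    (hab : ∀ a ∈ (P : Subgroup G), ∀ b ∈ (P : Subgroup G), a * b = b * a) {x g : G}
    (hx : x ∈ (P : Subgroup G)) (hgx : g * x * g⁻¹ ∈ (P : Subgroup G)) :
    ∃ n ∈ normalizer ((P : Subgroup G) : Set G), n * x * n⁻¹ = g * x * g⁻¹ := by
  have := twoFact
  have hc : ∀ {y : G}, y ∈ (P : Subgroup G) → y ∈ centralizer ((P : Subgroup G) : Set G) :=
    fun {y} hy => mem_centralizer_iff.2 fun s hs => hab s hs y hy
  obtain ⟨n, hn, he⟩ := P.conj_eq_normalizer_conj_of_mem_centralizer x g⁻¹ (hc hx)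
    (by rw [inv_inv]; exact hc hgx)
  exact ⟨n⁻¹, inv_mem hn, by rw [inv_inv] at he ⊢; exact he.symm⟩

namespace Shape

variable [Finite G] {P : Sylow 2 G} {A B Z : Subgroup G} (h : Shape (P : Subgroup G) A B Z)
include h

/-- An element of the normalizer of the Sylow subgroup fixing one involution of `Z` centralizes
`Z`. -/
theorem normalizer_fix_Z {n z : G} (hn : n ∈ normalizer ((P : Subgroup G) : Set G)) (hz : z ∈ Z)
    (hz1 : z ≠ 1) (hfix : n * z = z * n) {y : G} (hy : y ∈ Z) : n * y = y * n := by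
  obtain ⟨s, hs, e, -, hen, hodd, rfl⟩ := exists_odd_part P hn
  have hez : e * z = z * e := by
    refine mul_left_cancel (a := s) ?_
    rw [← mul_assoc, hfix, ← mul_assoc, ← mul_assoc, h.cen z hz s hs]
  rw [mul_assoc, h.fix_Z hodd (h.normalizer_le_Z hen) hz hz1 hez hy, ← mul_assoc,
    ← h.cen y hy s hs, mul_assoc]

/-- Two subgroups normalizing the centre with no fusion in it: its elements are isolated. -/
theorem central_of_isolated (hO : Cfsg.oddCore G = ⊥) (hA : SType A Z) (hB : SType B Z)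
    (hN : ∀ n ∈ normalizer ((P : Subgroup G) : Set G), ∀ y ∈ Z, n * y = y * n) :
    Z ≤ center G := by
  intro z hz
  refine mem_center_iff.2 fun g => ?_
  by_cases hz1 : z = 1
  · simp [hz1]
  have hiso : ∀ g : G, g * z * g⁻¹ ∈ P → g * z * g⁻¹ = z := by
    intro g hg
    have h2 : g * z * g⁻¹ * (g * z * g⁻¹) = 1 := by
      rw [show g * z * g⁻¹ * (g * z * g⁻¹) = g * (z * z) * g⁻¹ by group, h.eZ hz]; group
    have hgZ : g * z * g⁻¹ ∈ Z := by
      rcases h.invol _ hg h2 with e | e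
      · obtain ⟨n, hn, he⟩ := h.conj_normalizer (h.hZA hz) e
        exact he ▸ conj_mem_of_normalizer (hA hn) hz
      · obtain ⟨n, hn, he⟩ := h.symm.conj_normalizer (h.hZB hz) e
        exact he ▸ conj_mem_of_normalizer (hB hn) hz
    obtain ⟨n, hn, he⟩ := h.conj_Z hz hgZ
    rw [← he, hN n hn z hz, mul_inv_cancel_right]
  have hz2 : orderOf z = 2 := CfsgLib.Invol.invol_of_mul_self (h.eZ hz) hz1
  have := CfsgLib.Invol.zstar G (CfsgLib.Invol.isolated_of_sylow P hz2 (h.hZS hz) hiso) g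
  rw [hO, mem_bot, mul_inv_eq_one, mul_inv_eq_iff_eq_mul] at this
  exact this.symm

/-- If the centre of the Sylow subgroup is central, that subgroup is normal. -/
theorem normal_of_central (hO : Cfsg.oddCore G = ⊥) (hZc : Z ≤ center G) :
    (P : Subgroup G).Normal := by
  have := twoFact
  haveI hZn : Z.Normal := ⟨fun z hz g => by
    rw [← (mem_center_iff.1 (hZc hz) g).symm, mul_inv_cancel_right]; exact hz⟩
  let π := QuotientGroup.mk' Z
  have hπ : Function.Surjective π := QuotientGroup.mk'_surjective Z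
  let T : Sylow 2 (G ⧸ Z) := P.mapSurjective hπ
  have hTe : (T : Subgroup (G ⧸ Z)) = (P : Subgroup G).map π := rfl
  have hT : ∀ {x : G}, π x ∈ (T : Subgroup (G ⧸ Z)) → x ∈ (P : Subgroup G) := by
    rintro x ⟨s, hs, e⟩
    have : s⁻¹ * x ∈ Z := QuotientGroup.eq.1 e
    simpa using mul_mem (show s ∈ (P : Subgroup G) from hs) (h.hZS this)
  have hsq : ∀ x ∈ (T : Subgroup (G ⧸ Z)), x * x = 1 := by
    rintro _ ⟨s, hs, rfl⟩
    rw [← map_mul]
    exact (QuotientGroup.eq_one_iff _).2 (h.sq_mem hs)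
  have hab : ∀ a ∈ (T : Subgroup (G ⧸ Z)), ∀ b ∈ (T : Subgroup (G ⧸ Z)), a * b = b * a :=
    fun a ha b hb => comm_of_sq hsq ha hb
  have helem : Cfsg.IsElementaryAbelian 2 (T : Subgroup (G ⧸ Z)) :=
    ⟨⟨⟨fun x y => Subtype.ext (hab x x.2 y y.2)⟩⟩, fun b hb => by rw [pow_two]; exact hsq b hb⟩
  have h16 : Nat.card (T : Subgroup (G ⧸ Z)) = 16 := by
    have e := (π.subgroupMap (P : Subgroup G)).ker.card_eq_card_quotient_mul_card_subgroup
    have hk : (π.subgroupMap (P : Subgroup G)).ker = Z.subgroupOf (P : Subgroup G) := by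
      ext x
      rw [MonoidHom.mem_ker, mem_subgroupOf, Subtype.ext_iff]
      exact QuotientGroup.eq_one_iff (x : G)
    rw [h.cardS, Nat.card_congr (QuotientGroup.quotientKerEquivOfSurjective _
      (π.subgroupMap_surjective (P : Subgroup G))).toEquiv, hk,
      Nat.card_congr (subgroupOfEquivOfLe h.hZS).toEquiv, h.cardZ] at e
    rw [hTe]
    omega
  have hO' : Cfsg.oddCore (G ⧸ Z) = ⊥ := by
    haveI : (Cfsg.oddCore (G ⧸ Z)).Normal := CfsgLib.Solvable.pPrimeCore_normal 2 _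
    set R := Cfsg.oddCore (G ⧸ Z) with hR
    have hM : R.comap π ≤ Z := by
      refine CfsgLib.Fusion.le_of_central_of_odd hO inferInstance (fun x hx => ?_) hZc ?_
      · show π x ∈ R
        rw [(QuotientGroup.eq_one_iff x).2 hx |> (fun e => (e : π x = 1))]
        exact one_mem R
      · have : Z.relIndex (R.comap π) = Nat.card R := by
          have hb : (⊥ : Subgroup (G ⧸ Z)).comap π = Z := QuotientGroup.ker_mk' Z
          refine (congrArg (fun K : Subgroup G => K.relIndex (R.comap π)) hb.symm).trans ?_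
          show ((⊥ : Subgroup (G ⧸ Z)).comap π).relIndex (R.comap π) = _
          rw [relIndex_comap, map_comap_eq_self_of_surjective hπ, relIndex_bot_left]
        rw [this]; exact CfsgLib.Invol.odd_card_oddCore _
    refine eq_bot_iff.2 fun x hx => ?_
    obtain ⟨x, rfl⟩ := hπ x
    exact (QuotientGroup.eq_one_iff x).2 (hM hx)
  -- the normalizer of the quotient acts semiregularly
  have hfix : ∀ g ∈ normalizer ((T : Subgroup (G ⧸ Z)) : Set (G ⧸ Z)),
      ∀ x ∈ (T : Subgroup (G ⧸ Z)), x ≠ 1 → g * x = x * g →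
      g ∈ centralizer ((T : Subgroup (G ⧸ Z)) : Set (G ⧸ Z)) := by
    intro g hg x hx hx1 hgx
    obtain ⟨g, rfl⟩ := hπ g
    obtain ⟨y, hy, rfl⟩ := hx
    have hgP : g ∈ normalizer ((P : Subgroup G) : Set G) := mem_normalizer_iff.2 fun w =>
      ⟨fun hw => hT (by simpa using (mem_normalizer_iff.1 hg (π w)).1 ⟨w, hw, rfl⟩),
        fun hw => hT ((mem_normalizer_iff.1 hg (π w)).2 ⟨_, hw, by simp⟩)⟩
    obtain ⟨t, ht, e, -, hen, hodd, rfl⟩ := exists_odd_part P hgP
    obtain ⟨a, ha, b, hb, rfl⟩ := h.exists_mul hy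
    have hab' : π t * π (a * b) = π (a * b) * π t := hab _ ⟨t, ht, rfl⟩ _ ⟨_, hy, rfl⟩
    have hfe : Fixes Z e (a * b) := by
      refine (QuotientGroup.eq_one_iff _).1 ?_
      have h1 : π e * π (a * b) = π (a * b) * π e := by
        refine mul_left_cancel (a := π t) ?_
        rw [← mul_assoc, ← map_mul π t e, hgx, map_mul π t e, ← mul_assoc, ← hab', mul_assoc]
      show π ((a * b)⁻¹ * (e * (a * b) * e⁻¹)) = 1
      rw [map_mul, map_inv, map_mul π (e * (a * b)) e⁻¹, map_mul π e (a * b), map_inv, h1,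
        mul_inv_cancel_right, inv_mul_cancel]
    obtain ⟨hfa, hfb⟩ := h.fixes_split (h.normalizer_le_A hen) (h.symm.normalizer_le_A hen) ha hb hfe
    have heZ := h.normalizer_le_Z hen
    have hcZ : ∀ w ∈ Z, e * w = w * e := fun w hw => (mem_center_iff.1 (hZc hw) e)
    obtain ⟨hallA, hallB⟩ : (∀ w ∈ A, Fixes Z e w) ∧ ∀ w ∈ B, Fixes Z e w := by
      by_cases haZ : a ∈ Z
      · have hbZ : b ∉ Z := fun hbZ => hx1 ((QuotientGroup.eq_one_iff _).2 (mul_mem haZ hbZ))
        exact ⟨fun w hw => h.symm.fix_other (h.normalizer_le_A hen) hcZ hb hbZ hfb hw,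
          fun w hw => h.symm.fix_coset hodd (h.symm.normalizer_le_A hen) heZ hb hbZ hfb hw⟩
      · exact ⟨fun w hw => h.fix_coset hodd (h.normalizer_le_A hen) heZ ha haZ hfa hw,
          fun w hw => h.fix_other (h.symm.normalizer_le_A hen) hcZ ha haZ hfa hw⟩
    refine mem_centralizer_iff.2 ?_
    rintro _ ⟨w, hw, rfl⟩
    obtain ⟨a', ha', b', hb', rfl⟩ := h.exists_mul hw
    have key : ∀ w, Fixes Z e w → π e * π w = π w * π e := fun w hw => by
      have h1 : π (w⁻¹ * (e * w * e⁻¹)) = 1 := (QuotientGroup.eq_one_iff _).2 hw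
      rw [map_mul, map_inv, inv_mul_eq_one, map_mul, map_mul, map_inv, eq_mul_inv_iff_mul_eq] at h1
      exact h1.symm
    have k1 : π e * π (a' * b') = π (a' * b') * π e := by
      rw [map_mul, ← mul_assoc, key _ (hallA a' ha'), mul_assoc, key _ (hallB b' hb'), mul_assoc]
    rw [map_mul π t e, ← mul_assoc, hab _ ⟨_, hw, rfl⟩ _ ⟨t, ht, rfl⟩, mul_assoc, ← k1, mul_assoc]
  obtain ⟨a, ha, haZ⟩ := h.exists_A_not_Z
  obtain ⟨b, hb, hbZ⟩ := h.symm.exists_A_not_Z
  have hxy : ¬ IsConj (π a) (π b) := by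
    intro hc
    obtain ⟨g, hg⟩ := isConj_iff.1 hc
    obtain ⟨n, hn, hne⟩ := exists_normalizer_conj T hab (x := π a) (g := g) ⟨a, h.hA ha, rfl⟩
      (by rw [hg]; exact ⟨b, h.hB hb, rfl⟩)
    obtain ⟨n, rfl⟩ := hπ n
    rw [hg] at hne
    have hnP : n ∈ normalizer ((P : Subgroup G) : Set G) := mem_normalizer_iff.2 fun w =>
      ⟨fun hw => hT (by simpa using (mem_normalizer_iff.1 hn (π w)).1 ⟨w, hw, rfl⟩),
        fun hw => hT ((mem_normalizer_iff.1 hn (π w)).2 ⟨_, hw, by simp⟩)⟩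
    have h1 : b⁻¹ * (n * a * n⁻¹) ∈ Z := by
      refine QuotientGroup.eq.1 ?_
      rw [show ((n * a * n⁻¹ : G) : G ⧸ Z) = π n * π a * (π n)⁻¹ by simp [π]]
      exact hne.symm
    have h2 : n * a * n⁻¹ ∈ Z := h.mem_Z (conj_mem_of_normalizer (h.normalizer_le_A hnP) ha)
      (by simpa using mul_mem hb (h.hZB h1))
    have h3 := mul_mem h2 (inv_mem h1)
    rw [show n * a * n⁻¹ * (b⁻¹ * (n * a * n⁻¹))⁻¹ = b by group] at h3
    exact hbZ h3
  have hne : ∀ {w : G}, w ∉ Z → π w ≠ 1 := fun hw e => hw ((QuotientGroup.eq_one_iff _).1 e)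
  haveI := abelian_sylow_normal T helem h16 hO' hfix ⟨a, h.hA ha, rfl⟩ (hne haZ)
    ⟨b, h.hB hb, rfl⟩ (hne hbZ) hxy
  exact ⟨fun s hs g => hT (by
    simpa using Subgroup.Normal.conj_mem (H := (T : Subgroup (G ⧸ Z))) inferInstance _
      ⟨s, hs, rfl⟩ (π g))⟩

/-- A central involution of `Z` forces the Sylow subgroup to be normal. -/
theorem central_reduce (hO : Cfsg.oddCore G = ⊥) {z : G} (hz : z ∈ Z) (hz1 : z ≠ 1)
    (hc : ∀ g : G, g * z = z * g) : (P : Subgroup G).Normal := by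
  have key : ∀ {A B : Subgroup G}, Shape (P : Subgroup G) A B Z → SType A Z := by
    intro A B h
    refine h.sType_or_lType.resolve_right fun hL => ?_
    obtain ⟨a, ha, haZ⟩ := h.exists_A_not_Z
    obtain ⟨g, -, hg⟩ := hL z (h.hZA hz) hz1 a ha (fun e => haZ (e ▸ one_mem _))
    rw [hc g, mul_inv_cancel_right] at hg
    exact haZ (hg ▸ hz)
  exact h.normal_of_central hO (h.central_of_isolated hO (key h) (key h.symm)
    fun n hn y hy => h.normalizer_fix_Z hn hz hz1 (hc n) hy)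

theorem le_cent_Z {z : G} (hz : z ∈ Z) : (P : Subgroup G) ≤ centralizer ({z} : Set G) :=
  fun s hs => mem_centralizer_singleton_iff.2 (h.cen z hz s hs).symm

/-- Modulo its odd core the centralizer of an involution of `Z` has a normal Sylow subgroup. -/
theorem cent_Z_sylow_normal {z : G} (hz : z ∈ Z) (hz1 : z ≠ 1) :
    ((P.subtype (h.le_cent_Z hz) : Subgroup ↥(centralizer ({z} : Set G))).map
      (QuotientGroup.mk' (Cfsg.oddCore ↥(centralizer ({z} : Set G))))).Normal := by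
  have := twoFact
  set C := centralizer ({z} : Set G)
  set O := Cfsg.oddCore C
  haveI : O.Normal := CfsgLib.Solvable.pPrimeCore_normal 2 C
  let T : Sylow 2 C := P.subtype (h.le_cent_Z hz)
  let T' : Sylow 2 (C ⧸ O) := T.mapSurjective (QuotientGroup.mk'_surjective O)
  have hdis : ∀ x ∈ (T : Subgroup C), QuotientGroup.mk' O x = 1 → x = 1 := by
    intro x hx h1
    have hxO : x ∈ O := (QuotientGroup.eq_one_iff x).1 h1
    obtain ⟨k, hk⟩ := IsPGroup.iff_orderOf.1 T.2 ⟨x, hx⟩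
    have h2 := orderOf_dvd_natCard O hxO
    rw [← orderOf_eq_one_iff]
    rw [Subgroup.orderOf_mk] at hk
    rcases k with _ | k
    · simpa using hk
    · exfalso
      refine Nat.not_even_iff_odd.2 (CfsgLib.Invol.odd_card_oddCore C)
        (even_iff_two_dvd.2 (dvd_trans ?_ h2))
      rw [hk, pow_succ]
      exact dvd_mul_left 2 _
  have h' : Shape (T' : Subgroup (C ⧸ O)) _ _ _ :=
    (h.restrict C (h.le_cent_Z hz)).map (QuotientGroup.mk' O) hdis
  have hzC : z ∈ C := mem_centralizer_singleton_iff.2 rfl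
  refine h'.central_reduce (z := QuotientGroup.mk' O ⟨z, hzC⟩)
    CfsgLib.Fusion.oddCore_quotient_oddCore ⟨⟨z, hzC⟩, hz, rfl⟩ ?_ ?_
  · intro e
    exact hz1 (congrArg Subtype.val (hdis ⟨z, hzC⟩ (h.hZS hz) e))
  · intro g
    obtain ⟨g, rfl⟩ := QuotientGroup.mk'_surjective O g
    rw [← map_mul, ← map_mul]
    exact congrArg _ (Subtype.ext (mem_centralizer_singleton_iff.1 g.2))

/-- The centralizer of an involution of `Z`. -/
theorem cent_Z_le {z : G} (hz : z ∈ Z) (hz1 : z ≠ 1) :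
    centralizer ({z} : Set G) ≤ Cfsg.centralizerPPrimeCore 2 z ⊔
      (normalizer ((P : Subgroup G) : Set G) ⊓ centralizer ({z} : Set G)) := by
  have := twoFact
  have hnn := h.cent_Z_sylow_normal hz hz1
  set C := centralizer ({z} : Set G) with hC
  set O := Cfsg.oddCore C
  haveI : O.Normal := CfsgLib.Solvable.pPrimeCore_normal 2 C
  let T : Sylow 2 C := P.subtype (h.le_cent_Z hz)
  let N := ((T : Subgroup C).map (QuotientGroup.mk' O)).comap (QuotientGroup.mk' O)
  haveI : N.Normal := hnn.comap _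
  have hTN : (T : Subgroup C) ≤ N := le_comap_map _ _
  have htop : normalizer ((T : Subgroup C) : Set C) ⊔ O = ⊤ := by
    rw [eq_top_iff, ← Sylow.normalizer_sup_eq_top' T hTN]
    refine sup_le le_sup_left fun x hx => ?_
    rw [show N = (T : Subgroup C) ⊔ O from by
      simp only [N, comap_map_eq, QuotientGroup.ker_mk']] at hx
    exact (sup_le_sup_right le_normalizer O) hx
  intro c hc
  obtain ⟨n, hn, o, ho, e⟩ := mem_sup_of_normal_right.1 (htop.symm ▸ mem_top (⟨c, hc⟩ : C))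
  rw [← show (n : G) * o = c from congrArg Subtype.val e]
  refine mul_mem (mem_sup_right (mem_inf.2 ⟨?_, n.2⟩)) (mem_sup_left ⟨o, ho, rfl⟩)
  refine mem_normalizer_iff.2 fun w => ⟨fun hw => ?_, fun hw => ?_⟩
  · exact mem_subgroupOf.1 ((mem_normalizer_iff.1 hn ⟨w, h.le_cent_Z hz hw⟩).1 hw)
  · have hwC : w ∈ C := by
      have := mul_mem (mul_mem (inv_mem n.2) (h.le_cent_Z hz hw)) n.2
      simpa [mul_assoc] using this
    exact mem_subgroupOf.1 ((mem_normalizer_iff.1 hn ⟨w, hwC⟩).2 hw)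

theorem cent_Z_solvable {z : G} (hz : z ∈ Z) (hz1 : z ≠ 1) :
    Group.IsSolvable ↥(centralizer ({z} : Set G)) := by
  have := twoFact
  haveI hnn := h.cent_Z_sylow_normal hz hz1
  set C := centralizer ({z} : Set G)
  set O := Cfsg.oddCore C
  haveI : O.Normal := CfsgLib.Solvable.pPrimeCore_normal 2 C
  haveI : Group.IsSolvable O := Cfsg.Agent.S0205.result (CfsgLib.Invol.odd_card_oddCore C)
  set T : Sylow 2 C := P.subtype (h.le_cent_Z hz)
  let T' : Sylow 2 (C ⧸ O) := T.mapSurjective (QuotientGroup.mk'_surjective O)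
  haveI : (T' : Subgroup (C ⧸ O)).Normal := hnn
  haveI := T'.2.isNilpotent
  haveI : Group.IsSolvable ((C ⧸ O) ⧸ (T' : Subgroup (C ⧸ O))) := Cfsg.Agent.S0205.result (by
    rw [← index_eq_card, ← Nat.not_even_iff_odd, even_iff_two_dvd]; exact T'.not_dvd_index)
  haveI : Group.IsSolvable (C ⧸ O) := Group.isSolvable_of_ker_le_range
    (T' : Subgroup (C ⧸ O)).subtype (QuotientGroup.mk' (T' : Subgroup (C ⧸ O)))
    (by rw [QuotientGroup.ker_mk', range_subtype])
  exact Group.isSolvable_of_ker_le_range O.subtype (QuotientGroup.mk' O)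
    (by rw [QuotientGroup.ker_mk', range_subtype])

end Shape

end CfsgLib.SylL34
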