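import Cfsg.Agent.Lib.BlockA.KleinOrder
import Cfsg.Agent.Lib.BlockB.PModular
import Cfsg.Agent.Lib.BlockB.MinimalNormalExt
import Cfsg.Agent.S0948
import Cfsg.Agent.S0202
import Cfsg.Agent.S0203

/-!
The order formula of a perfect group with a Klein four Sylow 2-subgroup: the number of involutions
lies between `6 k²` and `15 k²`, where `k` is the index of `C(P)` in `C(z)`.
-/

set_option autoImplicit false

namespace CfsgLib.SylL34

open Subgroup

universe u

/-- The nontrivial irreducible characters of a perfect group are not linear. -/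
theorem charDegree_ne_one_of_perfect {G : Type u} [Group G] [Finite G] (hperf : commutator G = ⊤)
    {χ : Cfsg.IrrCharacter G} (hχ : (χ : G → ℂ) ≠ fun _ => 1) :
    Cfsg.charDegree (χ : G → ℂ) ≠ 1 := by
  haveI := Fintype.ofFinite G
  intro h
  refine hχ (funext fun g => ?_)
  set μ := CfsgLib.BlockB.MinimalNormalExt.linearDegreeEquiv.symm ⟨χ, h⟩
  have hg : g ∈ μ.ker := Abelianization.commutator_subset_ker μ (hperf ▸ mem_top g)
  have h1 := CfsgLib.BlockB.MinimalNormalExt.linearDegreeEquiv_apply μ g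
  rw [Equiv.apply_symm_apply, MonoidHom.mem_ker.1 hg, Units.val_one] at h1
  exact h1

/-- A perfect group with a Klein four Sylow 2-subgroup has one class of involutions. -/
theorem one_class_of_perfect {G : Type u} [Group G] [Finite G] (P : Sylow 2 G)
    (hP : IsKleinFour (P : Subgroup G)) (hperf : commutator G = ⊤) :
    ∀ s t : G, orderOf s = 2 → orderOf t = 2 → IsConj s t := by
  have h1 : Nat.card {C : ConjClasses G // ∃ t : G, orderOf t = 2 ∧ ConjClasses.mk t = C} = 1 := by
    refine (Cfsg.Agent.S0202.result P hP).resolve_right fun h3 => ?_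
    obtain ⟨N, hN, hc⟩ := (Cfsg.Agent.S0203.result P hP).1 h3
    haveI := hN
    haveI := IsKleinFour.isMulCommutative (G := (P : Subgroup G))
    have htop : N = ⊤ := by
      rw [eq_top_iff, ← hperf]
      refine hN.commutator_le_of_self_sup_commutative_eq_top
        (H := (P : Subgroup G)) hc.sup_eq_top inferInstance
    have hcard := hc.card_mul_card
    rw [htop, Subgroup.card_top, hP.card_four] at hcard
    have := Nat.card_pos (α := G)
    omega
  intro s t hs ht
  obtain ⟨hsub, -⟩ := Nat.card_eq_one_iff_unique.1 h1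
  exact ConjClasses.mk_eq_mk_iff_isConj.1 (congrArg Subtype.val
    (Subsingleton.elim (⟨ConjClasses.mk s, s, hs, rfl⟩ :
      {C : ConjClasses G // ∃ t : G, orderOf t = 2 ∧ ConjClasses.mk t = C})
      ⟨ConjClasses.mk t, t, ht, rfl⟩))

/-- The arithmetic of the degrees of the principal 2-block. -/
theorem degree_bounds {a b c ε : ℤ} (hε : ε = 1 ∨ ε = -1) (ha : 5 ≤ a) (hb : 3 ≤ b)
    (hb' : ε = 1 → 5 ≤ b) (hc : 3 ≤ c) (hrel : 1 + a + ε * b - c = 0) :
    0 < (a + 1) * (b + ε) * (c - 1) ∧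
      3 * ((a + 1) * (b + ε) * (c - 1)) < 4 * (a * b * c) ∧
      8 * (a * b * c) ≤ 15 * ((a + 1) * (b + ε) * (c - 1)) := by
  rcases hε with rfl | rfl
  · have hb5 := hb' rfl
    obtain ⟨p, hp, rfl⟩ : ∃ p : ℤ, 0 ≤ p ∧ a = p + 5 := ⟨a - 5, by omega, by ring⟩
    obtain ⟨q, hq, rfl⟩ : ∃ q : ℤ, 0 ≤ q ∧ b = q + 5 := ⟨b - 5, by omega, by ring⟩
    obtain rfl : c = p + q + 11 := by omega
    refine ⟨mul_pos (mul_pos (by omega) (by omega)) (by omega), ?_, ?_⟩ <;>
      nlinarith [mul_nonneg hp hq, mul_nonneg hp hp, mul_nonneg hq hq,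
        mul_nonneg (mul_nonneg hp hq) hp, mul_nonneg (mul_nonneg hp hq) hq]
  · obtain ⟨p, hp, rfl⟩ : ∃ p : ℤ, 0 ≤ p ∧ b = p + 3 := ⟨b - 3, by omega, by ring⟩
    obtain ⟨q, hq, rfl⟩ : ∃ q : ℤ, 0 ≤ q ∧ c = q + 3 := ⟨c - 3, by omega, by ring⟩
    obtain rfl : a = p + q + 5 := by omega
    refine ⟨mul_pos (mul_pos (by omega) (by omega)) (by omega), ?_, ?_⟩
    all_goals
      nlinarith [mul_nonneg hp hq, mul_nonneg hp hp, mul_nonneg hq hq,
        mul_nonneg (mul_nonneg hp hq) hp, mul_nonneg (mul_nonneg hp hq) hq]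

/-- Brauer's order formula for a perfect group with a Klein four Sylow 2-subgroup. -/
theorem four_sylow_invol_bounds {G : Type u} [Group G] [Finite G] (P : Sylow 2 G)
    (hP : IsKleinFour (P : Subgroup G)) (hperf : commutator G = ⊤) (z : G)
    (hzP : z ∈ (P : Subgroup G)) (hz : orderOf z = 2) (k : ℕ)
    (hk : k = (Subgroup.centralizer ((P : Subgroup G) : Set G)).relIndex
      (Subgroup.centralizer ({z} : Set G))) :
    6 * k ^ 2 < Nat.card {x : G // orderOf x = 2} ∧
      Nat.card {x : G // orderOf x = 2} ≤ 15 * k ^ 2 := by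
  classical
  haveI := Fintype.ofFinite G
  have hone := one_class_of_perfect P hP hperf
  have hz1 : z ≠ 1 := fun h => by rw [h, orderOf_one] at hz; norm_num at hz
  obtain ⟨M, hM⟩ := CfsgLib.BlockB.exists_isPModular Nat.prime_two
  have := hM.2.1.isPrime
  obtain ⟨ζ₂, ζ₃, ζ₄, ε, hε, h2ne, h3ne, h23, h24, h34, hB, hval, ha, hb, hc', hrel⟩ :=
    Cfsg.Agent.S0948.result M hM P hP hone
  have h4ne : (ζ₄ : G → ℂ) ≠ fun _ => 1 := fun h => by
    have := (hval z hz).2.2
    rw [h] at this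
    norm_num at this
  have h := CfsgLib.BlockA.klein_order_formula hM hP hone hzP hz1 hB
    ⟨h2ne, h3ne, h4ne, h23, h24, h34⟩
    (ε₁ := 1) (ε₂ := ε) (ε₃ := -1)
    ⟨by rw [(hval z hz).1]; norm_num, (hval z hz).2.1, by rw [(hval z hz).2.2]; norm_num⟩
    ⟨Or.inl rfl, hε, Or.inr rfl⟩
  have hrel1 := hrel 1 (by rw [orderOf_one]; exact odd_one)
  rw [← CfsgLib.BlockB.irr_degree_cast ζ₂, ← CfsgLib.BlockB.irr_degree_cast ζ₃,
    ← CfsgLib.BlockB.irr_degree_cast ζ₄] at hrel1
  have hd2 := charDegree_ne_one_of_perfect hperf h2ne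
  have hd3 := charDegree_ne_one_of_perfect hperf h3ne
  have hd4 := charDegree_ne_one_of_perfect hperf h4ne
  have hp2 := CfsgLib.BlockB.irr_degree_ne_zero ζ₂
  have hp3 := CfsgLib.BlockB.irr_degree_ne_zero ζ₃
  have hp4 := CfsgLib.BlockB.irr_degree_ne_zero ζ₄
  set a := Cfsg.charDegree (ζ₂ : G → ℂ)
  set b := Cfsg.charDegree (ζ₃ : G → ℂ)
  set c := Cfsg.charDegree (ζ₄ : G → ℂ)
  have hrelZ : 1 + (a : ℤ) + ε * b - c = 0 := by
    apply Int.cast_injective (α := ℂ)
    push_cast
    exact hrel1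
  obtain ⟨hpos, hlow, hup⟩ := degree_bounds hε (a := (a : ℤ)) (b := b) (c := c)
    (by omega) (by rcases hε with rfl | rfl <;> omega)
    (fun e => by subst e; omega) (by omega) hrelZ
  -- the centralisers
  set Cz := centralizer ({z} : Set G)
  set CP := centralizer ((P : Subgroup G) : Set G)
  have hle : CP ≤ Cz := centralizer_le (Set.singleton_subset_iff.2 hzP)
  have hCz : Nat.card ↥Cz = k * Nat.card ↥CP := by
    rw [hk, ← (CP.subgroupOf Cz).card_mul_index, Nat.card_congr (subgroupOfEquivOfLe hle).toEquiv,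
      mul_comm]
    rfl
  have hI : Nat.card {x : G // orderOf x = 2} * Nat.card ↥Cz = Nat.card G := by
    have horb : {x : G | orderOf x = 2} = MulAction.orbit (ConjAct G) z := by
      ext x
      rw [ConjAct.mem_orbit_conjAct]
      exact ⟨fun hx => (hone z x hz hx).symm, fun hx => by
        obtain ⟨g, rfl⟩ := isConj_iff.1 hx.symm
        exact (orderOf_injective (MulAut.conj g).toMonoidHom (MulAut.conj g).injective z).trans hz⟩
    have h2 : Nat.card {x : G // orderOf x = 2} = Cz.index := by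
      rw [show Nat.card {x : G // orderOf x = 2} = Nat.card ↥({x : G | orderOf x = 2}) from rfl,
        horb, Nat.card_congr (MulAction.orbitEquivQuotientStabilizer (ConjAct G) z),
        ← Subgroup.index_eq_card, ConjAct.stabilizer_eq_centralizer]
      rfl
    rw [h2, mul_comm, Cz.card_mul_index]
  have hkpos : 0 < k := by
    rcases Nat.eq_zero_or_pos k with h0 | h0
    · rw [h0, zero_mul] at hCz
      exact absurd hCz Nat.card_pos.ne'
    · exact h0
  have hCP : (0 : ℤ) < Nat.card ↥CP := by exact_mod_cast Nat.card_pos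
  set I := Nat.card {x : G // orderOf x = 2}
  have hkey : (I : ℤ) * ((a + 1) * (b + ε) * (c - 1)) = 8 * (k : ℤ) ^ 2 * (a * b * c) := by
    refine mul_right_cancel₀ (mul_ne_zero (Int.natCast_ne_zero.2 hkpos.ne')
      (pow_ne_zero 3 hCP.ne')) ?_
    have hCz' : (Nat.card ↥Cz : ℤ) = k * Nat.card ↥CP := by exact_mod_cast hCz
    rw [← hI] at h
    push_cast at h
    rw [hCz'] at h
    linear_combination h
  constructor
  · have : (6 * (k : ℤ) ^ 2) < I := by
      refine lt_of_mul_lt_mul_right ?_ hpos.le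
      rw [hkey]
      nlinarith [mul_lt_mul_of_pos_left hlow (by positivity : (0 : ℤ) < (k : ℤ) ^ 2)]
    exact_mod_cast this
  · have : (I : ℤ) ≤ 15 * (k : ℤ) ^ 2 := by
      refine le_of_mul_le_mul_right ?_ hpos
      rw [hkey]
      nlinarith [mul_le_mul_of_nonneg_left hup (by positivity : (0 : ℤ) ≤ (k : ℤ) ^ 2)]
    exact_mod_cast this

end CfsgLib.SylL34
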