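import Cfsg.Agent.Lib.FiveOrbit.Base
import Cfsg.Agent.Lib.SylLThreeFour.Central
import Cfsg.Agent.Lib.SylLThreeFour.FourSylow

/-!
Centralizers of the involutions of `A` outside the centre, when the normalizer of `A` normalizes
the centre.
-/

set_option autoImplicit false

namespace CfsgLib.SylL34

open Subgroup CfsgLib.Recog.LThreeFour

universe u v

variable {G : Type u} [Group G]

/-- The two-part and the odd part of an element of finite order. -/
theorem exists_two_odd [Finite G] (g : G) :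
    ∃ s ∈ zpowers g, ∃ e ∈ zpowers g, (∃ k : ℕ, s ^ 2 ^ k = 1) ∧ Odd (orderOf e) ∧ g = s * e := by
  obtain ⟨a, m, hm, he⟩ := Nat.exists_eq_two_pow_mul_odd (orderOf_pos g).ne'
  obtain ⟨u, hu⟩ : ∃ u : ℕ, 2 ^ a * u ≡ 1 [MOD m] := by
    have hc : Nat.Coprime (2 ^ a) m := Nat.Coprime.pow_left a (Nat.coprime_two_left.2 hm)
    by_cases hm1 : m = 1
    · exact ⟨0, by subst hm1; simp [Nat.modEq_one]⟩
    obtain ⟨u, hu⟩ := Nat.exists_mul_mod_eq_one_of_coprime hc (by have := hm.pos; omega)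
    exact ⟨u, by show _ % m = 1 % m; rw [hu.2, Nat.mod_eq_of_lt (by have := hm.pos; omega)]⟩
  set e := g ^ (2 ^ a * u) with hedef
  refine ⟨g * e⁻¹, mul_mem (mem_zpowers g) (inv_mem (pow_mem (mem_zpowers g) _)), e,
    pow_mem (mem_zpowers g) _, ⟨a, ?_⟩, ?_, by group⟩
  · have hcomm : Commute g e⁻¹ := (Commute.pow_right (Commute.refl g) _).inv_right
    rw [hcomm.mul_pow, inv_pow, mul_inv_eq_one, hedef, ← pow_mul, pow_eq_pow_iff_modEq, he]
    have := (hu.mul_left' (2 ^ a))
    rw [mul_one] at this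
    rw [mul_comm (2 ^ a * u)]
    exact this.symm
  · refine Odd.of_dvd_nat hm (orderOf_dvd_of_pow_eq_one ?_)
    rw [hedef, ← pow_mul, show 2 ^ a * u * m = u * orderOf g by rw [he]; ring, pow_mul',
      pow_orderOf_eq_one, one_pow]

/-- The transfer of an involution whose conjugates in the Sylow subgroup have the same image. -/
theorem transfer_involution [Finite G] (P : Sylow 2 G) {C : Type v} [CommGroup C]
    (φ : ↥(P : Subgroup G) →* C) {x : G} (hx : x ∈ (P : Subgroup G)) (hx2 : x * x = 1)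
    (hf : ∀ (g : G) (hg : g⁻¹ * x * g ∈ (P : Subgroup G)), φ ⟨_, hg⟩ = φ ⟨x, hx⟩) :
    MonoidHom.transfer φ x = φ ⟨x, hx⟩ := by
  classical
  have := twoFact
  set t := φ ⟨x, hx⟩ with ht
  have ht2 : t ^ 2 = 1 := by
    rw [ht, ← map_pow, show (⟨x, hx⟩ : ↥(P : Subgroup G)) ^ 2 = 1 from
      Subtype.ext (by simpa [pow_two] using hx2), map_one]
  let _ : Fintype (Quotient (MulAction.orbitRel (zpowers x) (G ⧸ (P : Subgroup G)))) :=
    Fintype.ofFinite _
  rw [MonoidHom.transfer_eq_prod_quotient_orbitRel_zpowers_quot]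
  let m : Quotient (MulAction.orbitRel (zpowers x) (G ⧸ (P : Subgroup G))) → ℕ :=
    fun q => Function.minimalPeriod (x • ·) q.out
  have hval : ∀ q, φ ⟨q.out.out⁻¹ * x ^ m q * q.out.out,
      QuotientGroup.out_conj_pow_minimalPeriod_mem _ x q.out⟩ = t ^ m q := by
    intro q
    have hm : m q ∣ 2 := by
      apply Function.IsPeriodicPt.minimalPeriod_dvd
      change ((x • ·)^[2]) q.out = q.out
      simp only [smul_iterate, pow_two, hx2, one_smul]
    have hmem := QuotientGroup.out_conj_pow_minimalPeriod_mem (P : Subgroup G) x q.out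
    rcases (Nat.dvd_prime Nat.prime_two).1 hm with h1 | h1
    · conv_rhs => rw [h1, pow_one]
      have hg : q.out.out⁻¹ * x * q.out.out ∈ (P : Subgroup G) := by
        simpa [m, h1] using hmem
      refine Eq.trans (congrArg φ (Subtype.ext ?_)) (hf _ hg)
      simp [h1]
    · conv_rhs => rw [h1, ht2]
      refine Eq.trans (congrArg φ (Subtype.ext ?_)) (map_one φ)
      simp [h1, pow_two, hx2]
  rw [Finset.prod_congr rfl fun q _ => hval q, Finset.prod_pow_eq_pow_sum,
    ← index_eq_sum_minimalPeriod (P : Subgroup G) x]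
  obtain ⟨j, hj⟩ : Odd (P : Subgroup G).index :=
    Nat.not_even_iff_odd.1 fun h => P.not_dvd_index (even_iff_two_dvd.1 h)
  rw [hj, pow_succ, pow_mul, ht2, one_pow, one_mul]

/-- A group that is not solvable has a non-trivial perfect normal subgroup. -/
theorem exists_perfect [Finite G] (hns : ¬ Group.IsSolvable G) :
    ∃ K : Subgroup G, K.Normal ∧ ⁅K, K⁆ = K ∧ K ≠ ⊥ := by
  classical
  have hex : ∃ c, ∃ n, Nat.card (derivedSeries G n) = c := ⟨_, 0, rfl⟩
  obtain ⟨n, hn⟩ := Nat.find_spec hex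
  refine ⟨derivedSeries G n, inferInstance, ?_, fun e => hns ⟨⟨n, e⟩⟩⟩
  rw [← derivedSeries_succ]
  refine eq_of_le_of_card_ge (derivedSeries_antitone (G := G) n.le_succ) ?_
  rw [hn]
  exact Nat.find_min' hex ⟨_, rfl⟩

/-- Frattini argument for a Sylow subgroup that is normal modulo the odd core. -/
theorem le_normalizer_sup_oddCore [Finite G] (T : Sylow 2 G)
    (hn : ((T : Subgroup G).map (QuotientGroup.mk' (Cfsg.oddCore G))).Normal) :
    normalizer ((T : Subgroup G) : Set G) ⊔ Cfsg.oddCore G = ⊤ := by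
  have := twoFact
  haveI : (Cfsg.oddCore G).Normal := CfsgLib.Solvable.pPrimeCore_normal 2 G
  set N := ((T : Subgroup G).map (QuotientGroup.mk' (Cfsg.oddCore G))).comap
    (QuotientGroup.mk' (Cfsg.oddCore G)) with hN
  haveI : N.Normal := hn.comap _
  rw [eq_top_iff, ← Sylow.normalizer_sup_eq_top' T (le_comap_map _ _ : (T : Subgroup G) ≤ N)]
  refine sup_le le_sup_left fun x hx => ?_
  rw [comap_map_eq, QuotientGroup.ker_mk'] at hx
  exact (sup_le_sup_right le_normalizer _) hx

namespace Shape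

variable [Finite G] {P : Sylow 2 G} {A B Z : Subgroup G} (h : Shape (P : Subgroup G) A B Z)
  (hA : SType A Z) {w : G} (hw : w ∈ A) (hwZ : w ∉ Z)

/-- The facts about the perfect core of a centralizer. -/
structure SideCore (A Z : Subgroup G) (w : G) (K : Subgroup G) : Prop where
  le : K ≤ centralizer ({w} : Set G)
  normalizes : centralizer ({w} : Set G) ≤ normalizer (K : Set G)
  perfect : commutator ↥K = ⊤
  Z_le : Z ≤ K
  inter : K ⊓ A = Z
  sylow : ∃ T : Sylow 2 ↥K, (T : Subgroup ↥K) = Z.subgroupOf K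

include h hA hw hwZ

/-- A 2-element normalizing `A` and centralizing `w` lies in `A`. -/
theorem two_elem_mem {x : G} (hxA : x ∈ normalizer (A : Set G)) (hxw : x * w = w * x) {k : ℕ}
    (hx : x ^ 2 ^ k = 1) : x ∈ A := by
  have := twoFact
  have hz : IsPGroup 2 ↥(zpowers (⟨x, hxA⟩ : normalizer (A : Set G))) := by
    refine IsPGroup.of_card_dvd_pow (n := k) ?_
    rw [Nat.card_zpowers]
    exact orderOf_dvd_of_pow_eq_one (Subtype.ext hx)
  obtain ⟨Q, hQ⟩ := hz.exists_le_sylow
  obtain ⟨m, hm⟩ := MulAction.exists_smul_eq ↥(normalizer (A : Set G))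
    (P.subtype h.S_le_normalizer) Q
  obtain ⟨y, hy, hye⟩ :
      (⟨x, hxA⟩ : normalizer (A : Set G)) ∈ (m • P.subtype h.S_le_normalizer : Sylow 2 _) :=
    hm ▸ hQ (mem_zpowers _)
  have hyx : (m : G) * (y : G) * (m : G)⁻¹ = x := congrArg Subtype.val hye
  have hmA := inv_mem m.2
  have hu : (m : G)⁻¹ * w * m ∈ A := by simpa using conj_mem_of_normalizer hmA hw
  have huZ : (m : G)⁻¹ * w * m ∉ Z := fun e => hwZ (by
    have := conj_mem_of_normalizer (hA m.2) e
    rwa [show (m : G) * ((m : G)⁻¹ * w * m) * (m : G)⁻¹ = w by group] at this)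
  have hyA : (y : G) ∈ A := h.selfA hu huZ (mem_subgroupOf.1 hy) (by
    calc (y : G) * ((m : G)⁻¹ * w * m) =
        (m : G)⁻¹ * (((m : G) * y * (m : G)⁻¹) * w) * m := by group
      _ = (m : G)⁻¹ * (w * ((m : G) * y * (m : G)⁻¹)) * m := by rw [hyx, hxw]
      _ = (m : G)⁻¹ * w * m * y := by group)
  exact hyx ▸ conj_mem_of_normalizer m.2 hyA

theorem A_le_cent : A ≤ centralizer ({w} : Set G) := fun x hx =>
  mem_centralizer_singleton_iff.2 (comm_of_sq h.eA hx hw)

/-- The Sylow subgroup of the centralizer of `w` is `A`. -/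
theorem sylow_cent_A : ∃ T : Sylow 2 ↥(centralizer ({w} : Set G)),
    (T : Subgroup ↥(centralizer ({w} : Set G))) = A.subgroupOf (centralizer ({w} : Set G)) := by
  have := twoFact
  have hAC := h.A_le_cent hA hw hwZ
  obtain ⟨T, hT⟩ := ((h.isPGroup.to_le h.hA).of_equiv
    (subgroupOfEquivOfLe hAC).symm).exists_le_sylow
  refine ⟨T, le_antisymm ?_ hT⟩
  set Q : Subgroup G := (T : Subgroup _).map (centralizer ({w} : Set G)).subtype with hQ
  have hAQ : A ≤ Q := fun x hx => ⟨⟨x, hAC hx⟩, hT hx, rfl⟩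
  intro x hx
  by_contra hxA
  have hlt : A < Q := lt_of_le_of_ne hAQ fun e => hxA (mem_subgroupOf.2 (by
    rw [e]; exact ⟨x, hx, rfl⟩))
  obtain ⟨y, hy, hyn, hyA⟩ := CfsgLib.Transfer.exists_mem_normalizer_not_mem (T.2.map _) hlt
  obtain ⟨c, hc, rfl⟩ := hy
  obtain ⟨k, hk⟩ := T.2 ⟨c, hc⟩
  exact hyA (h.two_elem_mem hA hw hwZ hyn (mem_centralizer_singleton_iff.1 c.2)
    (by simpa using congrArg (fun v : ↥(T : Subgroup ↥(centralizer ({w} : Set G))) =>
      ((v : ↥(centralizer ({w} : Set G))) : G)) hk))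

/-- Elements of the normalizer of `A` centralizing `w` fix every coset of `Z` in `A`. -/
theorem fixes_of_cent {n : G} (hn : n ∈ normalizer (A : Set G)) (hnw : n * w = w * n) {y : G}
    (hy : y ∈ A) : Fixes Z n y := by
  obtain ⟨s, hs, e, he, ⟨k, hk⟩, hodd, hne⟩ := exists_two_odd n
  have hle : zpowers n ≤ normalizer (A : Set G) ⊓ centralizer ({w} : Set G) :=
    zpowers_le.2 (mem_inf.2 ⟨hn, mem_centralizer_singleton_iff.2 hnw⟩)
  obtain ⟨hsA, hsw⟩ := mem_inf.1 (hle hs)
  obtain ⟨heA, hew⟩ := mem_inf.1 (hle he)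
  have hsA' := h.two_elem_mem hA hw hwZ hsA (mem_centralizer_singleton_iff.1 hsw) hk
  rw [hne]
  refine Fixes.mul (hA hsA) ?_ (h.fix_coset hodd heA (hA heA) hw hwZ ?_ hy)
  · unfold Fixes
    rw [comm_of_sq h.eA hsA' hy, mul_inv_cancel_right, inv_mul_cancel]
    exact one_mem _
  · unfold Fixes
    rw [mem_centralizer_singleton_iff.1 hew, mul_inv_cancel_right, inv_mul_cancel]
    exact one_mem _

/-- An element of the normalizer of the Sylow subgroup of the centralizer normalizes `A`. -/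
theorem mem_normalizer_A {T : Sylow 2 ↥(centralizer ({w} : Set G))}
    (hT : (T : Subgroup ↥(centralizer ({w} : Set G))) = A.subgroupOf (centralizer ({w} : Set G)))
    {n : ↥(centralizer ({w} : Set G))}
    (hn : n ∈ normalizer ((T : Subgroup ↥(centralizer ({w} : Set G))) : Set _)) :
    (n : G) ∈ normalizer (A : Set G) := by
  have hAC := h.A_le_cent hA hw hwZ
  refine mem_normalizer_iff.2 fun v => ⟨fun hv => ?_, fun hv => ?_⟩
  · have := (mem_normalizer_iff.1 hn ⟨v, hAC hv⟩).1 (hT ▸ hv)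
    rwa [hT] at this
  · have hvC : v ∈ centralizer ({w} : Set G) := by
      have := mul_mem (mul_mem (inv_mem n.2) (hAC hv)) n.2
      simpa [mul_assoc] using this
    have := (mem_normalizer_iff.1 hn ⟨v, hvC⟩).2 (hT ▸ hv)
    rwa [hT] at this

theorem sylow_cent_comm {T : Sylow 2 ↥(centralizer ({w} : Set G))}
    (hT : (T : Subgroup ↥(centralizer ({w} : Set G))) = A.subgroupOf (centralizer ({w} : Set G))) :
    ∀ a ∈ (T : Subgroup ↥(centralizer ({w} : Set G))),
      ∀ b ∈ (T : Subgroup ↥(centralizer ({w} : Set G))), a * b = b * a := by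
  intro a ha b hb
  rw [hT] at ha hb
  exact Subtype.ext (comm_of_sq h.eA ha hb)

/-- A solvable centralizer of `w`. -/
theorem cent_solvable_le (hsol : Group.IsSolvable ↥(centralizer ({w} : Set G))) :
    centralizer ({w} : Set G) ≤ Cfsg.centralizerPPrimeCore 2 w ⊔
      (normalizer (A : Set G) ⊓ centralizer ({w} : Set G)) := by
  have := twoFact
  set C := centralizer ({w} : Set G)
  obtain ⟨T, hT⟩ : ∃ T : Sylow 2 C, (T : Subgroup C) = A.subgroupOf C :=
    h.sylow_cent_A hA hw hwZ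
  haveI : (Cfsg.oddCore C).Normal := CfsgLib.Solvable.pPrimeCore_normal 2 C
  haveI := hsol
  haveI : Group.IsSolvable (C ⧸ Cfsg.oddCore C) :=
    Group.isSolvable_of_surjective (QuotientGroup.mk'_surjective _)
  obtain ⟨hnn, -⟩ := CfsgLib.FiveOrbit.normal_of_oddCore_bot
    (CfsgLib.Fusion.oddCore_quotient_oddCore (G := C))
    (T.mapSurjective (QuotientGroup.mk'_surjective _)) (by
      rintro _ ⟨a, ha, rfl⟩ _ ⟨b, hb, rfl⟩
      rw [← map_mul, ← map_mul, h.sylow_cent_comm hA hw hwZ hT a ha b hb])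
  intro c hc
  have htop := le_normalizer_sup_oddCore T hnn
  obtain ⟨n, hn, o, ho, e⟩ := mem_sup_of_normal_right.1 (htop.symm ▸ mem_top (⟨c, hc⟩ : C))
  rw [← show (n : G) * o = c from congrArg Subtype.val e]
  exact mul_mem (mem_sup_right (mem_inf.2 ⟨h.mem_normalizer_A hA hw hwZ hT hn, n.2⟩))
    (mem_sup_left ⟨o, ho, rfl⟩)

/-- In a non-solvable centralizer some element normalizing `A` moves every involution of `Z`. -/
theorem exists_moving (hns : ¬ Group.IsSolvable ↥(centralizer ({w} : Set G))) :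
    ∃ e ∈ normalizer (A : Set G), e * w = w * e ∧ Odd (orderOf e) ∧
      ∀ z ∈ Z, z ≠ 1 → e * z ≠ z * e := by
  have := twoFact
  by_contra hcon
  push Not at hcon
  set C := centralizer ({w} : Set G)
  obtain ⟨T, hT⟩ : ∃ T : Sylow 2 C, (T : Subgroup C) = A.subgroupOf C :=
    h.sylow_cent_A hA hw hwZ
  have hnT : normalizer ((T : Subgroup C) : Set C) ≤ centralizer ((T : Subgroup C) : Set C) := by
    intro n hn
    have hnA := h.mem_normalizer_A hA hw hwZ hT hn
    have hnw := mem_centralizer_singleton_iff.1 n.2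
    obtain ⟨s, hs, e, he, ⟨k, hk⟩, hodd, hne⟩ := exists_two_odd (n : G)
    have hle : zpowers (n : G) ≤ normalizer (A : Set G) ⊓ C := zpowers_le.2 (mem_inf.2 ⟨hnA, n.2⟩)
    obtain ⟨hsA, hsw⟩ := mem_inf.1 (hle hs)
    obtain ⟨heA, hew⟩ := mem_inf.1 (hle he)
    have hsA' := h.two_elem_mem hA hw hwZ hsA (mem_centralizer_singleton_iff.1 hsw) hk
    have hew' := mem_centralizer_singleton_iff.1 hew
    obtain ⟨z, hz, hz1, hez⟩ := hcon e heA hew' hodd
    refine mem_centralizer_iff.2 fun a ha => Subtype.ext ?_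
    have haA : (a : G) ∈ A := by
      have := SetLike.mem_coe.1 ha
      rwa [hT] at this
    have hea : e * (a : G) = a * e := h.cent_of_fixes hodd heA
      (fun x hx => h.fix_Z hodd (hA heA) hz hz1 hez hx) haA
      (h.fixes_of_cent hA hw hwZ heA hew' haA)
    show (a : G) * (n : G) = (n : G) * a
    rw [hne, ← mul_assoc, comm_of_sq h.eA haA hsA', mul_assoc, ← hea, mul_assoc]
  let N : Subgroup C := (MonoidHom.transferSylow T hnT).ker
  have hcp : N.IsComplement' (T : Subgroup C) := MonoidHom.ker_transferSylow_isComplement' T hnT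
  haveI : Group.IsSolvable N := Cfsg.Agent.S0205.result (by
    rw [← Nat.not_even_iff_odd, even_iff_two_dvd, ← hcp.index_eq_card]
    exact T.not_dvd_index)
  have hq : IsPGroup 2 (C ⧸ N) := by
    obtain ⟨n, hn⟩ := T.2.exists_card_eq
    refine IsPGroup.of_card (n := n) ?_
    rw [← Subgroup.index_eq_card, hcp.symm.index_eq_card, hn]
  haveI := hq.isNilpotent
  exact hns (Group.isSolvable_of_ker_le_range N.subtype (QuotientGroup.mk' N)
    (by rw [QuotientGroup.ker_mk', Subgroup.range_subtype]))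

/-- In a non-solvable centralizer some element of the normalizer of the Sylow subgroup fixes the
cosets of `Z` in `A` and moves the involutions of `Z`. -/
theorem exists_trivial_moving (hns : ¬ Group.IsSolvable ↥(centralizer ({w} : Set G))) :
    ∃ e ∈ normalizer ((P : Subgroup G) : Set G), Odd (orderOf e) ∧ (∀ y ∈ A, Fixes Z e y) ∧
      ∀ z ∈ Z, z ≠ 1 → e * z ≠ z * e := by
  have := twoFact
  obtain ⟨f, hfA, hfw, -, hfZ⟩ := h.exists_moving hA hw hwZ hns
  let K0 : Subgroup G :=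
    { carrier := {g | g ∈ normalizer (A : Set G) ∧ ∀ y ∈ A, Fixes Z g y}
      mul_mem' := fun {g k} hg hk =>
        ⟨mul_mem hg.1 hk.1, fun y hy => Fixes.mul (hA hg.1) (hg.2 y hy) (hk.2 y hy)⟩
      one_mem' := ⟨one_mem _, fun y _ => Fixes.one y⟩
      inv_mem' := fun {g} hg => by
        refine ⟨inv_mem hg.1, fun y hy => ?_⟩
        have e : g⁻¹ = g ^ (orderOf g - 1) := inv_eq_of_mul_eq_one_right (by
          rw [← pow_succ', Nat.sub_add_cancel (orderOf_pos g), pow_orderOf_eq_one])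
        rw [e]
        exact Fixes.pow (hA hg.1) (hg.2 y hy) _ }
  have hPK : (P : Subgroup G) ≤ K0 := fun s hs => ⟨h.S_le_normalizer hs, fun y hy => by
    obtain ⟨a, ha, b, hb, rfl⟩ := h.exists_mul hs
    refine Fixes.mul (hA (h.S_le_normalizer (h.hA ha))) ?_ ?_
    · unfold Fixes
      rw [comm_of_sq h.eA ha hy, mul_inv_cancel_right, inv_mul_cancel]
      exact one_mem _
    · unfold Fixes
      rw [show y⁻¹ * (b * y * b⁻¹) = y⁻¹ * (y * b * y⁻¹ * b⁻¹)⁻¹ * y by group,
        mul_assoc, h.cen _ (inv_mem (h.comm y hy b hb)) y (h.hA hy), inv_mul_cancel_left]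
      exact inv_mem (h.comm y hy b hb)⟩
  set L := (centralizer (Z : Set G)).subgroupOf K0 with hL
  haveI : L.Normal := ⟨fun l hl g => by
    refine mem_subgroupOf.2 (mem_centralizer_iff.2 fun z hz => ?_)
    have hg := hA g.2.1
    have hz' := conj_mem_of_normalizer (inv_mem hg) (SetLike.mem_coe.1 hz)
    rw [inv_inv] at hz'
    have hl' := mem_centralizer_iff.1 (mem_subgroupOf.1 hl) _ (SetLike.mem_coe.2 hz')
    push_cast
    calc z * ((g : G) * l * (g : G)⁻¹) = g * (((g : G)⁻¹ * z * g) * l) * (g : G)⁻¹ := by group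
      _ = g * (l * ((g : G)⁻¹ * z * g)) * (g : G)⁻¹ := by rw [hl']
      _ = _ := by group⟩
  have hTL : (P.subtype hPK : Subgroup K0) ≤ L := fun s hs =>
    mem_subgroupOf.2 (mem_centralizer_iff.2 fun z hz => h.cen z hz s hs)
  obtain ⟨m, hm, l, hl, hml⟩ := mem_sup_of_normal_right.1
    ((Sylow.normalizer_sup_eq_top' (P.subtype hPK) hTL).symm ▸
      mem_top (⟨f, hfA, fun y hy => h.fixes_of_cent hA hw hwZ hfA hfw hy⟩ : K0))
  have hmP : (m : G) ∈ normalizer ((P : Subgroup G) : Set G) := by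
    refine mem_normalizer_iff.2 fun v => ⟨fun hv => ?_, fun hv => ?_⟩
    · exact mem_subgroupOf.1 ((mem_normalizer_iff.1 hm ⟨v, hPK hv⟩).1 hv)
    · have hvK : v ∈ K0 := by
        have := mul_mem (mul_mem (inv_mem m.2) (hPK hv)) m.2
        simpa [mul_assoc] using this
      exact mem_subgroupOf.1 ((mem_normalizer_iff.1 hm ⟨v, hvK⟩).2 hv)
  obtain ⟨s, hs, e, hem, hen, hodd, hme⟩ := exists_odd_part P hmP
  have heK : e ∈ K0 := (zpowers_le.2 m.2) hem
  refine ⟨e, hen, hodd, heK.2, fun z hz hz1 hez => hfZ z hz hz1 ?_⟩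
  have hle : (l : G) * z = z * l :=
    ((mem_centralizer_iff.1 (mem_subgroupOf.1 hl)) z hz).symm
  rw [show f = s * e * l by rw [← hme]; exact (congrArg Subtype.val hml).symm]
  rw [mul_assoc, hle, ← mul_assoc, mul_assoc s e z, hez, ← mul_assoc s z e, ← h.cen z hz s hs]
  group

/-- The perfect core of a non-solvable centralizer of `w`. -/
theorem exists_sideCore (hns : ¬ Group.IsSolvable ↥(centralizer ({w} : Set G))) :
    ∃ K : Subgroup G, SideCore A Z w K := by
  have := twoFact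
  obtain ⟨f, hfA, hfw, -, hfZ⟩ := h.exists_moving hA hw hwZ hns
  set C := centralizer ({w} : Set G) with hC
  obtain ⟨T, hT⟩ : ∃ T : Sylow 2 C, (T : Subgroup C) = A.subgroupOf C :=
    h.sylow_cent_A hA hw hwZ
  obtain ⟨K₀, hK₀n, hK₀p, hK₀1⟩ := exists_perfect hns
  haveI := hK₀n
  have hperf₀ : commutator ↥K₀ = ⊤ := map_injective K₀.subtype_injective (by
    rw [map_subtype_commutator, hK₀p, ← MonoidHom.range_eq_map, range_subtype])
  -- the Sylow subgroup of the core
  obtain ⟨R, hR⟩ : ∃ R : Sylow 2 K₀, (R : Subgroup K₀) = (T : Subgroup C).subgroupOf K₀ := by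
    obtain ⟨R, hR⟩ := ((T.2.comap_subtype (K := K₀)) :
      IsPGroup 2 ↥((T : Subgroup C).subgroupOf K₀)).exists_le_sylow
    refine ⟨R, le_antisymm ?_ hR⟩
    obtain ⟨Q, hQ⟩ := (R.2.map K₀.subtype).exists_le_sylow
    obtain ⟨c, hc⟩ := MulAction.exists_smul_eq C Q T
    intro x hx
    have hcard : Nat.card ↥((T : Subgroup C).subgroupOf K₀) = Nat.card (R : Subgroup K₀) := by
      refine le_antisymm (Nat.card_le_card_of_injective _ (inclusion_injective hR)) ?_
      refine Nat.card_le_card_of_injective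
        (fun r : (R : Subgroup K₀) => (⟨⟨c * (r : K₀) * c⁻¹, hK₀n.conj_mem _ r.1.2 c⟩, by
          refine mem_subgroupOf.2 ?_
          rw [← hc]
          exact mem_cj_of c (hQ ⟨r, r.2, rfl⟩)⟩ : ↥((T : Subgroup C).subgroupOf K₀)))
        fun r r' e => Subtype.ext (Subtype.ext ?_)
      have e' : c * ((r : K₀) : C) * c⁻¹ = c * ((r' : K₀) : C) * c⁻¹ :=
        congrArg (fun v : ↥((T : Subgroup C).subgroupOf K₀) => ((v : K₀) : C)) e
      simpa using e'
    have := eq_of_le_of_card_ge hR hcard.ge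
    exact (SetLike.ext_iff.1 this x).2 hx
  -- it lies in the centre
  have hRZ : ∀ r ∈ (R : Subgroup K₀), (((r : K₀) : C) : G) ∈ Z := by
    intro r hr
    have hab : ∀ x ∈ (R : Subgroup K₀), ∀ y ∈ (R : Subgroup K₀), x * y = y * x := fun x hx y hy => by
      rw [hR] at hx hy
      exact Subtype.ext (h.sylow_cent_comm hA hw hwZ hT _ hx _ hy)
    let N : Subgroup ↥(R : Subgroup K₀) := (Z.subgroupOf C).subgroupOf K₀ |>.subgroupOf R
    haveI : N.Normal := ⟨fun x hx y => by
      rwa [show y * x * y⁻¹ = x by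
        rw [mul_inv_eq_iff_eq_mul]; exact Subtype.ext (hab _ y.2 _ x.2)]⟩
    let _ : CommGroup (↥(R : Subgroup K₀) ⧸ N) :=
      { QuotientGroup.Quotient.group N with
        mul_comm := fun x y => by
          obtain ⟨x, rfl⟩ := QuotientGroup.mk_surjective x
          obtain ⟨y, rfl⟩ := QuotientGroup.mk_surjective y
          rw [← QuotientGroup.mk_mul, ← QuotientGroup.mk_mul]
          exact congrArg _ (Subtype.ext (hab _ x.2 _ y.2)) }
    let φ : ↥(R : Subgroup K₀) →* ↥(R : Subgroup K₀) ⧸ N := QuotientGroup.mk' N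
    have hr2 : r * r = 1 := by
      rw [hR, mem_subgroupOf, hT] at hr
      exact Subtype.ext (Subtype.ext (h.eA _ hr))
    have ht := transfer_involution R φ hr hr2 (fun g hg => ?_)
    · have hker : MonoidHom.transfer φ r = 1 := by
        have : r ∈ (MonoidHom.transfer φ).ker :=
          Abelianization.commutator_subset_ker _ (hperf₀ ▸ mem_top r)
        exact this
      rw [hker] at ht
      exact mem_subgroupOf.1 (mem_subgroupOf.1 (mem_subgroupOf.1
        ((QuotientGroup.eq_one_iff (N := N) _).1 ht.symm)))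
    · have hrT : ((r : K₀) : C) ∈ (T : Subgroup C) := by rw [hR] at hr; exact hr
      have hgT : (((g⁻¹ * r * g : K₀)) : C) ∈ (T : Subgroup C) := by rw [hR] at hg; exact hg
      obtain ⟨n, hn, hne⟩ := exists_normalizer_conj T (h.sylow_cent_comm hA hw hwZ hT)
        (x := (r : C)) (g := (g : C)⁻¹) hrT (by simpa using hgT)
      have hrA : (((r : K₀) : C) : G) ∈ A := by rw [hT] at hrT; exact hrT
      have hfix := h.fixes_of_cent hA hw hwZ (h.mem_normalizer_A hA hw hwZ hT hn)
        (mem_centralizer_singleton_iff.1 n.2) hrA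
      refine ((QuotientGroup.eq (s := N)).2 ?_).symm
      show (((r : K₀) : C) : G)⁻¹ * ((((g⁻¹ * r * g : K₀)) : C) : G) ∈ Z
      have e : (((g⁻¹ * r * g : K₀)) : C) = n * r * n⁻¹ := by
        rw [hne]; push_cast; rw [inv_inv]
      rw [e]
      exact hfix
  -- it is all of the centre
  have hex : ∃ r ∈ (R : Subgroup K₀), r ≠ 1 := by
    refine (Subgroup.bot_or_exists_ne_one (R : Subgroup K₀)).resolve_left fun e => ?_
    have hodd : Odd (Nat.card K₀) := by
      rw [← Nat.not_even_iff_odd, even_iff_two_dvd]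
      intro h2
      have := R.dvd_card_of_dvd_card h2
      rw [e, card_bot] at this
      norm_num at this
    haveI := Cfsg.Agent.S0205.result hodd
    haveI : Nontrivial ↥K₀ := (nontrivial_iff_ne_bot K₀).2 hK₀1
    have := Group.IsSolvable.commutator_lt_top_of_nontrivial (G := ↥K₀)
    exact this.ne hperf₀
  obtain ⟨r, hr, hr1⟩ := hex
  set z := (((r : K₀) : C) : G) with hzdef
  have hz : z ∈ Z := hRZ r hr
  have hz1 : z ≠ 1 := fun e => hr1 (Subtype.ext (Subtype.ext e))
  set K : Subgroup G := K₀.map C.subtype with hK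
  have hKn : C ≤ normalizer (K : Set G) := fun c hc => mem_normalizer_iff.2 fun v => by
    constructor
    · rintro ⟨k, hk, rfl⟩
      exact ⟨⟨c, hc⟩ * k * ⟨c, hc⟩⁻¹, hK₀n.conj_mem k hk _, rfl⟩
    · rintro ⟨k, hk, hkv⟩
      refine ⟨⟨c, hc⟩⁻¹ * k * ⟨c, hc⟩, by simpa using hK₀n.conj_mem k hk (⟨c, hc⟩⁻¹ : C), ?_⟩
      simp only [coe_subtype] at hkv
      simp [hkv, mul_assoc]
  have hzK : z ∈ K := ⟨r, r.2, rfl⟩
  have hfK : f * z * f⁻¹ ∈ K :=
    conj_mem_of_normalizer (hKn (mem_centralizer_singleton_iff.2 hfw)) hzK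
  have hfz : f * z * f⁻¹ ∈ Z := conj_mem_of_normalizer (hA hfA) hz
  have hfz1 : f * z * f⁻¹ ≠ 1 := fun e => hz1 (conj_eq_one_iff.1 e)
  have hfzz : f * z * f⁻¹ ≠ z := fun e => hfZ z hz hz1 (mul_inv_eq_iff_eq_mul.1 e)
  have hZK : Z ≤ K := by
    classical
    haveI : Finite Z := inferInstance
    haveI : Fintype Z := Fintype.ofFinite _
    let s : Finset Z :=
      {1, ⟨z, hz⟩, ⟨_, hfz⟩, ⟨z * (f * z * f⁻¹), mul_mem hz hfz⟩}
    have h12 : z * (f * z * f⁻¹) ≠ 1 := fun e => hfzz (by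
      rw [← h.eZ hz] at e; exact mul_left_cancel e)
    have hs : s.card = 4 := by
      rw [Finset.card_eq_four.2]
      exact ⟨_, _, _, _, by simp [Subtype.ext_iff, Ne.symm hz1],
        by simp [Subtype.ext_iff, hz1, eq_comm (a := (1 : G))],
        by simp [Subtype.ext_iff, Ne.symm h12], by simp [Subtype.ext_iff, Ne.symm hfzz],
        by simp [Subtype.ext_iff, hz1], by simp [Subtype.ext_iff, hz1], rfl⟩
    intro y hy
    have hm : (⟨y, hy⟩ : Z) ∈ s := by
      rw [Finset.eq_univ_of_card s (by rw [hs, ← Nat.card_eq_fintype_card, h.cardZ])]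
      exact Finset.mem_univ _
    simp only [s, Finset.mem_insert, Finset.mem_singleton, Subtype.ext_iff] at hm
    rcases hm with e | e | e | e
    · rw [e]; exact one_mem _
    · rw [e]; exact hzK
    · rw [e]; exact hfK
    · rw [e]; exact mul_mem hzK hfK
  have hinter : K ⊓ A = Z := by
    refine le_antisymm ?_ (le_inf hZK h.hZA)
    rintro _ ⟨⟨k, hk, rfl⟩, hkA⟩
    exact hRZ ⟨k, hk⟩ (by rw [hR, mem_subgroupOf, hT]; exact hkA)
  refine ⟨K, map_subtype_le _, hKn, ?_, hZK, hinter, ?_⟩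
  · refine map_injective K.subtype_injective ?_
    rw [map_subtype_commutator, ← MonoidHom.range_eq_map, range_subtype, hK,
      ← map_commutator, hK₀p]
  · let e : K₀ ≃* K := equivMapOfInjective K₀ C.subtype C.subtype_injective
    refine ⟨R.mapSurjective (f := e.toMonoidHom) e.surjective, ?_⟩
    show (R : Subgroup K₀).map e.toMonoidHom = _
    ext x
    rw [mem_map_equiv, hR, mem_subgroupOf, hT, mem_subgroupOf, mem_subgroupOf]
    have hx : ((((e.symm x : K₀) : C)) : G) = (x : G) :=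
      congrArg Subtype.val (e.apply_symm_apply x)
    rw [hx]
    exact ⟨fun hh => hinter ▸ mem_inf.2 ⟨x.2, hh⟩, fun hh => h.hZA hh⟩

/-- The centralizer is the product of the core and the normalizer of `Z`. -/
theorem cent_le_core_sup {K : Subgroup G} (hK : SideCore A Z w K) :
    centralizer ({w} : Set G) ≤ K ⊔ (normalizer (Z : Set G) ⊓ centralizer ({w} : Set G)) := by
  have := twoFact
  obtain ⟨R, hR⟩ := hK.sylow
  intro c hc
  set C := centralizer ({w} : Set G)
  set K' := K.subgroupOf C with hK'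
  haveI : K'.Normal := ⟨fun k hk g =>
    conj_mem_of_normalizer (g := (g : G)) (hK.normalizes g.2) (x := (k : G)) hk⟩
  let e : ↥K' ≃* ↥K := subgroupOfEquivOfLe hK.le
  let R' : Sylow 2 K' := R.mapSurjective (f := e.symm.toMonoidHom) e.symm.surjective
  have hR' : (R' : Subgroup K').map K'.subtype = Z.subgroupOf C := by
    ext x
    constructor
    · rintro ⟨_, ⟨y, hy, rfl⟩, rfl⟩
      show ((y : K) : G) ∈ Z
      have hy' : y ∈ (R : Subgroup K) := hy
      rwa [hR, mem_subgroupOf] at hy'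
    · intro hx
      exact ⟨e.symm ⟨x, hK.Z_le hx⟩, ⟨⟨x, hK.Z_le hx⟩, by
        show (⟨(x : G), hK.Z_le hx⟩ : K) ∈ (R : Subgroup K)
        rw [hR]; exact hx, rfl⟩, rfl⟩
  have htop := Sylow.normalizer_sup_eq_top R'
  rw [hR'] at htop
  obtain ⟨n, hn, k, hk, hnk⟩ := mem_sup_of_normal_right.1 (htop.symm ▸ mem_top (⟨c, hc⟩ : C))
  rw [← show (n : G) * k = c from congrArg Subtype.val hnk]
  refine mul_mem (mem_sup_right (mem_inf.2 ⟨mem_normalizer_iff.2 fun v => ?_, n.2⟩))
    (mem_sup_left hk)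
  have hZC : Z ≤ C := hK.Z_le.trans hK.le
  constructor
  · exact fun hv => (mem_normalizer_iff.1 hn ⟨v, hZC hv⟩).1 hv
  · intro hv
    have hvC : v ∈ C := by
      have := mul_mem (mul_mem (inv_mem n.2) (hZC hv)) n.2
      simpa [mul_assoc] using this
    exact (mem_normalizer_iff.1 hn ⟨v, hvC⟩).2 hv

/-- Conjugates of central involutions centralizing `w` lie in the core. -/
theorem mem_core_of_conj {K : Subgroup G} (hK : SideCore A Z w K) {z d : G} (hz : z ∈ Z)
    (hzd : IsConj z d) (hdw : d * w = w * d) : d ∈ K := by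
  have := twoFact
  set C := centralizer ({w} : Set G)
  obtain ⟨T, hT⟩ : ∃ T : Sylow 2 C, (T : Subgroup C) = A.subgroupOf C :=
    h.sylow_cent_A hA hw hwZ
  obtain ⟨g, hg⟩ := isConj_iff.1 hzd
  have hd2 : d * d = 1 := by
    rw [← hg, show g * z * g⁻¹ * (g * z * g⁻¹) = g * (z * z) * g⁻¹ by group, h.eZ hz]; group
  set d' : C := ⟨d, mem_centralizer_singleton_iff.2 hdw⟩
  have h2 : IsPGroup 2 ↥(zpowers d') := IsPGroup.of_card_dvd_pow (n := 1) (by
    rw [Nat.card_zpowers]
    exact orderOf_dvd_of_pow_eq_one (Subtype.ext (by simpa [pow_two] using hd2)))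
  obtain ⟨Q, hQ⟩ := h2.exists_le_sylow
  obtain ⟨c, hc⟩ := MulAction.exists_smul_eq C Q T
  have hda : (c : G) * d * (c : G)⁻¹ ∈ A := by
    have : c * d' * c⁻¹ ∈ (T : Subgroup C) := by
      rw [← hc]; exact mem_cj_of c (hQ (mem_zpowers _))
    rwa [hT] at this
  obtain ⟨n, hn, hne⟩ := h.conj_normalizer (h.hZA hz) (g := (c : G) * g) (by
    rwa [show (c : G) * g * z * ((c : G) * g)⁻¹ = c * (g * z * g⁻¹) * (c : G)⁻¹ by group, hg])
  have hmem : (c : G) * d * (c : G)⁻¹ ∈ K := by
    refine hK.Z_le ?_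
    rw [← hg, show (c : G) * (g * z * g⁻¹) * (c : G)⁻¹ = (c : G) * g * z * ((c : G) * g)⁻¹ by group,
      ← hne]
    exact conj_mem_of_normalizer (hA hn) hz
  exact (mem_normalizer_iff.1 (hK.normalizes c.2) d).2 hmem

end Shape

end CfsgLib.SylL34
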