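import Mathlib.GroupTheory.OrderOfElement
import Mathlib.GroupTheory.Coset.Card
import Mathlib.Tactic

/-!
A four-group acting on a subgroup of odd order: a bound on the index of the fixed points of one involution.
-/

set_option autoImplicit false

namespace CfsgLib.SylL34

open Subgroup

variable {G : Type*} [Group G]

theorem sq_inj_of_odd {X : Subgroup G} (hX : Odd (Nat.card X)) {a b : G} (ha : a ∈ X) (hb : b ∈ X)
    (h : a * a = b * b) : a = b := by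
  obtain ⟨k, hk⟩ := hX
  have key : ∀ c ∈ X, (c * c) ^ (k + 1) = c := fun c hc => by
    have h1 : c ^ Nat.card X = 1 :=
      orderOf_dvd_iff_pow_eq_one.1 (Subgroup.orderOf_dvd_natCard X hc)
    rw [← pow_two, ← pow_mul, show 2 * (k + 1) = Nat.card X + 1 by omega, pow_succ, h1, one_mul]
  rw [← key a ha, ← key b hb, h]

/-- Cosets of the fixed points of an involution in an odd subgroup correspond to the inverted elements. -/
theorem relIndex_eq_card_inverted {X : Subgroup G} (hX : Odd (Nat.card X)) {z : G} (hz : z * z = 1)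
    (hn : ∀ x ∈ X, z * x * z⁻¹ ∈ X) :
    (X ⊓ Subgroup.centralizer ({z} : Set G)).relIndex X =
      Nat.card {s : G // s ∈ X ∧ z * s * z⁻¹ = s⁻¹} := by
  obtain ⟨k, hk⟩ := hX
  set K := X ⊓ Subgroup.centralizer ({z} : Set G)
  have hzi : z⁻¹ = z := inv_eq_of_mul_eq_one_right hz
  have hc : ∀ c : G, z * (z * c * z⁻¹) * z⁻¹ = c := fun c => by
    rw [hzi, ← mul_assoc, ← mul_assoc, hz, one_mul, mul_assoc, hz, mul_one]
  let f : X → {s : G // s ∈ X ∧ z * s * z⁻¹ = s⁻¹} := fun x =>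
    ⟨(x : G) * (z * (x : G)⁻¹ * z⁻¹), mul_mem x.2 (hn _ (inv_mem x.2)), by
      rw [show z * ((x : G) * (z * (x : G)⁻¹ * z⁻¹)) * z⁻¹ =
        (z * x * z⁻¹) * (z * (z * (x : G)⁻¹ * z⁻¹) * z⁻¹) by group, hc]
      group⟩
  have hf : ∀ x y : X, f x = f y ↔ x⁻¹ * y ∈ K.subgroupOf X := fun x y => by
    rw [Subgroup.mem_subgroupOf, Subtype.ext_iff]
    show (x : G) * (z * (x : G)⁻¹ * z⁻¹) = (y : G) * (z * (y : G)⁻¹ * z⁻¹) ↔ (x : G)⁻¹ * y ∈ K
    rw [show ((x : G)⁻¹ * y ∈ K) ↔ ((x : G)⁻¹ * y) * z = z * ((x : G)⁻¹ * y) from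
      ⟨fun h => Subgroup.mem_centralizer_singleton_iff.1 (Subgroup.mem_inf.1 h).2,
        fun h => Subgroup.mem_inf.2
          ⟨X.mul_mem (X.inv_mem x.2) y.2, Subgroup.mem_centralizer_singleton_iff.2 h⟩⟩]
    constructor
    · intro h
      calc (x : G)⁻¹ * y * z = (x : G)⁻¹ * ((y : G) * (z * (y : G)⁻¹ * z⁻¹)) * (z * y) := by group
        _ = (x : G)⁻¹ * ((x : G) * (z * (x : G)⁻¹ * z⁻¹)) * (z * y) := by rw [h]
        _ = z * ((x : G)⁻¹ * y) := by group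
    · intro h
      calc (x : G) * (z * (x : G)⁻¹ * z⁻¹) = (x : G) * (z * ((x : G)⁻¹ * y)) * ((y : G)⁻¹ * z⁻¹) := by
            group
        _ = (x : G) * ((x : G)⁻¹ * y * z) * ((y : G)⁻¹ * z⁻¹) := by rw [h]
        _ = (y : G) * (z * (y : G)⁻¹ * z⁻¹) := by group
  rw [Subgroup.relIndex, Subgroup.index_eq_card]
  refine Nat.card_eq_of_bijective (fun q => Quotient.liftOn' q f fun x y h => ?_) ⟨?_, ?_⟩
  · exact (hf x y).2 (QuotientGroup.leftRel_apply.1 h)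
  · intro a b
    induction a, b using Quotient.inductionOn₂' with | _ x y =>
    intro h
    exact Quotient.eq''.2 (QuotientGroup.leftRel_apply.2 ((hf x y).1 h))
  · rintro ⟨s, hs, hinv⟩
    have hr : s ^ (k + 1) ∈ X := pow_mem hs _
    refine ⟨QuotientGroup.mk ⟨_, hr⟩, Subtype.ext ?_⟩
    show s ^ (k + 1) * (z * (s ^ (k + 1))⁻¹ * z⁻¹) = s
    rw [← inv_pow, ← conj_pow, show z * s⁻¹ * z⁻¹ = (z * s * z⁻¹)⁻¹ by group, hinv, inv_inv,
      ← pow_add, show k + 1 + (k + 1) = Nat.card X + 1 by omega, pow_succ]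
    rw [orderOf_dvd_iff_pow_eq_one.1 (Subgroup.orderOf_dvd_natCard X hs), one_mul]

theorem index_cent_ge {G : Type*} [Group G] [Finite G] (X : Subgroup G) (hX : Odd (Nat.card X))
    {z₁ z₂ z₃ : G} (h1 : orderOf z₁ = 2) (h2 : orderOf z₂ = 2) (h3 : z₃ = z₁ * z₂)
    (hc : Commute z₁ z₂) (hne : z₁ ≠ z₂) (hn1 : ∀ x ∈ X, z₁ * x * z₁⁻¹ ∈ X)
    (hn2 : ∀ x ∈ X, z₂ * x * z₂⁻¹ ∈ X) :
    let X0 := X ⊓ Subgroup.centralizer ({z₁} : Set G) ⊓ Subgroup.centralizer ({z₂} : Set G)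
    X0.relIndex (X ⊓ Subgroup.centralizer ({z₂} : Set G)) *
        X0.relIndex (X ⊓ Subgroup.centralizer ({z₃} : Set G)) ≤
      (X ⊓ Subgroup.centralizer ({z₁} : Set G)).relIndex X := by
  have _ := hne
  intro X0
  have hz1 : z₁ * z₁ = 1 := by rw [← pow_two, ← h1, pow_orderOf_eq_one]
  have hz2 : z₂ * z₂ = 1 := by rw [← pow_two, ← h2, pow_orderOf_eq_one]
  have hi1 : z₁⁻¹ = z₁ := inv_eq_of_mul_eq_one_right hz1
  have hi2 : z₂⁻¹ = z₂ := inv_eq_of_mul_eq_one_right hz2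
  set Y := X ⊓ Subgroup.centralizer ({z₂} : Set G)
  set W := X ⊓ Subgroup.centralizer ({z₃} : Set G)
  have hYodd : Odd (Nat.card Y) := Odd.of_dvd_nat hX (Subgroup.card_dvd_of_le inf_le_left)
  have hWodd : Odd (Nat.card W) := Odd.of_dvd_nat hX (Subgroup.card_dvd_of_le inf_le_left)
  have hY : X0 = Y ⊓ Subgroup.centralizer ({z₁} : Set G) := inf_right_comm _ _ _
  have hW : X0 = W ⊓ Subgroup.centralizer ({z₁} : Set G) := by
    ext x
    simp only [X0, W, Subgroup.mem_inf, Subgroup.mem_centralizer_singleton_iff, h3]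
    refine ⟨fun ⟨⟨hx, ha⟩, hb⟩ => ⟨⟨hx, ?_⟩, ha⟩, fun ⟨⟨hx, hab⟩, ha⟩ => ⟨⟨hx, ha⟩, ?_⟩⟩
    · rw [← mul_assoc, ha, mul_assoc, hb, mul_assoc]
    · rw [← mul_assoc, ha, mul_assoc, mul_assoc] at hab
      exact mul_left_cancel hab
  have hnY : ∀ x ∈ Y, z₁ * x * z₁⁻¹ ∈ Y := fun x hx => ⟨hn1 x hx.1, by
    have hx2 : Commute x z₂ := Subgroup.mem_centralizer_singleton_iff.1 hx.2
    exact Subgroup.mem_centralizer_singleton_iff.2 ((hc.mul_left hx2).mul_left hc.inv_left).eq⟩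
  have hc13 : Commute z₁ z₃ := h3 ▸ (Commute.refl z₁).mul_right hc
  have hnW : ∀ x ∈ W, z₁ * x * z₁⁻¹ ∈ W := fun x hx => ⟨hn1 x hx.1, by
    have hx3 : Commute x z₃ := Subgroup.mem_centralizer_singleton_iff.1 hx.2
    exact Subgroup.mem_centralizer_singleton_iff.2 ((hc13.mul_left hx3).mul_left hc13.inv_left).eq⟩
  have eY : X0.relIndex Y = Nat.card {s : G // s ∈ Y ∧ z₁ * s * z₁⁻¹ = s⁻¹} :=
    (congrArg (Subgroup.relIndex · Y) hY).trans (relIndex_eq_card_inverted hYodd hz1 hnY)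
  have eW : X0.relIndex W = Nat.card {s : G // s ∈ W ∧ z₁ * s * z₁⁻¹ = s⁻¹} :=
    (congrArg (Subgroup.relIndex · W) hW).trans (relIndex_eq_card_inverted hWodd hz1 hnW)
  rw [eY, eW, relIndex_eq_card_inverted hX hz1 hn1, ← Nat.card_prod]
  -- `z₂` fixes the first factor and inverts the second
  have hfix : ∀ s ∈ Y, z₂ * s * z₂⁻¹ = s := fun s hs => by
    rw [← Subgroup.mem_centralizer_singleton_iff.1 hs.2, mul_inv_cancel_right]
  have hflip : ∀ t ∈ W, z₁ * t * z₁⁻¹ = t⁻¹ → z₂ * t * z₂⁻¹ = t⁻¹ := fun t ht hinv => by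
    have h := Subgroup.mem_centralizer_singleton_iff.1 ht.2
    rw [h3] at h
    rw [← hinv, hi1, hi2]
    calc z₂ * t * z₂ = z₁ * (z₁ * z₂ * t) * z₂ := by
          rw [← mul_assoc z₁, ← mul_assoc z₁, hz1, one_mul]
      _ = z₁ * (t * (z₁ * z₂)) * z₂ := by rw [← h]
      _ = z₁ * t * z₁ := by simp only [mul_assoc, hz2, mul_one]
  have hconj : ∀ (z a b : G), z * (a * b) * z⁻¹ = (z * a * z⁻¹) * (z * b * z⁻¹) := fun z a b => by group
  refine Nat.card_le_card_of_injective (fun p => ⟨(p.1 : G) * ((p.2 : G) * p.2) * p.1,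
    mul_mem (mul_mem p.1.2.1.1 (mul_mem p.2.2.1.1 p.2.2.1.1)) p.1.2.1.1, by
      rw [hconj, hconj, hconj, p.1.2.2, p.2.2.2]
      group⟩) ?_
  rintro ⟨⟨s, hsY, hs1⟩, ⟨t, htW, ht1⟩⟩ ⟨⟨s', hsY', hs1'⟩, ⟨t', htW', ht1'⟩⟩ he
  have e : s * (t * t) * s = s' * (t' * t') * s' := congrArg Subtype.val he
  have e2 : s * (t * t)⁻¹ * s = s' * (t' * t')⁻¹ * s' := by
    have := congrArg (fun u => z₂ * u * z₂⁻¹) e
    simp only [hconj, hfix s hsY, hfix s' hsY', hflip t htW ht1, hflip t' htW' ht1'] at this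
    simpa [mul_inv_rev] using this
  have e3 : s * ((t * t) * (t * t)) * s⁻¹ = s' * ((t' * t') * (t' * t')) * s'⁻¹ := by
    calc s * ((t * t) * (t * t)) * s⁻¹ = (s * (t * t) * s) * (s * (t * t)⁻¹ * s)⁻¹ := by
          simp [mul_assoc]
      _ = (s' * (t' * t') * s') * (s' * (t' * t')⁻¹ * s')⁻¹ := by rw [e, e2]
      _ = _ := by simp [mul_assoc]
  have hm : ∀ a b : G, a ∈ X → b ∈ X → a * (b * b) * a⁻¹ ∈ X := fun a b ha hb =>
    mul_mem (mul_mem ha (mul_mem hb hb)) (inv_mem ha)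
  have e4 : s * (t * t) * s⁻¹ = s' * (t' * t') * s'⁻¹ :=
    sq_inj_of_odd hX (hm s t hsY.1 htW.1) (hm s' t' hsY'.1 htW'.1) <| by
      calc s * (t * t) * s⁻¹ * (s * (t * t) * s⁻¹) = s * ((t * t) * (t * t)) * s⁻¹ := by group
        _ = s' * ((t' * t') * (t' * t')) * s'⁻¹ := e3
        _ = _ := by group
  have e5 : s * s = s' * s' := by
    calc s * s = (s * (t * t) * s⁻¹)⁻¹ * (s * (t * t) * s) := by group
      _ = (s' * (t' * t') * s'⁻¹)⁻¹ * (s' * (t' * t') * s') := by rw [e4, e]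
      _ = _ := by group
  have hss : s = s' := sq_inj_of_odd hX hsY.1 hsY'.1 e5
  subst hss
  have htt : t = t' := sq_inj_of_odd hX htW.1 htW'.1 (mul_left_cancel (mul_right_cancel e4))
  subst htt
  rfl

end CfsgLib.SylL34
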