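import Cfsg.Agent.Lib.SylLThreeFour.Fusion
import Mathlib.GroupTheory.Sylow

/-!
The two elementary abelian subgroups of order 16 are weakly closed; control of the fusion of their
elements.
-/

set_option autoImplicit false

namespace CfsgLib.SylL34

open Subgroup CfsgLib.Recog.LThreeFour
open scoped Pointwise

universe u

variable {G : Type u} [Group G] [Finite G]

theorem twoFact : Fact (Nat.Prime 2) := ⟨Nat.prime_two⟩

theorem sylow_smul_eq (g : G) (P : Sylow 2 G) : ((g • P : Sylow 2 G) : Subgroup G) = cj g P := rfl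

/-- A 2-element normalizing a Sylow 2-subgroup lies in it. -/
theorem mem_sylow_of_normalizes (P : Sylow 2 G) {g : G} (hg : g ∈ normalizer ((P : Subgroup G) : Set G))
    {k : ℕ} (hk : g ^ 2 ^ k = 1) : g ∈ (P : Subgroup G) := by
  have := twoFact
  have h2 : IsPGroup 2 ↥(zpowers g ⊔ (P : Subgroup G)) :=
    IsPGroup.to_sup_of_normal_right' (IsPGroup.of_card_dvd_pow (n := k) (by
      rw [Nat.card_zpowers]; exact orderOf_dvd_of_pow_eq_one hk)) P.2 (zpowers_le.2 hg)
  rw [← P.is_maximal' h2 le_sup_right]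
  exact mem_sup_left (mem_zpowers g)

/-- The part of odd order of an element normalizing a Sylow 2-subgroup. -/
theorem exists_odd_part (P : Sylow 2 G) {g : G} (hg : g ∈ normalizer ((P : Subgroup G) : Set G)) :
    ∃ s ∈ (P : Subgroup G), ∃ e : G, e ∈ zpowers g ∧
      e ∈ normalizer ((P : Subgroup G) : Set G) ∧ Odd (orderOf e) ∧ g = s * e := by
  obtain ⟨a, m, hm, he⟩ := Nat.exists_eq_two_pow_mul_odd (orderOf_pos g).ne'
  obtain ⟨u, hu⟩ : ∃ u : ℕ, 2 ^ a * u ≡ 1 [MOD m] := by
    have hc : Nat.Coprime (2 ^ a) m := Nat.Coprime.pow_left a (Nat.coprime_two_left.2 hm)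
    by_cases hm1 : m = 1
    · exact ⟨0, by subst hm1; simp [Nat.modEq_one]⟩
    obtain ⟨u, hu⟩ := Nat.exists_mul_mod_eq_one_of_coprime hc (by have := hm.pos; omega)
    exact ⟨u, by show _ % m = 1 % m; rw [hu.2, Nat.mod_eq_of_lt (by have := hm.pos; omega)]⟩
  set e := g ^ (2 ^ a * u) with hedef
  have hez : e ∈ zpowers g := pow_mem (mem_zpowers g) _
  refine ⟨g * e⁻¹, ?_, e, hez, pow_mem hg _, ?_, by group⟩
  · refine mem_sylow_of_normalizes P (mul_mem hg (inv_mem (pow_mem hg _))) (k := a) ?_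
    have hcomm : Commute g e⁻¹ := (Commute.pow_right (Commute.refl g) _).inv_right
    rw [hcomm.mul_pow, inv_pow, mul_inv_eq_one, hedef, ← pow_mul, pow_eq_pow_iff_modEq, he]
    have := (hu.mul_left' (2 ^ a))
    rw [mul_one] at this
    rw [mul_comm (2 ^ a * u)]
    exact this.symm
  · refine Odd.of_dvd_nat hm (orderOf_dvd_of_pow_eq_one ?_)
    rw [hedef, ← pow_mul, show 2 ^ a * u * m = u * orderOf g by rw [he]; ring, pow_mul',
      pow_orderOf_eq_one, one_pow]

namespace Shape

variable {P : Sylow 2 G} {A B Z : Subgroup G} (h : Shape (P : Subgroup G) A B Z)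
include h

theorem cj_eq_of_normalizer {g : G} (hg : g ∈ normalizer ((P : Subgroup G) : Set G)) : cj g A = A := by
  obtain ⟨s, hs, e, -, hen, hodd, rfl⟩ := exists_odd_part P hg
  rw [cj_mul]
  have hAe : ∀ {X : Subgroup G}, X ≤ (P : Subgroup G) → cj e X ≤ (P : Subgroup G) := fun {X} hX =>
    (cj_mono hX).trans (cj_eq_self_iff.2 hen).le
  have hs' : cj s A = A := cj_eq_self_iff.2 (h.S_le_normalizer hs)
  have he2 : ∀ {X : Subgroup G}, Nat.card X = 16 → (∀ x ∈ X, x * x = 1) →
      X ≤ (P : Subgroup G) → cj e X = A ∨ cj e X = B := by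
    intro X hc hx hX
    refine h.elem_eq (hAe hX) (by rw [card_cj, hc]) fun x hx' => ?_
    have h1 := hx _ (mem_cj.1 hx')
    calc x * x = e * (e⁻¹ * x * e * (e⁻¹ * x * e)) * e⁻¹ := by group
      _ = 1 := by rw [h1]; group
  rcases he2 h.cardA h.eA h.hA with h1 | h1
  · rw [h1, hs']
  -- an element of odd order cannot swap the two subgroups
  have h2 : cj e B = A := by
    rcases he2 h.cardB h.eB h.hB with h2 | h2
    · exact h2
    · exact absurd (cj_inj (h1.trans h2.symm)) h.A_ne_B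
  have hsq : cj (e ^ 2) A = A := by rw [pow_two, cj_mul, h1, h2]
  obtain ⟨k, hk⟩ := pow_sq_eq hodd
  have := cj_eq_self_iff.2 (pow_mem (cj_eq_self_iff.1 hsq) k)
  rw [hk] at this
  rw [this, hs']

theorem normalizer_le_A :
    normalizer ((P : Subgroup G) : Set G) ≤ normalizer (A : Set G) := fun _ hg =>
  cj_eq_self_iff.1 (h.cj_eq_of_normalizer hg)

theorem normalizer_le_Z :
    normalizer ((P : Subgroup G) : Set G) ≤ normalizer (Z : Set G) := fun g hg => by
  refine cj_eq_self_iff.1 ?_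
  rw [← h.inter, cj_inf, h.cj_eq_of_normalizer hg, h.symm.cj_eq_of_normalizer hg]

theorem not_conj_B (g : G) : cj g A ≠ B := by
  intro he
  have := twoFact
  have h1 : (P : Subgroup G) ≤ normalizer (B : Set G) := h.symm.S_le_normalizer
  have h2 : ((g • P : Sylow 2 G) : Subgroup G) ≤ normalizer (B : Set G) := by
    rw [sylow_smul_eq, ← he]
    exact (cj_mono h.S_le_normalizer).trans (Subgroup.le_normalizer_map _)
  obtain ⟨k, hk⟩ := MulAction.exists_smul_eq ↥(normalizer (B : Set G))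
    ((g • P).subtype h2) (P.subtype h1)
  rw [Sylow.smul_subtype] at hk
  have heq : (k : G) • (g • P) = P := Sylow.subtype_injective hk
  have hn : cj ((k : G) * g) (P : Subgroup G) = (P : Subgroup G) := by
    rw [cj_mul]
    exact congrArg (fun Q : Sylow 2 G => (Q : Subgroup G)) heq
  have := h.cj_eq_of_normalizer (cj_eq_self_iff.1 hn)
  rw [cj_mul, he, cj_eq_self_iff.2 k.2] at this
  exact h.A_ne_B this.symm

/-- A conjugate of `A` inside the Sylow subgroup is `A`. -/
theorem weakly {g : G} (hg : cj g A ≤ (P : Subgroup G)) : cj g A = A := by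
  rcases h.elem_eq hg (by rw [card_cj, h.cardA]) (fun x hx => by
    have h1 := h.eA _ (mem_cj.1 hx)
    calc x * x = g * (g⁻¹ * x * g * (g⁻¹ * x * g)) * g⁻¹ := by group
      _ = 1 := by rw [h1]; group) with e | e
  · exact e
  · exact absurd e (h.not_conj_B g)

/-- Two conjugates of `A` in a 2-subgroup coincide. -/
theorem cj_unique {Q : Subgroup G} (hQ : IsPGroup 2 Q) {g k : G} (hg : cj g A ≤ Q) (hk : cj k A ≤ Q) :
    cj g A = cj k A := by
  have := twoFact
  obtain ⟨R, hR⟩ := hQ.exists_le_sylow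
  obtain ⟨x, hx⟩ := MulAction.exists_smul_eq G R P
  have hxR : cj x (R : Subgroup G) = (P : Subgroup G) := by rw [← sylow_smul_eq, hx]
  have key : ∀ {y : G}, cj y A ≤ Q → cj x (cj y A) = A := fun {y} hy => by
    rw [← cj_mul]
    exact h.weakly (by rw [cj_mul]; exact (cj_mono (hy.trans hR)).trans hxR.le)
  exact cj_inj ((key hg).trans (key hk).symm)

/-- The fusion of the elements of `A` is controlled by its normalizer. -/
theorem conj_normalizer {a g : G} (ha : a ∈ A) (hga : g * a * g⁻¹ ∈ A) :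
    ∃ n ∈ normalizer (A : Set G), n * a * n⁻¹ = g * a * g⁻¹ := by
  have := twoFact
  set b := g * a * g⁻¹
  have hA2 : IsPGroup 2 A := h.isPGroup.to_le h.hA
  have h1 : A ≤ centralizer ({b} : Set G) := fun x hx =>
    mem_centralizer_singleton_iff.2 (comm_of_sq h.eA hx hga)
  have h2 : cj g A ≤ centralizer ({b} : Set G) := by
    rw [cj_centralizer]
    exact cj_mono fun x hx => mem_centralizer_singleton_iff.2 (comm_of_sq h.eA hx ha)
  obtain ⟨Q, hQ⟩ := (hA2.of_equiv (Subgroup.subgroupOfEquivOfLe h1).symm).exists_le_sylow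
  obtain ⟨Q', hQ'⟩ := (((hA2.map (MulAut.conj g).toMonoidHom) : IsPGroup 2 (cj g A)).of_equiv
    (Subgroup.subgroupOfEquivOfLe h2).symm).exists_le_sylow
  obtain ⟨c, hc⟩ := MulAction.exists_smul_eq ↥(centralizer ({b} : Set G)) Q' Q
  have hQG : IsPGroup 2 ((Q : Subgroup _).map (centralizer ({b} : Set G)).subtype) := Q.2.map _
  have i1 : cj 1 A ≤ (Q : Subgroup _).map (centralizer ({b} : Set G)).subtype := by
    rw [cj_one]
    exact fun x hx => ⟨⟨x, h1 hx⟩, hQ hx, rfl⟩
  have i2 : cj ((c : G) * g) A ≤ (Q : Subgroup _).map (centralizer ({b} : Set G)).subtype := by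
    rw [cj_mul]
    intro x hx
    have hy := mem_cj.1 hx
    refine ⟨c * ⟨_, h2 hy⟩ * c⁻¹, ?_, by simp [mul_assoc]⟩
    rw [← hc]
    exact mem_cj_of (G := ↥(centralizer ({b} : Set G))) c (hQ' hy)
  refine ⟨(c : G) * g, cj_eq_self_iff.1 ((h.cj_unique hQG i2 i1).trans (cj_one A)), ?_⟩
  rw [show (c : G) * g * a * ((c : G) * g)⁻¹ = c * b * (c : G)⁻¹ by simp only [b]; group,
    mem_centralizer_singleton_iff.1 c.2, mul_inv_cancel_right]

/-- Elements of the centre are fused by the normalizer of the Sylow subgroup. -/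
theorem conj_Z {x g : G} (hx : x ∈ Z) (hgx : g * x * g⁻¹ ∈ Z) :
    ∃ n ∈ normalizer ((P : Subgroup G) : Set G), n * x * n⁻¹ = g * x * g⁻¹ := by
  have := twoFact
  have hc : ∀ {y : G}, y ∈ Z → y ∈ centralizer ((P : Subgroup G) : Set G) := fun {y} hy =>
    mem_centralizer_iff.2 fun s hs => (h.cen y hy s hs).symm
  obtain ⟨n, hn, he⟩ := P.conj_eq_normalizer_conj_of_mem_centralizer x g⁻¹ (hc hx)
    (by rw [inv_inv]; exact hc hgx)
  exact ⟨n⁻¹, inv_mem hn, by rw [inv_inv] at he ⊢; exact he.symm⟩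

end Shape

end CfsgLib.SylL34
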