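import Mathlib.GroupTheory.SpecificGroups.Alternating.Simple
import Mathlib.GroupTheory.Sylow
import Mathlib.Logic.Equiv.Fin.Rotate
import Mathlib.Tactic

/-!
Facts about the alternating group of degree five used for the cores of involution centralizers:
a four-group is self-centralizing, an automorphism fixing it pointwise is a conjugation by one of
its elements, and two commuting involutions can be brought to standard position.
-/

set_option autoImplicit false
set_option linter.style.haveILetI false

namespace CfsgLib.SylL34.Five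

open Equiv

/-- The first standard involution. -/
def sa : Perm (Fin 5) := swap 0 1 * swap 2 3

/-- The second standard involution. -/
def sb : Perm (Fin 5) := swap 0 2 * swap 1 3

/-- The standard five-cycle. -/
def gc : Perm (Fin 5) := finRotate 5

theorem standard : sa * sa = 1 ∧ sb * sb = 1 ∧ sa * sb = sb * sa ∧ sa ≠ 1 ∧ sb ≠ 1 ∧ sa ≠ sb ∧
    Perm.sign sa = 1 ∧ Perm.sign sb = 1 ∧ Perm.sign gc = 1 := by decide +kernel

set_option synthInstance.maxSize 512 in
set_option synthInstance.maxHeartbeats 100000 in
theorem normal_form : ∀ a : Perm (Fin 5), a * a = 1 → a ≠ 1 → Perm.sign a = 1 →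
    ∀ b : Perm (Fin 5), b * b = 1 → b ≠ 1 → Perm.sign b = 1 → a * b = b * a → a ≠ b →
      ∃ g : Perm (Fin 5), g * a = sa * g ∧ g * b = sb * g := by decide +kernel

theorem cent_one : ∀ σ : Perm (Fin 5), Perm.sign σ = 1 →
    ∀ s : Perm (Fin 5), s = sa ∨ s = sb ∨ s = sa * sb → σ * s = s * σ → σ * σ = 1 := by
  intro σ h s hs
  rcases hs with rfl | rfl | rfl <;> revert σ <;> decide +kernel

theorem gen_rel : gc ^ 5 = 1 ∧ (sa * gc) ^ 3 = 1 ∧ (sb * gc) ^ 5 = 1 ∧ (sa * sb * gc) ^ 2 = 1 := by
  decide +kernel

theorem rigid : ∀ g : Perm (Fin 5), g ^ 5 = 1 → (sa * g) ^ 3 = 1 → (sb * g) ^ 5 = 1 →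
    (sa * sb * g) ^ 2 = 1 →
      g = gc ∨ g = sa * gc * sa ∨ g = sb * gc * sb ∨ g = sa * sb * gc * (sa * sb) := by
  decide +kernel

theorem faithful : ∀ τ : Perm (Fin 5), τ = sa ∨ τ = sb ∨ τ = sa * sb → τ * gc ≠ gc * τ := by
  intro τ h
  rcases h with rfl | rfl | rfl <;> decide +kernel

/-- Products of the two generators. -/
def grow (X : Finset (Perm (Fin 5))) : Finset (Perm (Fin 5)) :=
  X ∪ X.image (· * sa) ∪ X.image (· * gc)

theorem generated : ∀ σ : Perm (Fin 5), Perm.sign σ = 1 → σ ∈ Nat.iterate grow 12 {1} := by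
  decide +kernel

theorem mem_closure_of_sign {σ : Perm (Fin 5)} (h : Perm.sign σ = 1) :
    σ ∈ Subgroup.closure ({sa, gc} : Set (Perm (Fin 5))) := by
  have key : ∀ n, ∀ x ∈ Nat.iterate grow n ({1} : Finset (Perm (Fin 5))),
      x ∈ Subgroup.closure ({sa, gc} : Set (Perm (Fin 5))) := by
    intro n
    induction n with
    | zero => intro x hx; rw [Function.iterate_zero_apply, Finset.mem_singleton] at hx; exact hx ▸ one_mem _
    | succ n ih =>
      intro x hx
      rw [Function.iterate_succ_apply'] at hx
      simp only [grow, Finset.mem_union, Finset.mem_image] at hx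
      rcases hx with (hx | ⟨y, hy, rfl⟩) | ⟨y, hy, rfl⟩
      · exact ih x hx
      · exact mul_mem (ih y hy) (Subgroup.subset_closure (by simp))
      · exact mul_mem (ih y hy) (Subgroup.subset_closure (by simp))
  exact key 12 σ (generated σ h)

theorem no_twenty (S : Subgroup (Perm (Fin 5))) (h : S ≤ alternatingGroup (Fin 5))
    (h20 : Nat.card S = 20) : False := by
  haveI : IsSimpleGroup (alternatingGroup (Fin 5)) := alternatingGroup.isSimpleGroup (by simp)
  set T := S.subgroupOf (alternatingGroup (Fin 5)) with hT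
  have hA : Nat.card (alternatingGroup (Fin 5)) = 60 := by
    rw [Nat.card_eq_fintype_card]; decide +kernel
  have hTc : Nat.card T = 20 := by rw [hT, Nat.card_congr (Subgroup.subgroupOfEquivOfLe h).toEquiv, h20]
  have hi : T.index = 3 := by
    have := T.card_mul_index
    rw [hA, hTc] at this
    omega
  rcases T.normalCore_normal.eq_bot_or_eq_top with e | e
  · have : (MulAction.toPermHom (alternatingGroup (Fin 5)) (alternatingGroup (Fin 5) ⧸ T)).ker = ⊥ := by
      rw [← Subgroup.normalCore_eq_ker, e]
    have hle := Nat.card_le_card_of_injective _ ((MonoidHom.ker_eq_bot_iff _).1 this)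
    rw [hA, Nat.card_perm, ← Subgroup.index_eq_card, hi] at hle
    norm_num [Nat.factorial] at hle
  · have := Subgroup.normalCore_le T
    rw [e, top_le_iff] at this
    rw [this, Subgroup.index_top] at hi
    omega

end CfsgLib.SylL34.Five
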