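import Cfsg.Agent.Lib.Recog.LThreeFourPlane.Model

/-!
Groups of order 64 of the shape of a Sylow 2-subgroup of the three-dimensional projective special
linear group over four elements: two elementary abelian subgroups of order 16 meeting in the centre.
-/

set_option autoImplicit false

namespace CfsgLib.SylL34

open Subgroup

universe u v

variable {G : Type u} [Group G]

/-- `S` has the shape of such a group, with elementary abelian subgroups `A`, `B` and centre `Z`. -/
structure Shape (S A B Z : Subgroup G) : Prop where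
  cardS : Nat.card S = 64
  hA : A ≤ S
  hB : B ≤ S
  eA : ∀ a ∈ A, a * a = 1
  eB : ∀ b ∈ B, b * b = 1
  cardA : Nat.card A = 16
  cardB : Nat.card B = 16
  inter : A ⊓ B = Z
  cardZ : Nat.card Z = 4
  invol : ∀ s ∈ S, s * s = 1 → s ∈ A ∨ s ∈ B
  cen : ∀ z ∈ Z, ∀ s ∈ S, z * s = s * z
  comm : ∀ a ∈ A, ∀ b ∈ B, a * b * a⁻¹ * b⁻¹ ∈ Z

open CfsgLib.Recog.LThreeFour (comm_of_sq)

namespace Shape

variable {S A B Z : Subgroup G} (h : Shape S A B Z)
include h

theorem hZA : Z ≤ A := h.inter ▸ inf_le_left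

theorem hZB : Z ≤ B := h.inter ▸ inf_le_right

theorem hZS : Z ≤ S := h.hZA.trans h.hA

theorem eZ {x : G} (hx : x ∈ Z) : x * x = 1 := h.eA x (h.hZA hx)

theorem mem_Z {x : G} (ha : x ∈ A) (hb : x ∈ B) : x ∈ Z := h.inter ▸ mem_inf.2 ⟨ha, hb⟩

theorem finite : Finite S := Nat.finite_of_card_ne_zero (by rw [h.cardS]; norm_num)

theorem isPGroup : IsPGroup 2 S := IsPGroup.of_card (n := 6) (by rw [h.cardS]; norm_num)

theorem symm : Shape S B A Z where
  cardS := h.cardS
  hA := h.hB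
  hB := h.hA
  eA := h.eB
  eB := h.eA
  cardA := h.cardB
  cardB := h.cardA
  inter := by rw [inf_comm]; exact h.inter
  cardZ := h.cardZ
  invol := fun s hs h2 => (h.invol s hs h2).symm
  cen := h.cen
  comm := fun b hb a ha => by
    rw [show b * a * b⁻¹ * a⁻¹ = (a * b * a⁻¹ * b⁻¹)⁻¹ by group]
    exact inv_mem (h.comm a ha b hb)

theorem A_ne_B : A ≠ B := fun e => by
  have := h.cardZ
  rw [← h.inter, e, inf_idem, h.cardB] at this
  omega

theorem not_A_le_Z : ¬ A ≤ Z := fun e => by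
  have := Subgroup.card_dvd_of_le e
  rw [h.cardA, h.cardZ] at this
  norm_num at this

theorem exists_A_not_Z : ∃ a ∈ A, a ∉ Z := SetLike.not_le_iff_exists.1 h.not_A_le_Z

theorem sup_eq : A ⊔ B = S := by
  have := h.finite
  refine Subgroup.eq_of_le_of_card_ge (sup_le h.hA h.hB) ?_
  have : Finite ↥(A ⊔ B) := Finite.of_injective _
    (Subgroup.inclusion_injective (sup_le h.hA h.hB))
  have e1 : Nat.card ↥(A ⊓ B) * B.relIndex A = Nat.card A := by
    rw [← Subgroup.inf_relIndex_left]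
    have := Subgroup.relIndex_mul_relIndex ⊥ (A ⊓ B) A bot_le inf_le_left
    simpa [Subgroup.relIndex_bot_left] using this
  have e2 : Nat.card B * B.relIndex (A ⊔ B) = Nat.card ↥(A ⊔ B) := by
    simpa [Subgroup.relIndex_bot_left] using
      Subgroup.relIndex_mul_relIndex ⊥ B (A ⊔ B) bot_le le_sup_right
  have h1 : B.relIndex A ≤ B.relIndex (A ⊔ B) := by
    refine Subgroup.relIndex_le_of_le_right le_sup_left ?_
    intro h0
    rw [h0, mul_zero] at e2
    exact Nat.card_pos.ne' e2.symm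
  rw [h.inter, h.cardZ, h.cardA] at e1
  rw [h.cardS, ← e2, h.cardB]
  omega

theorem A_normal {s a : G} (hs : s ∈ S) (ha : a ∈ A) : s * a * s⁻¹ ∈ A := by
  have key : A ⊔ B ≤ normalizer (A : Set G) := by
    refine sup_le le_normalizer fun b hb => ?_
    have hf : ∀ {b : G}, b ∈ B → ∀ {x : G}, x ∈ A → b * x * b⁻¹ ∈ A := fun {b} hb {x} hx => by
      rw [show b * x * b⁻¹ = (x * b * x⁻¹ * b⁻¹)⁻¹ * x by group]
      exact mul_mem (inv_mem (h.hZA (h.comm x hx b hb))) hx
    refine mem_normalizer_iff.2 fun x => ⟨fun hx => hf hb hx, fun hx => ?_⟩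
    have := hf (inv_mem hb) hx
    rwa [show b⁻¹ * (b * x * b⁻¹) * b⁻¹⁻¹ = x by group] at this
  rw [h.sup_eq] at key
  exact (mem_normalizer_iff.1 (key hs) a).1 ha

theorem S_le_normalizer : S ≤ normalizer (A : Set G) := fun s hs =>
  mem_normalizer_iff.2 fun x => ⟨fun hx => h.A_normal hs hx, fun hx => by
    have := h.A_normal (inv_mem hs) hx
    rwa [show s⁻¹ * (s * x * s⁻¹) * s⁻¹⁻¹ = x by group] at this⟩

theorem exists_mul {s : G} (hs : s ∈ S) : ∃ a ∈ A, ∃ b ∈ B, s = a * b := by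
  rw [← h.sup_eq] at hs
  have hB : B ≤ normalizer (A : Set G) := h.hB.trans h.S_le_normalizer
  rw [← SetLike.mem_coe, Subgroup.coe_mul_of_right_le_normalizer_left A B hB] at hs
  obtain ⟨a, ha, b, hb, rfl⟩ := hs
  exact ⟨a, ha, b, hb, rfl⟩

/-- Commuting elements of `A` and `B` lie in the centre. -/
theorem key {a b : G} (ha : a ∈ A) (hb : b ∈ B) (hab : a * b = b * a) : a ∈ Z ∨ b ∈ Z := by
  have h1 : a * b * (a * b) = 1 := by
    rw [show a * b * (a * b) = a * (b * a) * b by group, ← hab,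
      show a * (a * b) * b = (a * a) * (b * b) by group, h.eA a ha, h.eB b hb, one_mul]
  rcases h.invol _ (mul_mem (h.hA ha) (h.hB hb)) h1 with e | e
  · exact Or.inr (h.mem_Z (by simpa using mul_mem (inv_mem ha) e) hb)
  · exact Or.inl (h.mem_Z ha (by simpa using mul_mem e (inv_mem hb)))

/-- An element of `A` outside `Z` has centralizer `A` in `S`. -/
theorem selfA {a s : G} (ha : a ∈ A) (haZ : a ∉ Z) (hs : s ∈ S) (hc : s * a = a * s) : s ∈ A := by
  obtain ⟨x, hx, y, hy, rfl⟩ := h.exists_mul hs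
  have hay : a * y = y * a := by
    refine mul_left_cancel (a := x) ?_
    rw [← mul_assoc, ← mul_assoc, comm_of_sq h.eA hx ha, hc]
    group
  exact mul_mem hx (h.hZA ((h.key ha hy hay).resolve_left haZ))

/-- An elementary abelian subgroup of order 16 of `S` is `A` or `B`. -/
theorem elem_eq {E : Subgroup G} (hE : E ≤ S) (hcard : Nat.card E = 16)
    (he : ∀ x ∈ E, x * x = 1) : E = A ∨ E = B := by
  have hfin : ∀ {K : Subgroup G}, K ≤ S → Finite K := fun {K} hK =>
    haveI := h.finite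
    Finite.of_injective _ (Subgroup.inclusion_injective hK)
  have := hfin h.hA
  have := hfin h.hB
  rcases CfsgLib.Recog.LThreeFour.le_or_le (fun x hx => h.invol x (hE hx) (he x hx)) with e | e
  · exact Or.inl (Subgroup.eq_of_le_of_card_ge e (by rw [hcard, h.cardA]))
  · exact Or.inr (Subgroup.eq_of_le_of_card_ge e (by rw [hcard, h.cardB]))

end Shape

/-- A Sylow 2-subgroup isomorphic to one of `PSL(3, 4)` has the shape. -/
theorem exists_shape {F : Type v} [Field F] [Fintype F] (hF : Fintype.card F = 4) (S : Subgroup G)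
    (P : Sylow 2 (Matrix.ProjectiveSpecialLinearGroup (Fin 3) F))
    (hS : Nonempty (↥S ≃* ↥(P : Subgroup (Matrix.ProjectiveSpecialLinearGroup (Fin 3) F)))) :
    ∃ A B Z : Subgroup G, Shape S A B Z := by
  classical
  have : Fact (Nat.Prime 2) := ⟨Nat.prime_two⟩
  let U : Subgroup (Matrix.ProjectiveSpecialLinearGroup (Fin 3) F) := CfsgLib.Trans3.L34.uT
  let R : Subgroup (Matrix.ProjectiveSpecialLinearGroup (Fin 3) F) := CfsgLib.Trans3.L34.rowT
  let K : Subgroup (Matrix.ProjectiveSpecialLinearGroup (Fin 3) F) := CfsgLib.Trans3.L34.colT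
  have C : CfsgLib.Recog.LThreeFour.Cfg U R K := CfsgLib.Recog.LThreeFour.cfg_psl hF
  obtain ⟨P₀, hP₀⟩ := C.exists_sylow
  obtain ⟨e⟩ := hS
  have e₀ : ↥U ≃* ↥S :=
    ((MulEquiv.subgroupCongr hP₀.symm).trans (Sylow.equiv P₀ P)).trans e.symm
  let f : ↥U →* G := S.subtype.comp e₀.toMonoidHom
  have hf : Function.Injective f := Subtype.val_injective.comp e₀.injective
  have hfS : ∀ x, f x ∈ S := fun x => (e₀ x).2
  have hcard : ∀ H : Subgroup (Matrix.ProjectiveSpecialLinearGroup (Fin 3) F), H ≤ U →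
      Nat.card ((H.subgroupOf U).map f) = Nat.card H := fun H hH => by
    rw [Subgroup.card_map_of_injective hf, Nat.card_congr (Subgroup.subgroupOfEquivOfLe hH).toEquiv]
  have hRK : R ⊓ K ≤ U := inf_le_left.trans C.I_le
  refine ⟨(R.subgroupOf U).map f, (K.subgroupOf U).map f, ((R ⊓ K).subgroupOf U).map f, ?_⟩
  constructor
  · rw [← Nat.card_congr e₀.toEquiv, C.cardT]
  · rintro _ ⟨x, -, rfl⟩; exact hfS x
  · rintro _ ⟨x, -, rfl⟩; exact hfS x
  · rintro _ ⟨x, hx, rfl⟩
    rw [← map_mul, show x * x = 1 from Subtype.ext (C.sqI _ hx), map_one]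
  · rintro _ ⟨x, hx, rfl⟩
    rw [← map_mul, show x * x = 1 from Subtype.ext (C.sqE _ hx), map_one]
  · rw [hcard R C.I_le, C.cardI]
  · rw [hcard K C.E_le, C.cardE]
  · rw [← Subgroup.map_inf _ _ f hf]; rfl
  · rw [hcard _ hRK, C.cardZ]
  · intro s hs h2
    obtain ⟨x, hx⟩ := e₀.surjective ⟨s, hs⟩
    have hxs : f x = s := congrArg Subtype.val hx
    have hx2 : x * x = 1 := hf (by rw [map_mul, map_one, hxs, h2])
    rcases C.invols _ x.2 (congrArg Subtype.val hx2) with e' | e'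
    · exact Or.inl ⟨x, e', hxs⟩
    · exact Or.inr ⟨x, e', hxs⟩
  · rintro _ ⟨x, hx, rfl⟩ s hs
    obtain ⟨y, hy⟩ := e₀.surjective ⟨s, hs⟩
    rw [← show f y = s from congrArg Subtype.val hy, ← map_mul, ← map_mul]
    congr 1
    apply Subtype.ext
    by_cases h1 : (x : Matrix.ProjectiveSpecialLinearGroup (Fin 3) F) = 1
    · simp [h1]
    · have h2 : (y : Matrix.ProjectiveSpecialLinearGroup (Fin 3) F) ∈
          centralizer ({(x : Matrix.ProjectiveSpecialLinearGroup (Fin 3) F)} : Set _) := by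
        rw [C.cen (x : Matrix.ProjectiveSpecialLinearGroup (Fin 3) F) hx h1]; exact y.2
      exact (mem_centralizer_singleton_iff.1 h2).symm
  · rintro _ ⟨x, hx, rfl⟩ _ ⟨y, hy, rfl⟩
    refine ⟨x * y * x⁻¹ * y⁻¹, ?_, by simp [map_mul, map_inv]⟩
    obtain ⟨a, c, hxa⟩ := (show (x : Matrix.ProjectiveSpecialLinearGroup (Fin 3) F) ∈ R from hx)
    obtain ⟨b, d, hyb⟩ := (show (y : Matrix.ProjectiveSpecialLinearGroup (Fin 3) F) ∈ K from hy)
    show ((x * y * x⁻¹ * y⁻¹ : ↥U) : Matrix.ProjectiveSpecialLinearGroup (Fin 3) F) ∈ R ⊓ K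
    have e1 : CfsgLib.Trans3.L34.pu a 0 c * CfsgLib.Trans3.L34.pu 0 b d =
        CfsgLib.Trans3.L34.pu 0 0 (a * b) *
          (CfsgLib.Trans3.L34.pu 0 b d * CfsgLib.Trans3.L34.pu a 0 c) := by
      simp only [CfsgLib.Trans3.L34.pu_mul]
      congr 1 <;> ring
    push_cast
    rw [hxa, hyb, e1, CfsgLib.Recog.LThreeFour.mem_colT_rowT]
    exact ⟨a * b, by group⟩

end CfsgLib.SylL34
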