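import Mathlib.GroupTheory.Transfer
import Mathlib.GroupTheory.SpecificGroups.Cyclic
import Mathlib.Tactic.NormNum.Prime

/-!
An odd group of order divisible by 35 and dividing 315 has commuting elements of orders five and
seven.
-/

set_option autoImplicit false
set_option linter.unusedSectionVars false

namespace CfsgLib.SylL34

open Subgroup

variable {X : Type*} [Group X] [Finite X]

/-- An element normalizing a group of prime order centralizes it when its order is prime to `p-1`. -/
theorem comm_of_normalizes_prime {H : Subgroup X} {p : ℕ} [hp : Fact p.Prime] (hH : Nat.card H = p)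
    {y : X} (hy : y ∈ normalizer (H : Set X)) (hco : (orderOf y).Coprime (p - 1)) :
    y ∈ centralizer (H : Set X) := by
  have : IsCyclic H := isCyclic_of_prime_card hH
  have h1 := orderOf_map_dvd H.normalizerMonoidHom (⟨y, hy⟩ : normalizer (H : Set X))
  rw [Subgroup.orderOf_mk] at h1
  have h2 : orderOf (H.normalizerMonoidHom (⟨y, hy⟩ : normalizer (H : Set X))) ∣ p - 1 := by
    rw [← Nat.totient_prime hp.out, ← hH, ← IsCyclic.card_mulAut]
    exact orderOf_dvd_natCard _
  have h3 : (⟨y, hy⟩ : normalizer (H : Set X)) ∈ H.normalizerMonoidHom.ker :=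
    MonoidHom.mem_ker.2 (orderOf_eq_one_iff.1 (Nat.eq_one_of_dvd_coprimes hco h1 h2))
  rwa [Subgroup.normalizerMonoidHom_ker, mem_subgroupOf] at h3

theorem exists_comm_five_seven (h35 : 35 ∣ Nat.card X) (h315 : Nat.card X ∣ 315) :
    ∃ B Q : Subgroup X, Nat.card B = 7 ∧ Nat.card Q = 5 ∧ Q ≤ centralizer (B : Set X) := by
  classical
  have : Fact (Nat.Prime 5) := ⟨by norm_num⟩
  have : Fact (Nat.Prime 7) := ⟨by norm_num⟩
  have hodd : ∀ y : X, Nat.Coprime (orderOf y) 4 := fun y =>
    Nat.Coprime.coprime_dvd_left ((orderOf_dvd_natCard y).trans h315) (by norm_num)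
  let T : Sylow 5 X := Classical.arbitrary _
  have hT : Nat.card (T : Subgroup X) = 5 := by
    obtain ⟨k, hk⟩ := T.2.exists_card_eq
    have h1 : 5 ∣ Nat.card (T : Subgroup X) :=
      T.pow_dvd_card_of_pow_dvd_card (n := 1) (Dvd.dvd.trans (by norm_num) h35)
    have h2 : Nat.card (T : Subgroup X) ∣ 315 := (T : Subgroup X).card_subgroup_dvd_card.trans h315
    rw [hk] at h1 h2 ⊢
    rcases k with _ | _ | k
    · norm_num at h1
    · norm_num
    · exact absurd ((pow_dvd_pow 5 (show 2 ≤ k + 1 + 1 by omega)).trans h2) (by norm_num)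
  have hnT : normalizer ((T : Subgroup X) : Set X) ≤ centralizer ((T : Subgroup X) : Set X) :=
    fun y hy => comm_of_normalizes_prime hT hy (hodd y)
  set K : Subgroup X := (MonoidHom.transferSylow T hnT).ker
  have hcp : K.IsComplement' (T : Subgroup X) := MonoidHom.ker_transferSylow_isComplement' T hnT
  have hK : Nat.card K * 5 = Nat.card X := hT ▸ hcp.card_mul_card
  have hK7 : 7 ∣ Nat.card K := (Nat.Coprime.dvd_of_dvd_mul_right (by norm_num)
    (show 7 ∣ Nat.card K * 5 by rw [hK]; exact Dvd.dvd.trans (by norm_num) h35))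
  have hK63 : Nat.card K ∣ 63 :=
    Nat.dvd_of_mul_dvd_mul_right (k := 5) (by norm_num) (by rw [hK]; exact h315)
  let S : Sylow 7 K := Classical.arbitrary _
  have hS : Nat.card (S : Subgroup K) = 7 := by
    obtain ⟨k, hk⟩ := S.2.exists_card_eq
    have h1 : 7 ∣ Nat.card (S : Subgroup K) := S.pow_dvd_card_of_pow_dvd_card (n := 1) (by simpa using hK7)
    have h2 : Nat.card (S : Subgroup K) ∣ 63 := (S : Subgroup K).card_subgroup_dvd_card.trans hK63
    rw [hk] at h1 h2 ⊢
    rcases k with _ | _ | k
    · norm_num at h1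
    · norm_num
    · exact absurd ((pow_dvd_pow 7 (show 2 ≤ k + 1 + 1 by omega)).trans h2) (by norm_num)
  have hone : Nat.card (Sylow 7 K) = 1 := by
    have hd : Nat.card (Sylow 7 K) ∣ 9 := by
      refine (S.card_dvd_index).trans (Nat.dvd_of_mul_dvd_mul_left (k := 7) (by norm_num) ?_)
      have := (S : Subgroup K).card_mul_index
      rw [hS] at this
      rw [this]
      exact hK63
    have hm := card_sylow_modEq_one 7 K
    obtain ⟨i, hi, hin⟩ := (Nat.dvd_prime_pow Nat.prime_three).1 (show _ ∣ 3 ^ 2 from hd)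
    rw [hin] at hm ⊢
    unfold Nat.ModEq at hm
    rcases i with _ | _ | _ | i
    · norm_num
    · norm_num at hm
    · norm_num at hm
    · omega
  have := (Nat.card_eq_one_iff_unique.1 hone).1
  have hSn : (S : Subgroup K).Normal := S.normal_of_subsingleton
  have : (S : Subgroup K).Characteristic := S.characteristic_of_normal hSn
  have hBn : ((S : Subgroup K).map K.subtype).Normal := inferInstance
  refine ⟨(S : Subgroup K).map K.subtype, T, ?_, hT, fun y hy => ?_⟩
  · rw [Subgroup.card_map_of_injective K.subtype_injective, hS]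
  · refine comm_of_normalizes_prime (p := 7)
      (by rw [Subgroup.card_map_of_injective K.subtype_injective, hS])
      (by rw [normalizer_eq_top]; exact mem_top _) ?_
    exact Nat.Coprime.coprime_dvd_left (hT ▸ orderOf_dvd_natCard _ hy) (by norm_num)

end CfsgLib.SylL34
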