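import Cfsg.Agent.Lib.SylLThreeFour.CaseLLSimple
import Cfsg.Agent.Lib.SylLThreeFour.CaseLLOdd
import Cfsg.Agent.Lib.InvChar.SuzT.LCount

/-!
Two subgroups of order 16 with transitive normalizers in a group without odd core.
-/

set_option autoImplicit false
set_option linter.unusedSectionVars false

namespace CfsgLib.SylL34

open Subgroup CfsgLib.Recog.LThreeFour CfsgLib.Invol

universe u v

variable {G : Type u} [Group G] [Finite G] {P : Sylow 2 G} {A B Z : Subgroup G}

/-- An element fixing an involution modulo an odd normal subgroup is, modulo it, a centralizing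
element. -/
theorem exists_lift_centralizing {O : Subgroup G} [O.Normal] (hodd : Odd (Nat.card O)) {z x : G}
    (hz : z * z = 1) (hx : x * z * x⁻¹ * z ∈ O) : ∃ d ∈ O, d⁻¹ * x * z = z * (d⁻¹ * x) := by
  set o := x * z * x⁻¹ * z with ho
  obtain ⟨k, hk⟩ : Odd (orderOf o) := hodd.of_dvd_nat (orderOf_dvd_natCard O hx)
  have hzi : z⁻¹ = z := inv_eq_of_mul_eq_one_right hz
  have hinv : z * o * z⁻¹ = o⁻¹ := by
    rw [hzi, ho, mul_inv_rev, mul_inv_rev, mul_inv_rev, inv_inv, hzi]
    calc z * (x * z * x⁻¹ * z) * z = z * (x * z * x⁻¹) * (z * z) := by group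
      _ = z * (x * (z * x⁻¹)) := by rw [hz, mul_one]; group
  refine ⟨o ^ (k + 1), pow_mem hx _, ?_⟩
  set d := o ^ (k + 1) with hd
  have hd2 : d * d = o := by
    rw [hd, ← pow_add, show k + 1 + (k + 1) = 2 * k + 1 + 1 by ring, pow_succ, ← hk, pow_orderOf_eq_one,
      one_mul]
  have hzd : z * d * z⁻¹ = d⁻¹ := by rw [hd, ← conj_pow, hinv, inv_pow]
  calc d⁻¹ * x * z = d⁻¹ * (o * z⁻¹) * x := by rw [ho, mul_inv_cancel_right]; group
    _ = d⁻¹ * ((d * d) * z⁻¹) * x := by rw [hd2]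
    _ = d * z⁻¹ * x := by group
    _ = (z * d * z⁻¹)⁻¹ * z⁻¹ * x := by rw [hzd, inv_inv]
    _ = z * (d⁻¹ * x) := by rw [hzi]; simp only [mul_inv_rev, hzi, mul_assoc, hz, one_mul]

namespace Shape

variable (h : Shape (P : Subgroup G) A B Z)
include h

/-- Case LL. -/
theorem case_LL (hO : Cfsg.oddCore G = ⊥) (hA : LType A) (hB : LType B) {F : Type v} [Field F]
    [Fintype F] (hF : Fintype.card F = 4) :
    ∃ N : Subgroup G, N.Normal ∧ Nonempty (↥N ≃* Matrix.ProjectiveSpecialLinearGroup (Fin 3) F) ∧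
      centralizer (N : Set G) = ⊥ ∧ N.index ∣ 3 := by
  classical
  have := twoFact
  obtain ⟨hodd, hcore, hNA, hNB, hNC⟩ := h.closure_facts hA hB
  set W := coreClosure Z
  obtain ⟨z, hz, hz1⟩ := h.exists_Z_ne_one
  by_cases hW : W = ⊥
  · have hL : Local P Z := by
      refine ⟨fun y hy hy1 => (h.cent_Z_le hy hy1).trans (sup_le ?_ inf_le_left),
        (h.centralizer_sylow_le hz hz1).trans (sup_le le_rfl ?_)⟩
      · exact (hcore y hy hy1).trans (hW ▸ bot_le)
      · exact (hcore z hz hz1).trans (hW ▸ bot_le)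
    obtain ⟨N, hN, he, hC, hidx, -⟩ := h.theorem_A hO hA hB hL hF
    exact ⟨N, hN, he, hC, hidx⟩
  exfalso
  set M := normalizer (W : Set G) with hM
  have hMtop : M ≠ ⊤ := fun e => hW <| le_bot_iff.1 <| hO ▸
    CfsgLib.Solvable.le_pPrimeCore (normalizer_eq_top_iff.1 e) (Nat.coprime_two_right.2 hodd)
  have hNP : normalizer ((P : Subgroup G) : Set G) ≤ M := h.normalizer_le_A.trans hNA
  have hPM : (P : Subgroup G) ≤ M := le_normalizer.trans hNP
  set Q : Sylow 2 M := P.subtype hPM with hQ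
  have hSE : Cfsg.IsStronglyEmbedded M := by
    have hT : (Q : Subgroup M).map M.subtype = (P : Subgroup G) := map_subgroupOf_eq_of_le hPM
    have hp : Cfsg.IsStronglyPEmbedded 2 M := by
      refine (Cfsg.Agent.S2899.result M hMtop Q).2
        ⟨fun x hx ho => h.cent_invol_le hA hB hNA hNB hNC (hT ▸ hx) ho, ?_⟩
      rw [hT]; exact hNP
    obtain ⟨-, h2, h3⟩ := CfsgLib.Amalgam.isStronglyPEmbedded_iff_trivialMeet.1 hp
    exact ⟨hMtop, even_iff_two_dvd.2 h2,
      fun g hg => Nat.not_even_iff_odd.1 fun he => h3 g hg (even_iff_two_dvd.1 he)⟩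
  -- modulo the odd core
  set O := Cfsg.oddCore M with hOdef
  have : O.Normal := CfsgLib.Solvable.pPrimeCore_normal 2 M
  have hOodd : Odd (Nat.card O) := CfsgLib.Invol.odd_card_oddCore M
  have hWM : W.subgroupOf M ≤ O :=
    CfsgLib.Solvable.le_pPrimeCore (normal_subgroupOf_of_le_normalizer le_rfl)
      (Nat.coprime_two_right.2 (by
        rw [Nat.card_congr (subgroupOfEquivOfLe le_normalizer).toEquiv]; exact hodd))
  let q := QuotientGroup.mk' O
  have hdis : ∀ x ∈ (Q : Subgroup M), q x = 1 → x = 1 := fun x hx h1 => by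
    have hxO : x ∈ O := (QuotientGroup.eq_one_iff x).1 h1
    obtain ⟨k, hk⟩ := Q.2 ⟨x, hx⟩
    have hk' : x ^ 2 ^ k = 1 := by simpa using congrArg Subtype.val hk
    exact orderOf_eq_one_iff.1 (Nat.eq_one_of_dvd_coprimes
      ((hOodd.of_dvd_nat (orderOf_dvd_natCard O hxO)).coprime_two_right.pow_right k) dvd_rfl
      (orderOf_dvd_of_pow_eq_one hk'))
  let Qb : Sylow 2 (M ⧸ O) := Q.mapSurjective (QuotientGroup.mk'_surjective O)
  have hb : Shape (Qb : Subgroup (M ⧸ O)) ((A.subgroupOf M).map q) ((B.subgroupOf M).map q)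
      ((Z.subgroupOf M).map q) := (h.restrict M hPM).map q hdis
  have hLT : ∀ E : Subgroup G, E ≤ (P : Subgroup G) → LType E → normalizer (E : Set G) ≤ M →
      LType ((E.subgroupOf M).map q) := by
    rintro E hE hEL hEM _ ⟨a, ha, rfl⟩ ha1 _ ⟨b, hb', rfl⟩ hb1
    obtain ⟨g, hg, hgab⟩ := hEL a ha (fun e => ha1 (by rw [show a = 1 from Subtype.ext e, map_one]))
      b hb' (fun e => hb1 (by rw [show b = 1 from Subtype.ext e, map_one]))
    refine ⟨q ⟨g, hEM hg⟩, Subgroup.le_normalizer_map q ⟨⟨g, hEM hg⟩, ?_, rfl⟩, ?_⟩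
    · exact mem_normalizer_iff.2 fun x => mem_normalizer_iff.1 hg (x : G)
    · rw [← map_inv, ← map_mul, ← map_mul]
      exact congrArg q (Subtype.ext hgab)
  have hAb := hLT A h.hA hA hNA
  have hBb := hLT B h.hB hB hNB
  -- centralizers downstairs
  have hlift : ∀ y : M, (y : G) ∈ Z → (y : G) ≠ 1 → ∀ w ∈ centralizer ({q y} : Set (M ⧸ O)),
      ∃ n : M, (n : G) ∈ normalizer ((P : Subgroup G) : Set G) ∧
        (n : G) ∈ centralizer ({(y : G)} : Set G) ∧ q n = w := by
    intro y hy hy1 w hw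
    obtain ⟨x, rfl⟩ := QuotientGroup.mk'_surjective O w
    have hyy : y * y = 1 := Subtype.ext (h.eZ hy)
    have hxy : x * y * x⁻¹ * y ∈ O := by
      refine (QuotientGroup.eq_one_iff _).1 ?_
      show q (x * y * x⁻¹ * y) = 1
      rw [map_mul, map_mul, map_mul, map_inv, mem_centralizer_singleton_iff.1 hw,
        mul_inv_cancel_right, ← map_mul, hyy, map_one]
    obtain ⟨d, hd, hdc⟩ := exists_lift_centralizing hOodd hyy hxy
    have hc : ((d⁻¹ * x : M) : G) ∈ centralizer ({(y : G)} : Set G) :=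
      mem_centralizer_singleton_iff.2 (congrArg Subtype.val hdc)
    let K : Subgroup M := (normalizer ((P : Subgroup G) : Set G) ⊓
      centralizer ({(y : G)} : Set G)).subgroupOf M ⊔ O
    have hle : Cfsg.centralizerPPrimeCore 2 (y : G) ⊔ (normalizer ((P : Subgroup G) : Set G) ⊓
        centralizer ({(y : G)} : Set G)) ≤ K.map M.subtype := by
      refine sup_le (fun c hc => ?_) fun c hc => ?_
      · have hcW := hcore y hy hy1 hc
        exact ⟨⟨c, le_normalizer hcW⟩, mem_sup_right (hWM hcW), rfl⟩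
      · exact ⟨⟨c, hNP hc.1⟩, mem_sup_left hc, rfl⟩
    obtain ⟨k, hk, hke⟩ := hle (h.cent_Z_le hy hy1 hc)
    obtain ⟨n, hn, o, ho, hno⟩ := mem_sup_of_normal_right.1 hk
    refine ⟨n, hn.1, hn.2, ?_⟩
    have he : d⁻¹ * x = n * o := by rw [hno]; exact (Subtype.ext hke).symm
    have := congrArg q he
    rw [map_mul, map_mul, map_inv, show q d = 1 from (QuotientGroup.eq_one_iff d).2 hd,
      show q o = 1 from (QuotientGroup.eq_one_iff o).2 ho, inv_one, one_mul, mul_one] at this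
    exact this.symm
  let zM : M := ⟨z, hPM (h.hZS hz)⟩
  have hLb : Local Qb ((Z.subgroupOf M).map q) := by
    refine ⟨?_, ?_⟩
    · rintro _ ⟨y, hy, rfl⟩ hy1 w hw
      obtain ⟨n, hn, -, rfl⟩ := hlift y hy (fun e => hy1 (by rw [show y = 1 from Subtype.ext e, map_one])) w hw
      exact Subgroup.le_normalizer_map q
        ⟨n, mem_normalizer_iff.2 fun x => mem_normalizer_iff.1 hn (x : G), rfl⟩
    · intro w hw
      have hwz : w ∈ centralizer ({q zM} : Set (M ⧸ O)) :=
        mem_centralizer_singleton_iff.2 (mem_centralizer_iff.1 hw (q zM)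
          ⟨zM, h.hZS hz, rfl⟩).symm
      obtain ⟨n, hn, -, rfl⟩ := hlift zM hz hz1 w hwz
      have hnc : (n : G) ∈ centralizer ((P : Subgroup G) : Set G) := by
        refine mem_centralizer_iff.2 fun p hp => ?_
        have h1 : q (n * ⟨p, hPM hp⟩ * n⁻¹ * (⟨p, hPM hp⟩ : M)⁻¹) = 1 := by
          rw [map_mul, map_mul, map_mul, map_inv, map_inv,
            ← mem_centralizer_iff.1 hw (q ⟨p, hPM hp⟩) ⟨⟨p, hPM hp⟩, hp, rfl⟩,
            mul_inv_cancel_right, mul_inv_cancel]
        have h2 := hdis _ (mul_mem (show n * ⟨p, hPM hp⟩ * n⁻¹ ∈ (Q : Subgroup M) from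
          (mem_normalizer_iff.1 hn p).1 hp) (inv_mem (show (⟨p, hPM hp⟩ : M) ∈ (Q : Subgroup M) from hp))) h1
        have h3 : (n : G) * p * (n : G)⁻¹ * p⁻¹ = 1 := congrArg Subtype.val h2
        rw [mul_inv_eq_one, mul_inv_eq_iff_eq_mul] at h3
        exact h3.symm
      have hle : Z ⊔ Cfsg.centralizerPPrimeCore 2 z ≤
          (((Z.subgroupOf M).map q).comap q).map M.subtype := by
        refine sup_le (fun c hc => ⟨⟨c, hPM (h.hZS hc)⟩, ⟨_, hc, rfl⟩, rfl⟩) fun c hc => ?_
        have hcW := hcore z hz hz1 hc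
        refine ⟨⟨c, le_normalizer hcW⟩, ?_, rfl⟩
        show q _ ∈ (Z.subgroupOf M).map q
        rw [show q ⟨c, le_normalizer hcW⟩ = 1 from (QuotientGroup.eq_one_iff _).2 (hWM hcW)]
        exact one_mem _
      obtain ⟨m, hm, hme⟩ := hle (h.centralizer_sylow_le hz hz1 hnc)
      rw [show n = m from Subtype.ext hme.symm]
      exact hm
  obtain ⟨N, hN, -, -, hidx, hS, hcard, hC192, hinv⟩ :=
    hb.theorem_A CfsgLib.Fusion.oddCore_quotient_oddCore hAb hBb hLb hF
  -- the two-point stabilizer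
  obtain ⟨u, hu⟩ : ∃ u, u ∉ M := by
    by_contra hc
    push Not at hc
    exact hMtop (eq_top_iff.2 fun x _ => hc x)
  set D := M ⊓ M.map (MulAut.conj u).toMonoidHom with hD
  set Db := (D.subgroupOf M).map q with hDb
  have hDodd : Odd (Nat.card Db) := by
    have h1 : Odd (Nat.card D) := hSE.2.2 u hu
    rw [← Nat.card_congr (subgroupOfEquivOfLe (inf_le_left : D ≤ M)).toEquiv] at h1
    exact h1.of_dvd_nat (card_map_dvd (H := D.subgroupOf M) q)
  set C := centralizer ({q zM} : Set (M ⧸ O)) with hC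
  have hzinv : orderOf z = 2 := invol_of_mul_self (h.eZ hz) hz1
  have hfix : ∀ {s : G}, s ∈ M → s • ((1 : G) : G ⧸ M) = ((1 : G) : G ⧸ M) := fun {s} hs => by
    rw [MulAction.Quotient.smul_coe, smul_eq_mul, mul_one, QuotientGroup.eq]
    simpa using hs
  have hne : ((1 : G) : G ⧸ M) ≠ (u : G ⧸ M) := fun e => hu (by simpa using QuotientGroup.eq.1 e)
  have hcov : ∀ w : M ⧸ O, ∃ d ∈ Db, d⁻¹ * w ∈ C := by
    intro w
    obtain ⟨m, rfl⟩ := QuotientGroup.mk'_surjective O w
    obtain ⟨d, hd1, hd2, hdz⟩ := se_stab_transitive hSE hne hzinv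
      (show orderOf ((m : G) * z * (m : G)⁻¹) = 2 by rw [orderOf_conj_eq, hzinv])
      (hfix (hPM (h.hZS hz))) (hfix (mul_mem (mul_mem m.2 (hPM (h.hZS hz))) (inv_mem m.2)))
    have hdD : d ∈ D := mem_inter_conj_iff.2 ⟨hd1, hd2⟩
    refine ⟨q ⟨d, hdD.1⟩, ⟨⟨d, hdD.1⟩, hdD, rfl⟩, ?_⟩
    refine mem_centralizer_singleton_iff.2 ?_
    rw [← map_inv, ← map_mul, ← map_mul, ← map_mul]
    refine congrArg q (Subtype.ext ?_)
    show d⁻¹ * m * z = z * (d⁻¹ * m)
    calc d⁻¹ * (m : G) * z = d⁻¹ * ((m : G) * z * (m : G)⁻¹) * m := by group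
      _ = z * (d⁻¹ * m) := by rw [← hdz]; group
  have hCidx : C.index ∣ Nat.card Db := by
    have : MulAction.IsPretransitive Db ((M ⧸ O) ⧸ C) := by
      refine (MulAction.isPretransitive_iff_base ((1 : M ⧸ O) : (M ⧸ O) ⧸ C)).2 fun w => ?_
      obtain ⟨w, rfl⟩ := QuotientGroup.mk_surjective w
      obtain ⟨d, hd, hdw⟩ := hcov w
      refine ⟨⟨d, hd⟩, ?_⟩
      show ((d * 1 : M ⧸ O) : (M ⧸ O) ⧸ C) = w
      rw [mul_one, QuotientGroup.eq]
      exact hdw
    rw [index_eq_card C, ← MulAction.index_stabilizer_of_transitive Db ((1 : M ⧸ O) : (M ⧸ O) ⧸ C)]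
    exact Subgroup.index_dvd_card _
  have hCc : Nat.card C ∣ 192 := hC192 _ ⟨zM, hz, rfl⟩ fun e =>
    hz1 (congrArg Subtype.val (hdis zM (h.hZS hz) e))
  set X := Db.subgroupOf N with hX
  have h105 : 105 ∣ Nat.card X := by
    have h1 : Nat.card C * C.index = 20160 * N.index := by
      rw [C.card_mul_index, ← hcard, N.card_mul_index]
    have h2 : 20160 * N.index ∣ 192 * C.index := h1 ▸ mul_dvd_mul_right hCc _
    have h3 : 105 * N.index ∣ C.index :=
      Nat.dvd_of_mul_dvd_mul_left (k := 192) (by norm_num) (by rwa [← mul_assoc])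
    have hmul : Nat.card X * N.relIndex Db = Nat.card Db := by
      rw [hX, ← inf_subgroupOf_right Db N,
        Nat.card_congr (subgroupOfEquivOfLe (inf_le_right : Db ⊓ N ≤ N)).toEquiv, inf_comm,
        ← inf_relIndex_right]
      simpa [relIndex_bot_left] using relIndex_mul_relIndex ⊥ (N ⊓ Db) Db bot_le inf_le_right
    have h4 : 105 * N.index ∣ Nat.card X * N.index := (h3.trans hCidx).trans
      (hmul ▸ mul_dvd_mul_left _ (relIndex_dvd_index_of_normal N Db))
    exact Nat.dvd_of_mul_dvd_mul_right (Nat.pos_of_ne_zero Subgroup.index_ne_zero_of_finite) h4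
  have hXodd : Odd (Nat.card X) := hDodd.of_dvd_nat <| by
    rw [← Subgroup.card_map_of_injective N.subtype_injective]
    exact Subgroup.card_dvd_of_le (by rintro _ ⟨x, hx, rfl⟩; exact hx)
  have h315 : Nat.card X ∣ 315 := by
    refine ((Nat.coprime_two_right.2 hXodd).pow_right 6).dvd_of_dvd_mul_left ?_
    rw [show 2 ^ 6 * 315 = 20160 by norm_num, ← hcard]
    exact X.card_subgroup_dvd_card
  obtain ⟨B', Q', hB', hQ', hcm⟩ := exists_comm_five_seven (X := X)
    (Dvd.dvd.trans (by norm_num) h105) h315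
  refine CfsgLib.InvChar.SuzT.no_thirtyfive hcard hinv (B := B'.map X.subtype) (P := Q'.map X.subtype)
    (by rw [Subgroup.card_map_of_injective X.subtype_injective, hB'])
    (by rw [Subgroup.card_map_of_injective X.subtype_injective, hQ']) ?_
  rintro _ ⟨x, hx, rfl⟩
  refine mem_centralizer_iff.2 ?_
  rintro _ ⟨y, hy, rfl⟩
  exact congrArg Subtype.val (mem_centralizer_iff.1 (hcm hx) y hy)

end Shape

end CfsgLib.SylL34
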