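import Cfsg.Agent.Lib.SylLThreeFour.Central
import Cfsg.Agent.Lib.Solvable.HallHigman
import Cfsg.Agent.Lib.Solvable.PCore

/-!
Two subgroups of order 16 with transitive normalizers: one class of involutions, the local
structure around the Sylow subgroup, and the signalizer closure.
-/

set_option autoImplicit false
set_option linter.unusedSectionVars false

namespace CfsgLib.SylL34

open Subgroup CfsgLib.Recog.LThreeFour CfsgLib.Invol

universe u

variable {G : Type u} [Group G] [Finite G] {P : Sylow 2 G} {A B Z : Subgroup G}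

namespace Shape

variable (h : Shape (P : Subgroup G) A B Z)
include h

theorem exists_Z_ne_one : ∃ z ∈ Z, z ≠ 1 := by
  refine Z.bot_or_exists_ne_one.resolve_left fun e => ?_
  have := h.cardZ
  rw [e, card_bot] at this
  omega

theorem centralizer_le_normalizer_A :
    centralizer ((P : Subgroup G) : Set G) ≤ normalizer (A : Set G) :=
  (centralizer_le_normalizer _).trans h.normalizer_le_A

/-- An element of the Sylow subgroup centralizing it lies in `Z`. -/
theorem mem_Z_of_central {s : G} (hs : s ∈ (P : Subgroup G))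
    (hc : s ∈ centralizer ((P : Subgroup G) : Set G)) : s ∈ Z := by
  obtain ⟨a, ha, haZ⟩ := h.exists_A_not_Z
  obtain ⟨b, hb, hbZ⟩ := h.symm.exists_A_not_Z
  exact h.mem_Z (h.selfA ha haZ hs (mem_centralizer_iff.1 hc a (h.hA ha)).symm)
    (h.symm.selfA hb hbZ hs (mem_centralizer_iff.1 hc b (h.hB hb)).symm)

/-- The centralizer of the Sylow subgroup is `Z` modulo the core of an involution of `Z`. -/
theorem centralizer_sylow_le {z : G} (hz : z ∈ Z) (hz1 : z ≠ 1) :
    centralizer ((P : Subgroup G) : Set G) ≤ Z ⊔ Cfsg.centralizerPPrimeCore 2 z := by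
  have := twoFact
  intro y hy
  have hyN : y ∈ normalizer ((P : Subgroup G) : Set G) := centralizer_le_normalizer _ hy
  obtain ⟨s, hs, e, hez, hen, hodd, rfl⟩ := exists_odd_part P hyN
  have he : e ∈ centralizer ((P : Subgroup G) : Set G) := (zpowers_le.2 hy) hez
  have hsc : s ∈ centralizer ((P : Subgroup G) : Set G) := (mul_mem_cancel_right he).1 hy
  refine mul_mem (mem_sup_left (h.mem_Z_of_central hs hsc)) (mem_sup_right ?_)
  have heC : e ∈ centralizer ({z} : Set G) :=
    mem_centralizer_singleton_iff.2 (mem_centralizer_iff.1 he z (h.hZS hz)).symm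
  have hnn := h.cent_Z_sylow_normal hz hz1
  have hsol := h.cent_Z_solvable hz hz1
  set C := centralizer ({z} : Set G)
  set O := Cfsg.oddCore C
  have : O.Normal := CfsgLib.Solvable.pPrimeCore_normal 2 C
  let T : Sylow 2 C := P.subtype (h.le_cent_Z hz)
  let T' : Sylow 2 (C ⧸ O) := T.mapSurjective (QuotientGroup.mk'_surjective O)
  have : Group.IsSolvable (C ⧸ O) := inferInstance
  have hTp : Cfsg.pCore 2 (C ⧸ O) = (T' : Subgroup (C ⧸ O)) :=
    le_antisymm (CfsgLib.Solvable.pCore_le_sylow T') (CfsgLib.Solvable.le_pCore hnn T'.2)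
  have heT : QuotientGroup.mk' O ⟨e, heC⟩ ∈ (T' : Subgroup (C ⧸ O)) := by
    rw [← hTp]
    refine CfsgLib.Solvable.centralizer_pCore_le 2 CfsgLib.Fusion.oddCore_quotient_oddCore ?_
    rw [hTp, mem_centralizer_iff]
    rintro _ ⟨t, ht, rfl⟩
    rw [← map_mul, ← map_mul]
    exact congrArg _ (Subtype.ext (mem_centralizer_iff.1 he _ ht))
  obtain ⟨k, hk⟩ := T'.2 ⟨_, heT⟩
  have h1 : (⟨e, heC⟩ : C) ^ 2 ^ k ∈ O := by
    have h' := congrArg Subtype.val hk
    rw [SubmonoidClass.coe_pow, OneMemClass.coe_one, ← map_pow] at h'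
    exact (QuotientGroup.eq_one_iff _).1 h'
  have hc : Nat.Coprime (2 ^ k) (orderOf (⟨e, heC⟩ : C)) := by
    rw [Subgroup.orderOf_mk]
    exact Nat.Coprime.pow_left k (Nat.coprime_two_left.2 hodd)
  obtain ⟨m, hm⟩ := exists_pow_eq_self_of_coprime hc
  refine ⟨⟨e, heC⟩, ?_, rfl⟩
  rw [← hm]
  exact pow_mem h1 m

/-- With transitive normalizers all involutions are conjugate to those of `Z`. -/
theorem exists_conj_eq (hA : LType A) (hB : LType B) {x z : G} (hx : orderOf x = 2) (hz : z ∈ Z)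
    (hz1 : z ≠ 1) : ∃ g : G, g * x * g⁻¹ = z := by
  have := twoFact
  obtain ⟨g, hg⟩ := exists_conj_invol_mem_sylow P hx
  have h2 : g * x * g⁻¹ * (g * x * g⁻¹) = 1 := by
    rw [show g * x * g⁻¹ * (g * x * g⁻¹) = g * (x * x) * g⁻¹ by group, invol_mul_self hx]; group
  have h1 : g * x * g⁻¹ ≠ 1 := fun e => invol_ne_one hx (conj_eq_one_iff.1 e)
  obtain ⟨n, hn⟩ : ∃ n : G, n * (g * x * g⁻¹) * n⁻¹ = z := by
    rcases h.invol _ hg h2 with e | e
    · obtain ⟨n, -, hn⟩ := hA _ e h1 z (h.hZA hz) hz1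
      exact ⟨n, hn⟩
    · obtain ⟨n, -, hn⟩ := hB _ e h1 z (h.hZB hz) hz1
      exact ⟨n, hn⟩
  exact ⟨n * g, by rw [← hn]; group⟩

theorem isConj_of_invol (hA : LType A) (hB : LType B) {x y : G} (hx : orderOf x = 2)
    (hy : orderOf y = 2) : IsConj x y := by
  obtain ⟨z, hz, hz1⟩ := h.exists_Z_ne_one
  obtain ⟨g, hg⟩ := h.exists_conj_eq hA hB hx hz hz1
  obtain ⟨k, hk⟩ := h.exists_conj_eq hA hB hy hz hz1
  refine isConj_iff.2 ⟨k⁻¹ * g, ?_⟩
  rw [show k⁻¹ * g * x * (k⁻¹ * g)⁻¹ = k⁻¹ * (g * x * g⁻¹) * k by group, hg, ← hk]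
  group

theorem cent_invol_solvable (hA : LType A) (hB : LType B) {x : G} (hx : orderOf x = 2) :
    Group.IsSolvable ↥(centralizer ({x} : Set G)) := by
  obtain ⟨z, hz, hz1⟩ := h.exists_Z_ne_one
  obtain ⟨g, hg⟩ := h.exists_conj_eq hA hB hx hz hz1
  have := h.cent_Z_solvable hz hz1
  have hle : ∀ c ∈ centralizer ({x} : Set G), g * c * g⁻¹ ∈ centralizer ({z} : Set G) := fun c hc => by
    rw [mem_centralizer_singleton_iff] at hc ⊢
    rw [← hg, show g * c * g⁻¹ * (g * x * g⁻¹) = g * (c * x) * g⁻¹ by group, hc]; group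
  let f : ↥(centralizer ({x} : Set G)) →* ↥(centralizer ({z} : Set G)) :=
    MonoidHom.mk' (fun c => ⟨g * c * g⁻¹, hle c c.2⟩) fun c d => Subtype.ext (by
      show g * ((c : G) * d) * g⁻¹ = g * c * g⁻¹ * (g * d * g⁻¹)
      group)
  exact Group.isSolvable_of_isSolvable_injective (f := f) fun c d e =>
    Subtype.ext (mul_left_cancel (mul_right_cancel (congrArg Subtype.val e)))

/-- A subgroup with the normalizers and the centralizers of the involutions of `Z` contains all
centralizers of involutions of the Sylow subgroup. -/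
theorem cent_invol_le (hA : LType A) (hB : LType B) {K : Subgroup G}
    (hKA : normalizer (A : Set G) ≤ K) (hKB : normalizer (B : Set G) ≤ K)
    (hKZ : ∀ z ∈ Z, z ≠ 1 → centralizer ({z} : Set G) ≤ K) {x : G} (hxP : x ∈ (P : Subgroup G))
    (hx : orderOf x = 2) : centralizer ({x} : Set G) ≤ K := by
  obtain ⟨z, hz, hz1⟩ := h.exists_Z_ne_one
  obtain ⟨n, hn, hnz⟩ : ∃ n ∈ K, n * z * n⁻¹ = x := by
    rcases h.invol x hxP (invol_mul_self hx) with e | e
    · obtain ⟨n, hn, hnz⟩ := hA z (h.hZA hz) hz1 x e (invol_ne_one hx)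
      exact ⟨n, hKA hn, hnz⟩
    · obtain ⟨n, hn, hnz⟩ := hB z (h.hZB hz) hz1 x e (invol_ne_one hx)
      exact ⟨n, hKB hn, hnz⟩
  subst hnz
  rw [cj_centralizer]
  intro c hc
  have := mul_mem (mul_mem hn (hKZ z hz hz1 (mem_cj.1 hc))) (inv_mem hn)
  rwa [show n * (n⁻¹ * c * n) * n⁻¹ = c by group] at this

/-- The closure of the cores on the two subgroups of order 16. -/
theorem closure_facts (hA : LType A) (hB : LType B) :
    Odd (Nat.card (coreClosure Z)) ∧
      (∀ z ∈ Z, z ≠ 1 → Cfsg.centralizerPPrimeCore 2 z ≤ coreClosure Z) ∧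
      normalizer (A : Set G) ≤ normalizer (coreClosure Z : Set G) ∧
      normalizer (B : Set G) ≤ normalizer (coreClosure Z : Set G) ∧
      (∀ z ∈ Z, z ≠ 1 → centralizer ({z} : Set G) ≤ normalizer (coreClosure Z : Set G)) := by
  have := twoFact
  have key : ∀ {A B : Subgroup G}, Shape (P : Subgroup G) A B Z → LType A → LType B →
      Odd (Nat.card (coreClosure Z)) ∧
        normalizer (A : Set G) ≤ normalizer (coreClosure Z : Set G) := by
    intro A B h hA hB
    have he : Cfsg.IsElementaryAbelian 2 A :=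
      ⟨⟨⟨fun a b => Subtype.ext (comm_of_sq h.eA a.2 b.2)⟩⟩, fun a ha => by rw [pow_two]; exact h.eA a ha⟩
    obtain ⟨hodd, -, hsub⟩ := coreClosure_spec A he (by rw [h.cardA]; norm_num)
      fun a ha _ b hb hb1 => bal_of_solvable (h.eA a ha) (comm_of_sq h.eA ha hb)
        (h.cent_invol_solvable hA hB (invol_of_mul_self (h.eA b hb) hb1))
    obtain ⟨heq, -⟩ := hsub Z h.hZA (by rw [h.cardZ])
    exact ⟨heq ▸ hodd, heq ▸ (hsub A le_rfl (by rw [h.cardA]; norm_num)).2⟩
  obtain ⟨hodd, hNA⟩ := key h hA hB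
  refine ⟨hodd, fun z hz hz1 => core_le_coreClosure hz hz1, hNA, (key h.symm hB hA).2,
    fun z hz hz1 => (h.cent_Z_le hz hz1).trans (sup_le ?_ ?_)⟩
  · exact (core_le_coreClosure hz hz1).trans le_normalizer
  · exact inf_le_left.trans (h.normalizer_le_A.trans hNA)

end Shape

end CfsgLib.SylL34
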