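import Cfsg.Agent.Lib.SylLThreeFour.CaseLLThree
import Cfsg.Agent.Lib.Solvable.Nilpotent
import Cfsg.Agent.Lib.InvChar.LThreeFour.Iso

/-!
Two subgroups of order 16 with transitive normalizers and Sylow normalizing involution centralizers:
the minimal normal subgroup is the linear group.
-/

set_option autoImplicit false
set_option linter.unusedSectionVars false

namespace CfsgLib.SylL34

open Subgroup CfsgLib.Recog.LThreeFour CfsgLib.Invol

universe u v

variable {G : Type u} [Group G] [Finite G] {P : Sylow 2 G} {A B Z : Subgroup G}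

/-- The strongly local hypotheses inside a subgroup containing the Sylow subgroup. -/
theorem Local.restrict (hL : Local P Z) (K : Subgroup G) (hK : (P : Subgroup G) ≤ K) :
    Local (P.subtype hK) (Z.subgroupOf K) where
  cent z hz hz1 := by
    intro c hc
    have hcG : (c : G) ∈ centralizer ({(z : G)} : Set G) :=
      mem_centralizer_singleton_iff.2 (congrArg Subtype.val (mem_centralizer_singleton_iff.1 hc))
    have := hL.cent (z : G) hz (fun e => hz1 (Subtype.ext e)) hcG
    exact mem_normalizer_iff.2 fun x => mem_normalizer_iff.1 this (x : G)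
  cenP := by
    intro c hc
    exact hL.cenP (mem_centralizer_iff.2 fun p hp =>
      congrArg Subtype.val (mem_centralizer_iff.1 hc ⟨p, hK hp⟩ hp))

namespace Shape

variable (h : Shape (P : Subgroup G) A B Z)
include h

/-- The involutions generate the Sylow subgroup. -/
theorem sylow_le_of_invol {N : Subgroup G} (hN : ∀ x : G, orderOf x = 2 → x ∈ N) :
    (P : Subgroup G) ≤ N := by
  have key : ∀ {E : Subgroup G}, (∀ x ∈ E, x * x = 1) → E ≤ N := fun {E} hE x hx => by
    by_cases h1 : x = 1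
    · exact h1 ▸ one_mem N
    · exact hN x (invol_of_mul_self (hE x hx) h1)
  rw [← h.sup_eq]
  exact sup_le (key h.eA) (key h.eB)

theorem not_comm_sylow : ∃ a ∈ (P : Subgroup G), ∃ b ∈ (P : Subgroup G), a * b ≠ b * a := by
  obtain ⟨a, ha, haZ⟩ := h.exists_A_not_Z
  obtain ⟨b, hb, hbZ⟩ := h.symm.exists_A_not_Z
  exact ⟨a, h.hA ha, b, h.hB hb, fun e => (h.key ha hb e).elim haZ hbZ⟩

variable (hO : Cfsg.oddCore G = ⊥) (hA : LType A) (hB : LType B) (hL : Local P Z)
include hO hA hB

/-- A nontrivial normal subgroup contains the Sylow subgroup. -/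
theorem sylow_le_normal {N : Subgroup G} (hN : N.Normal) (hN1 : N ≠ ⊥) :
    (P : Subgroup G) ≤ N := by
  refine h.sylow_le_of_invol fun x hx => ?_
  have heven : Even (Nat.card N) := by
    rw [← Nat.not_odd_iff_even]
    exact fun ho => hN1 (le_bot_iff.1 (hO ▸
      CfsgLib.Solvable.le_pPrimeCore hN (Nat.coprime_two_right.2 ho)))
  obtain ⟨y, hy, hy2⟩ := exists_invol_mem heven
  obtain ⟨g, rfl⟩ := isConj_iff.1 (h.isConj_of_invol hA hB hy2 hx)
  exact hN.conj_mem y hy g

include hL

theorem centralizer_normal_eq_bot {N : Subgroup G} (hN : N.Normal) (hN1 : N ≠ ⊥) :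
    centralizer (N : Set G) = ⊥ := by
  by_contra hc
  obtain ⟨a, ha, b, hb, hab⟩ := h.not_comm_sylow
  have := (centralizer_le (h.sylow_le_normal hO hA hB hN hN1)).trans hL.cenP
  have haZ : a ∈ Z := this (h.sylow_le_normal hO hA hB inferInstance hc ha)
  exact hab (h.cen a haZ b hb)

/-- A minimal normal subgroup is simple. -/
theorem exists_simple_normal :
    ∃ N : Subgroup G, N.Normal ∧ (P : Subgroup G) ≤ N ∧ centralizer (N : Set G) = ⊥ ∧
      IsSimpleGroup ↥N ∧ ¬ IsMulCommutative ↥N := by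
  classical
  have := twoFact
  obtain ⟨z, hz, hz1⟩ := h.exists_Z_ne_one
  set N := normalClosure ({z} : Set G) with hNdef
  have hNn : N.Normal := normalClosure_normal
  have hzN : z ∈ N := subset_normalClosure rfl
  have hN1 : N ≠ ⊥ := fun e => hz1 (mem_bot.1 (e ▸ hzN))
  have hmin : ∀ K : Subgroup G, K.Normal → K ≠ ⊥ → N ≤ K := fun K hK hK1 =>
    normalClosure_le_normal (Set.singleton_subset_iff.2 (h.sylow_le_normal hO hA hB hK hK1 (h.hZS hz)))
  have hPN := h.sylow_le_normal hO hA hB hNn hN1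
  obtain ⟨a, ha, b, hb, hab⟩ := h.not_comm_sylow
  have hna : ¬ IsMulCommutative ↥N := fun hc =>
    hab (congrArg Subtype.val (hc.is_comm.comm ⟨a, hPN ha⟩ ⟨b, hPN hb⟩))
  have hperf : commutator ↥N = ⊤ := by
    have hle : ⁅N, N⁆ ≤ N := commutator_le_left N N
    have hne : ⁅N, N⁆ ≠ ⊥ := fun e => hab (commutatorElement_eq_one_iff_commute.1
      (mem_bot.1 (e ▸ commutator_mem_commutator (hPN ha) (hPN hb))))
    have heq : ⁅N, N⁆ = N := le_antisymm hle (hmin _ inferInstance hne)
    refine map_injective N.subtype_injective ?_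
    rw [map_subtype_commutator, ← MonoidHom.range_eq_map, N.range_subtype, heq]
  -- no normal 2-subgroup
  have hT0 : Cfsg.pCore 2 ↥N = ⊥ := by
    by_contra hT
    have := CfsgLib.Solvable.pCore_characteristic 2 ↥N
    have hle : N ≤ (Cfsg.pCore 2 ↥N).map N.subtype := by
      refine hmin _ inferInstance fun e => hT ?_
      exact (map_eq_bot_iff_of_injective _ N.subtype_injective).1 e
    have hp : IsPGroup 2 ↥N :=
      ((CfsgLib.Solvable.pCore_isPGroup 2 (G := ↥N)).map _).to_le hle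
    have := hp.isNilpotent
    have : Nontrivial ↥N := nontrivial_iff_ne_bot _ |>.2 hN1
    exact (Group.IsSolvable.commutator_lt_top_of_nontrivial ↥N).ne hperf
  set P' := P.subtype hPN with hP'
  have h' : Shape (P' : Subgroup ↥N) _ _ _ := h.restrict N hPN
  have hL' := hL.restrict N hPN
  have hO' : ∀ L : Subgroup ↥N, L.Normal → L ≠ ⊥ → ∃ y ∈ Z.subgroupOf N, y ≠ 1 ∧ y ∈ L := by
    intro L hL1 hL0
    have heven : ¬ Odd (Nat.card L) := fun ho => hL0 <| by
      have h1 : L ≤ Cfsg.oddCore ↥N :=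
        CfsgLib.Solvable.le_pPrimeCore hL1 (Nat.coprime_two_right.2 ho)
      have : (Cfsg.oddCore ↥N).Characteristic := CfsgLib.Solvable.pPrimeCore_characteristic 2 ↥N
      have h2 : (Cfsg.oddCore ↥N).map N.subtype ≤ Cfsg.oddCore G :=
        CfsgLib.Solvable.le_pPrimeCore inferInstance (by
          rw [Subgroup.card_map_of_injective N.subtype_injective]
          exact Nat.coprime_two_right.2 (CfsgLib.Invol.odd_card_oddCore ↥N))
      rw [hO, le_bot_iff, map_eq_bot_iff_of_injective _ N.subtype_injective] at h2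
      rwa [h2, le_bot_iff] at h1
    obtain ⟨x, hx, hx2⟩ := exists_invol_mem (H := L) (Nat.not_odd_iff_even.1 heven)
    obtain ⟨g, hg⟩ := exists_conj_invol_mem_sylow P' hx2
    set Lp := L.subgroupOf (P' : Subgroup ↥N) with hLp
    have : Lp.Normal := hL1.subgroupOf _
    have : Nontrivial Lp := nontrivial_iff_ne_bot _ |>.2 fun e => by
      have h1 : (⟨g * x * g⁻¹, hg⟩ : (P' : Subgroup ↥N)) ∈ Lp := hL1.conj_mem x hx g
      rw [e, mem_bot, Subtype.ext_iff] at h1
      exact invol_ne_one hx2 (conj_eq_one_iff.1 h1)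
    obtain ⟨⟨⟨y, hyP⟩, hyL⟩, hyc, hy1⟩ : ∃ y : Lp, (y : (P' : Subgroup ↥N)) ∈ center _ ∧ y ≠ 1 := by
      have hnt : (Lp ⊓ center (P' : Subgroup ↥N)) ≠ ⊥ :=
        have := P'.2.isNilpotent
        CfsgLib.Solvable.normal_inf_center_ne_bot Lp ((nontrivial_iff_ne_bot Lp).1 inferInstance)
      obtain ⟨w, hw, hw1⟩ := (Subgroup.bot_or_exists_ne_one _).resolve_left hnt
      exact ⟨⟨w, hw.1⟩, hw.2, fun e => hw1 (congrArg Subtype.val e)⟩
    refine ⟨y, h'.mem_Z_of_central hyP (mem_centralizer_iff.2 fun v hv => ?_), fun e => hy1 ?_, hyL⟩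
    · exact congrArg Subtype.val (mem_center_iff.1 hyc ⟨v, hv⟩)
    · exact Subtype.ext (Subtype.ext e)
  have hdisj : ∀ L M : Subgroup ↥N, L.Normal → M.Normal → L ≠ ⊥ → M ≠ ⊥ → L ⊓ M ≠ ⊥ := by
    intro L M hL1 hM1 hL0 hM0 hd
    obtain ⟨y, hy, hy1, hyM⟩ := hO' M hM1 hM0
    have hLc : L ≤ normalizer ((P' : Subgroup ↥N) : Set ↥N) := fun l hl =>
      hL'.cent y hy hy1 (mem_centralizer_singleton_iff.2
        (commute_of_normal_of_disjoint L M hL1 hM1 (disjoint_iff.2 hd) l y hl hyM))
    -- the intersection with the Sylow subgroup is normal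
    obtain ⟨w, hw, hw1, hwL⟩ := hO' L hL1 hL0
    set T := (P' : Subgroup ↥N).subgroupOf L with hT
    have : T.Normal := ⟨fun t ht g => (mem_normalizer_iff.1 (hLc g.2) _).1 ht⟩
    have hTp : IsPGroup 2 T := P'.2.comap_of_injective _ L.subtype_injective
    have hTS : T ≤ Cfsg.pCore 2 L := CfsgLib.Solvable.le_pCore inferInstance hTp
    have h2 := (map_mono (f := L.subtype) hTS).trans (CfsgLib.Solvable.map_pCore_le 2 L)
    rw [hT0, le_bot_iff, map_eq_bot_iff_of_injective _ L.subtype_injective] at h2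
    have : (⟨w, hwL⟩ : L) ∈ T := h'.hZS hw
    rw [h2, mem_bot] at this
    exact hw1 (congrArg Subtype.val this)
  refine ⟨N, hNn, hPN, h.centralizer_normal_eq_bot hO hA hB hL hNn hN1, ?_, hna⟩
  have : Nontrivial ↥N := nontrivial_iff_ne_bot _ |>.2 hN1
  -- a normal subgroup of least order
  obtain ⟨M, ⟨hM1, hM0⟩, hMmin⟩ := Set.Finite.exists_minimalFor (fun L : Subgroup ↥N => Nat.card L)
    {L : Subgroup ↥N | L.Normal ∧ L ≠ ⊥} (Set.toFinite _) ⟨⊤, inferInstance, top_ne_bot⟩
  have hMle : ∀ L : Subgroup ↥N, L.Normal → L ≠ ⊥ → M ≤ L := fun L hL1 hL0 => by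
    have h0 := hdisj L M hL1 hM1 hL0 hM0
    have h1 := hMmin (j := L ⊓ M) ⟨inferInstance, h0⟩ (Nat.le_of_dvd Nat.card_pos
      (card_dvd_of_le inf_le_right))
    exact (Subgroup.eq_of_le_of_card_ge inf_le_right h1).ge.trans inf_le_left
  have hMchar : M.Characteristic := characteristic_iff_le_map.2 fun φ => by
    refine hMle _ (hM1.map _ φ.surjective) fun e => hM0 ?_
    exact (map_eq_bot_iff_of_injective _ φ.injective).1 e
  have hMtop : M = ⊤ := by
    refine eq_top_iff.2 fun x _ => ?_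
    have := hmin (M.map N.subtype) inferInstance
      (fun e => hM0 ((map_eq_bot_iff_of_injective _ N.subtype_injective).1 e)) x.2
    obtain ⟨y, hy, hyx⟩ := this
    exact Subtype.ext hyx ▸ hy
  exact ⟨fun L hL1 => or_iff_not_imp_left.2 fun hL0 => eq_top_iff.2 (hMtop ▸ hMle L hL1 hL0)⟩

omit hO hA hB

/-- The normalizer of the Sylow subgroup has order at most 576. -/
theorem card_normalizer_le : Nat.card ↥(normalizer ((P : Subgroup G) : Set G)) ≤ 576 := by
  classical
  obtain ⟨z, hz, hz1⟩ := h.exists_Z_ne_one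
  set C := centralizer ({z} : Set G) with hC
  set N := normalizer ((P : Subgroup G) : Set G)
  have hCN : C ≤ N := hL.cent z hz hz1
  have hC192 : Nat.card C ≤ 192 := by
    by_cases hr : ∃ r ∈ C, Odd (orderOf r) ∧ r ≠ 1
    · obtain ⟨r, hrC, hr, hr1⟩ := hr
      let f : Fin 3 × (P : Subgroup G) → C := fun v =>
        ⟨r ^ (v.1 : ℕ) * v.2, mul_mem (pow_mem hrC _) (h.le_cent_Z hz v.2.2)⟩
      have hf : Function.Surjective f := fun c => by
        obtain ⟨j, hj, hjP⟩ := h.cent_decomp hL hz hz1 hr hr1 hrC c.2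
        exact ⟨⟨⟨j, hj⟩, ⟨_, hjP⟩⟩, Subtype.ext (mul_inv_cancel_left (r ^ j) (c : G))⟩
      refine (Nat.card_le_card_of_surjective f hf).trans ?_
      rw [Nat.card_prod, Nat.card_fin, h.cardS]
    · push Not at hr
      have hle : C ≤ (P : Subgroup G) := fun c hc => by
        obtain ⟨s, hs, e, he, -, hodd, rfl⟩ := exists_odd_part P (hCN hc)
        rw [hr e (zpowers_le.2 hc he) hodd, mul_one]
        exact hs
      have := Nat.le_of_dvd Nat.card_pos (Subgroup.card_dvd_of_le hle)
      rw [h.cardS] at this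
      omega
  set S := C.subgroupOf N
  let f : N ⧸ S → ((Z : Set G) \ {1} : Set G) := fun q =>
    ⟨(q.out : G) * z * (q.out : G)⁻¹, conj_mem_of_normalizer (h.normalizer_le_Z q.out.2) hz,
      fun e => hz1 (conj_eq_one_iff.1 e)⟩
  have hf : Function.Injective f := fun p q e => by
    have e' : (p.out : G) * z * (p.out : G)⁻¹ = (q.out : G) * z * (q.out : G)⁻¹ :=
      congrArg Subtype.val e
    rw [← p.out_eq', ← q.out_eq', QuotientGroup.eq, mem_subgroupOf]
    refine mem_centralizer_singleton_iff.2 (mul_inv_eq_iff_eq_mul.1 ?_)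
    push_cast
    calc (p.out : G)⁻¹ * q.out * z * ((p.out : G)⁻¹ * q.out)⁻¹
        = (p.out : G)⁻¹ * ((q.out : G) * z * (q.out : G)⁻¹) * p.out := by group
      _ = z := by rw [← e']; group
  have h3 : S.index ≤ 3 := by
    rw [index_eq_card]
    refine (Nat.card_le_card_of_injective f hf).trans ?_
    rw [Nat.card_coe_set_eq, Set.ncard_sdiff_singleton_of_mem (one_mem Z), ← Nat.card_coe_set_eq,
      SetLike.coe_sort_coe, h.cardZ]
  rw [← S.card_mul_index, Nat.card_congr (subgroupOfEquivOfLe hCN).toEquiv]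
  exact Nat.mul_le_mul hC192 h3

/-- With a mover the normalizer of the Sylow subgroup has order divisible by 192. -/
theorem dvd_card_normalizer {n : G} (hn : n ∈ normalizer ((P : Subgroup G) : Set G))
    (hnm : ∀ y ∈ Z, y ≠ 1 → n * y * n⁻¹ ≠ y) :
    192 ∣ Nat.card ↥(normalizer ((P : Subgroup G) : Set G)) := by
  obtain ⟨z, hz, hz1⟩ := h.exists_Z_ne_one
  rw [show 192 = 64 * 3 by norm_num]
  refine Nat.Coprime.mul_dvd_of_dvd_of_dvd (by norm_num)
    (h.cardS ▸ Subgroup.card_dvd_of_le le_normalizer) ?_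
  by_contra h3
  have hg : Nat.gcd 3 (orderOf n) = 1 := Nat.prime_three.coprime_iff_not_dvd.2 fun e =>
    h3 (e.trans (orderOf_dvd_natCard _ hn))
  rcases h.perm_cases (h.normalizer_le_Z hn) hz hz1 with ⟨y, hy, hy1, e⟩ | ⟨-, -, e⟩
  · exact hnm y hy hy1 e
  refine hnm z hz hz1 ?_
  have h1 : n ∈ centralizer ({z} : Set G) := by
    have h3C : n ^ 3 ∈ centralizer ({z} : Set G) :=
      mem_centralizer_singleton_iff.2 (mul_inv_eq_iff_eq_mul.1 e)
    have := zpow_mem h3C (Nat.gcdA 3 (orderOf n))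
    have key : (n ^ 3) ^ Nat.gcdA 3 (orderOf n) = n := by
      calc (n ^ 3) ^ Nat.gcdA 3 (orderOf n)
          = (n ^ 3) ^ Nat.gcdA 3 (orderOf n) * (n ^ orderOf n) ^ Nat.gcdB 3 (orderOf n) := by
            rw [pow_orderOf_eq_one, one_zpow, mul_one]
        _ = n := by
            rw [← zpow_natCast, ← zpow_natCast, ← zpow_mul, ← zpow_mul, ← zpow_add,
              ← Nat.gcd_eq_gcd_ab, hg, Nat.cast_one, zpow_one]
    rwa [key] at this
  rw [mem_centralizer_singleton_iff.1 h1, mul_inv_cancel_right]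

include hO hA hB

/-- The whole structure when the involution centralizers normalize the Sylow subgroup. -/
theorem theorem_A {F : Type v} [Field F] [Fintype F] (hF : Fintype.card F = 4) :
    ∃ N : Subgroup G, N.Normal ∧ Nonempty (↥N ≃* Matrix.ProjectiveSpecialLinearGroup (Fin 3) F) ∧
      centralizer (N : Set G) = ⊥ ∧ N.index ∣ 3 ∧ IsSimpleGroup ↥N ∧ Nat.card N = 20160 ∧
      (∀ z ∈ Z, z ≠ 1 → Nat.card ↥(centralizer ({z} : Set G)) ∣ 192) ∧
      ∀ w : ↥N, w * w = 1 → w ≠ 1 → IsPGroup 2 ↥(centralizer ({w} : Set ↥N)) := by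
  classical
  have := twoFact
  obtain ⟨N, hNn, hPN, hC, hS, hna⟩ := h.exists_simple_normal hO hA hB hL
  set P' := P.subtype hPN with hP'
  have h' : Shape (P' : Subgroup ↥N) _ _ _ := h.restrict N hPN
  have hL' := hL.restrict N hPN
  obtain ⟨z, hz, hz1⟩ := h'.exists_Z_ne_one
  have hcz := h'.cent_eq_sylow hL' hna hz hz1
  have hF1 := CfsgLib.InvChar.LThreeFour.flag_of_invol (invol_of_mul_self (h'.eZ hz) hz1) hcz
    P'.not_dvd_index h'.cardS h'.hA h'.hB h'.eA h'.eB h'.cardA h'.cardB h'.inter h'.cardZ hz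
    h'.invol h'.comm
  obtain ⟨hcard, hone⟩ := CfsgLib.InvChar.LThreeFour.Flag.card_eq hna hF1
  obtain ⟨n, hn, hnm⟩ := h'.exists_mover hL' hna
  have hidx : N.index ∣ 3 := by
    have hfr : normalizer (((P' : Subgroup ↥N).map N.subtype : Subgroup G) : Set G) ⊔ N = ⊤ :=
      Sylow.normalizer_sup_eq_top P'
    have hPmap : (P' : Subgroup ↥N).map N.subtype = (P : Subgroup G) := map_subgroupOf_eq_of_le hPN
    rw [hPmap] at hfr
    set NP := normalizer ((P : Subgroup G) : Set G)
    have hrel : N.relIndex NP = N.index := by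
      rw [← relIndex_top_right N, ← hfr, relIndex_sup_right]
    have h192 := h'.dvd_card_normalizer hL' hn hnm
    have hle : Nat.card ↥(normalizer ((P' : Subgroup ↥N) : Set ↥N)) ∣ Nat.card ↥(N ⊓ NP) := by
      rw [← Subgroup.card_map_of_injective N.subtype_injective]
      refine card_dvd_of_le ?_
      rintro _ ⟨x, hx, rfl⟩
      refine mem_inf.2 ⟨x.2, mem_normalizer_iff.2 fun v => ⟨fun hv => ?_, fun hv => ?_⟩⟩
      · exact (mem_normalizer_iff.1 hx ⟨v, hPN hv⟩).1 hv
      · have hvN : v ∈ N := by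
          have := mul_mem (mul_mem (inv_mem x.2) (hPN hv)) x.2
          simpa [mul_assoc] using this
        exact (mem_normalizer_iff.1 hx ⟨v, hvN⟩).2 hv
    have hmul : Nat.card ↥(N ⊓ NP) * N.relIndex NP = Nat.card NP := by
      rw [← inf_relIndex_right]
      simpa [relIndex_bot_left] using relIndex_mul_relIndex ⊥ (N ⊓ NP) NP bot_le inf_le_right
    rw [hrel] at hmul
    have h1 : 192 * N.index ≤ 576 := le_trans (Nat.mul_le_mul_right _
      (Nat.le_of_dvd Nat.card_pos (h192.trans hle))) (hmul ▸ h.card_normalizer_le hL)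
    have hodd : ¬ 2 ∣ N.index := fun e => P.not_dvd_index (e.trans (index_dvd_of_le hPN))
    have hpos : N.index ≠ 0 := Subgroup.index_ne_zero_of_finite
    have : N.index = 1 ∨ N.index = 3 := by omega
    rcases this with e | e <;> rw [e] <;> norm_num
  refine ⟨N, hNn, ?_, hC, hidx, hS, hcard, fun y hy hy1 => ?_, fun w hw hw1 => ?_⟩
  · exact CfsgLib.InvChar.LThreeFour.Flag.equiv_psl hna hF1 hF
  · have hyN : y ∈ N := hPN (h.hZS hy)
    have hy' := h'.cent_eq_sylow hL' hna (z := ⟨y, hyN⟩) hy (fun e => hy1 (congrArg Subtype.val e))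
    set C := centralizer ({y} : Set G)
    have hdvd : Nat.card C ∣ Nat.card ↥(N ⊓ C) * N.index := by
      have hmul : Nat.card ↥(N ⊓ C) * N.relIndex C = Nat.card C := by
        rw [← inf_relIndex_right]
        simpa [relIndex_bot_left] using relIndex_mul_relIndex ⊥ (N ⊓ C) C bot_le inf_le_right
      rw [← hmul]
      exact mul_dvd_mul_left _ (relIndex_dvd_index_of_normal N C)
    have hle : N ⊓ C ≤ (P : Subgroup G) := fun x hx => by
      have : (⟨x, hx.1⟩ : N) ∈ centralizer ({⟨y, hyN⟩} : Set N) :=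
        mem_centralizer_singleton_iff.2 (Subtype.ext (mem_centralizer_singleton_iff.1 hx.2))
      rw [hy'] at this
      exact this
    refine hdvd.trans ((mul_dvd_mul (Subgroup.card_dvd_of_le hle) hidx).trans ?_)
    rw [h.cardS]; norm_num
  · obtain ⟨g, hg⟩ := isConj_iff.1 (hone z w (invol_of_mul_self (h'.eZ hz) hz1)
      (invol_of_mul_self hw hw1))
    rw [← hg, cj_centralizer, hcz]
    exact P'.2.map _

end Shape

end CfsgLib.SylL34
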