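import Mathlib.GroupTheory.Abelianization.Defs
import Mathlib.GroupTheory.Transfer
import Cfsg.Agent.Lib.Transfer.ClassTwo

/-!
A nonreal element of order three whose centraliser has Sylow 3-subgroups of order nine forces a proper
derived subgroup.
-/

set_option autoImplicit false

namespace CfsgLib.SylL34

open Subgroup

universe u

/-- A set of elements of order three in an abelian group of order at most nine, without inverse pairs and of
size prime to three, has nontrivial product. -/
theorem prod_ne_one_of_no_inverse_pair {A : Type*} [CommGroup A] [Fintype A] [DecidableEq A]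
    (hA : Fintype.card A ≤ 9) (S : Finset A) (h3 : ∀ v ∈ S, v ^ 3 = 1) (h1 : ∀ v ∈ S, v ≠ 1)
    (hinv : ∀ v ∈ S, v⁻¹ ∉ S) (hk : ¬ 3 ∣ S.card) : ∏ v ∈ S, v ≠ 1 := by
  have hdisj : Disjoint S (S.image (·⁻¹)) := by
    rw [Finset.disjoint_right]
    intro a ha haS
    obtain ⟨v, hv, rfl⟩ := Finset.mem_image.1 ha
    exact hinv v hv haS
  have hci : (S.image (·⁻¹)).card = S.card := Finset.card_image_of_injective _ inv_injective
  have hsub : S ∪ S.image (·⁻¹) ⊆ (Finset.univ : Finset A).erase 1 := by
    intro a ha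
    rw [Finset.mem_erase]
    refine ⟨?_, Finset.mem_univ _⟩
    rcases Finset.mem_union.1 ha with h | h
    · exact h1 a h
    · obtain ⟨v, hv, rfl⟩ := Finset.mem_image.1 h
      exact inv_ne_one.2 (h1 v hv)
  have h8 := Finset.card_le_card hsub
  rw [Finset.card_union_of_disjoint hdisj, hci, Finset.card_erase_of_mem (Finset.mem_univ _),
    Finset.card_univ] at h8
  intro hprod
  have hcard : S.card = 1 ∨ S.card = 2 ∨ S.card = 4 := by omega
  rcases hcard with hc | hc | hc
  · obtain ⟨v, rfl⟩ := Finset.card_eq_one.1 hc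
    exact h1 v (by simp) (by simpa using hprod)
  · obtain ⟨v, w, hvw, rfl⟩ := Finset.card_eq_two.1 hc
    rw [Finset.prod_pair hvw] at hprod
    exact hinv v (by simp) (by simp [inv_eq_of_mul_eq_one_right hprod])
  · have hfull : S ∪ S.image (·⁻¹) = (Finset.univ : Finset A).erase 1 :=
      Finset.eq_of_subset_of_card_le hsub (by
        rw [Finset.card_union_of_disjoint hdisj, hci, Finset.card_erase_of_mem (Finset.mem_univ _),
          Finset.card_univ]
        omega)
    obtain ⟨a, b, c, d, hab, hac, had, hbc, hbd, hcd, rfl⟩ := Finset.card_eq_four.1 hc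
    have hprod' : a * b * (c * d) = 1 := by
      rw [← hprod]
      simp [hab, hac, had, hbc, hbd, hcd, mul_assoc]
    have sqi : ∀ v ∈ ({a, b, c, d} : Finset A), v * v = v⁻¹ := fun v hv => by
      refine eq_inv_of_mul_eq_one_left ?_
      rw [← h3 v hv, pow_succ, pow_succ, pow_one]
    have hab1 : a * b ≠ 1 := fun h => hinv a (by simp) (by simp [inv_eq_of_mul_eq_one_right h])
    have hmem : a * b ∈ (Finset.univ : Finset A).erase 1 := Finset.mem_erase.2 ⟨hab1, Finset.mem_univ _⟩
    rw [← hfull, Finset.mem_union, Finset.mem_image] at hmem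
    simp only [Finset.mem_insert, Finset.mem_singleton, exists_eq_or_imp, exists_eq_left] at hmem
    have ha1 := h1 a (by simp); have hb1 := h1 b (by simp)
    have hc1 := h1 c (by simp); have hd1 := h1 d (by simp)
    have last : ∀ u v : A, v ∈ ({a, b, c, d} : Finset A) → u * (v * u) = 1 → v ≠ 1 →
        u ∈ ({a, b, c, d} : Finset A) → u ≠ v → False := by
      intro u v hv h hv1 hu huv
      apply huv
      have : v = (u * u)⁻¹ := eq_inv_of_mul_eq_one_left (by rw [← h]; ac_rfl)
      rw [this, sqi u hu, inv_inv]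
    rcases hmem with (h | h | h | h) | (h | h | h | h)
    · exact hb1 (mul_eq_left.1 h)
    · exact ha1 (mul_eq_right.1 h)
    · rw [h] at hprod'
      exact last c d (by simp) (by rw [← hprod']; ac_rfl) hd1 (by simp) hcd
    · rw [h] at hprod'
      exact last d c (by simp) (by rw [← hprod']) hc1 (by simp) (Ne.symm hcd)
    · exact hab (mul_left_cancel ((sqi a (by simp)).trans h))
    · rw [mul_comm a b] at h
      exact hab (mul_left_cancel ((sqi b (by simp)).trans h)).symm
    · rw [← h, inv_mul_cancel_left] at hprod'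
      exact hd1 hprod'
    · rw [← h, mul_comm c d, inv_mul_cancel_left] at hprod'
      exact hc1 hprod'

/-- A finite `p`-group whose abelianisation is cyclic is abelian. -/
theorem commute_of_index_commutator_eq_prime {S : Type*} [Group S] [Finite S] {p : ℕ} [Fact p.Prime]
    (hS : IsPGroup p S) (h : (commutator S).index = p) : ∀ a b : S, a * b = b * a := by
  obtain ⟨g, hg⟩ : ∃ g : S, g ∉ commutator S := by
    by_contra! hall
    have h1 := Subgroup.index_eq_one.2 (eq_top_iff.2 fun g _ => hall g)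
    rw [h] at h1
    exact (Fact.out : p.Prime).ne_one h1
  have hsup : Subgroup.zpowers g ⊔ commutator S = ⊤ := by
    have hdvd := Subgroup.index_dvd_of_le (le_sup_right : commutator S ≤ Subgroup.zpowers g ⊔ commutator S)
    rw [h] at hdvd
    rcases (Nat.dvd_prime Fact.out).1 hdvd with h1 | h1
    · exact Subgroup.index_eq_one.1 h1
    · exfalso
      refine hg ?_
      have := Subgroup.relIndex_mul_index
        (le_sup_right : commutator S ≤ Subgroup.zpowers g ⊔ commutator S)
      rw [h1, h] at this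
      have h2 : (commutator S).relIndex (Subgroup.zpowers g ⊔ commutator S) = 1 :=
        Nat.eq_of_mul_eq_mul_right (Fact.out : p.Prime).pos (by rw [this, one_mul])
      exact Subgroup.relIndex_eq_one.1 h2 ((le_sup_left : Subgroup.zpowers g ≤ _) (Subgroup.mem_zpowers g))
  have htop : Subgroup.zpowers g = ⊤ := by
    by_contra hne
    obtain ⟨M, hM, hle⟩ := (eq_top_or_exists_le_coatom (Subgroup.zpowers g)).resolve_left hne
    obtain ⟨hMn, hidx⟩ := CfsgLib.Transfer.coatom_index_eq_prime hS hM
    have : IsCyclic (S ⧸ M) := isCyclic_of_prime_card (p := p) (by rw [← Subgroup.index_eq_card, hidx])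
    have hcomm : commutator S ≤ M := by
      rw [commutator_def, Subgroup.commutator_le]
      intro a _ b _
      rw [← QuotientGroup.eq_one_iff]
      let _ : CommGroup (S ⧸ M) := IsCyclic.commGroup
      rw [commutatorElement_def, QuotientGroup.mk_mul, QuotientGroup.mk_mul, QuotientGroup.mk_mul,
        QuotientGroup.mk_inv, QuotientGroup.mk_inv, mul_right_comm (a : S ⧸ M), mul_inv_cancel, one_mul,
        mul_inv_cancel]
    exact hM.1 (top_le_iff.1 (hsup ▸ sup_le hle hcomm))
  intro a b
  obtain ⟨i, rfl⟩ := Subgroup.mem_zpowers_iff.1 (htop ▸ Subgroup.mem_top a : a ∈ Subgroup.zpowers g)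
  obtain ⟨j, rfl⟩ := Subgroup.mem_zpowers_iff.1 (htop ▸ Subgroup.mem_top b : b ∈ Subgroup.zpowers g)
  exact (Commute.zpow_zpow_self g i j).eq

open MulAction in
/-- The transfer of an element of order three is the product over the points it fixes. -/
theorem transfer_eq_prod_fixed {G : Type u} [Group G] [Finite G] {R : Subgroup G} {A : Type*} [CommGroup A]
    (φ : R →* A) {x : G} (hx : orderOf x = 3) [Fintype {q : G ⧸ R // x • q = q}] :
    MonoidHom.transfer φ x = ∏ q : {q : G ⧸ R // x • q = q},
      φ ⟨(q.1.out)⁻¹ * x * q.1.out, by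
        have h := q.2
        rw [← q.1.out_eq', MulAction.Quotient.smul_mk, QuotientGroup.eq] at h
        have h' := inv_mem h
        simpa [mul_assoc] using h'⟩ := by
  classical
  let _ := Fintype.ofFinite (Quotient (orbitRel (zpowers x) (G ⧸ R)))
  rw [MonoidHom.transfer_eq_prod_quotient_orbitRel_zpowers_quot]
  have hper : ∀ q : G ⧸ R, Function.minimalPeriod (x • ·) q = 1 ∨
      Function.minimalPeriod (x • ·) q = 3 := by
    intro q
    have h3 : Function.IsPeriodicPt (x • ·) 3 q := by
      show (x • ·)^[3] q = q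
      rw [smul_iterate, ← hx, pow_orderOf_eq_one]
      exact one_smul G q
    exact (Nat.dvd_prime Nat.prime_three).1 h3.minimalPeriod_dvd
  have hfx : ∀ q : G ⧸ R, x • q = q ↔ Function.minimalPeriod (x • ·) q = 1 := fun q =>
    (Function.minimalPeriod_eq_one_iff_isFixedPt (f := (x • ·)) (x := q)).symm
  rw [← Finset.prod_filter_of_ne (p := fun q : Quotient (orbitRel (zpowers x) (G ⧸ R)) =>
    x • q.out = q.out) ?_]
  · symm
    refine Finset.prod_bij' (fun a _ => (Quotient.mk'' a.1 : Quotient (orbitRel (zpowers x) (G ⧸ R))))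
      (fun q hq => ⟨q.out, (Finset.mem_filter.1 hq).2⟩) ?_ ?_ ?_ ?_ ?_
    all_goals
      have key : ∀ a : G ⧸ R, x • a = a →
          (Quotient.mk'' a : Quotient (orbitRel (zpowers x) (G ⧸ R))).out = a := by
        intro a ha
        obtain ⟨⟨_, i, rfl⟩, hh⟩ := Quotient.exact'
          (Quotient.out_eq' (Quotient.mk'' a : Quotient (orbitRel (zpowers x) (G ⧸ R))))
        rw [← hh]
        exact (stabilizer G a).zpow_mem ha i
    · intro a _
      rw [Finset.mem_filter, key _ a.2]
      exact ⟨Finset.mem_univ _, a.2⟩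
    · intro q _
      exact Finset.mem_univ _
    · intro a _
      exact Subtype.ext (key _ a.2)
    · intro q _
      exact q.out_eq'
    · intro a _
      congr 1
      apply Subtype.ext
      simp only [key _ a.2, (hfx _).1 a.2, pow_one]
  · intro q _ hne
    rcases hper q.out with h | h
    · exact (hfx _).2 h
    · refine absurd ?_ hne
      rw [show (⟨_, QuotientGroup.out_conj_pow_minimalPeriod_mem R x q.out⟩ : R) = 1 from
        Subtype.ext (by simp only [h, ← hx, pow_orderOf_eq_one]; simp), map_one]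

/-- Counting conjugators of `x` into a set of elements of its class. -/
theorem card_conjugators {G : Type u} [Group G] (x : G) (p : G → Prop)
    (hp : ∀ r, p r → IsConj x r) :
    Nat.card {g : G // p (g⁻¹ * x * g)} =
      Nat.card {r : G // p r} * Nat.card (Subgroup.centralizer ({x} : Set G)) := by
  have hex : ∀ r : {r : G // p r}, ∃ g : G, g⁻¹ * x * g = r := fun r => by
    obtain ⟨g, hg⟩ := isConj_iff.1 (hp r r.2)
    exact ⟨g⁻¹, by rw [← hg]; group⟩
  choose w hw using hex
  have hconj : ∀ (c : G), c * x = x * c → ∀ g : G, (c * g)⁻¹ * x * (c * g) = g⁻¹ * x * g := by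
    intro c hc g
    calc (c * g)⁻¹ * x * (c * g) = g⁻¹ * c⁻¹ * (x * c) * g := by group
      _ = g⁻¹ * c⁻¹ * (c * x) * g := by rw [hc]
      _ = _ := by group
  rw [← Nat.card_prod]
  refine (Nat.card_eq_of_bijective (fun rc : {r : G // p r} × Subgroup.centralizer ({x} : Set G) =>
    (⟨(rc.2 : G) * w rc.1, by
      rw [hconj _ (Subgroup.mem_centralizer_singleton_iff.1 rc.2.2), hw]; exact rc.1.2⟩ :
        {g : G // p (g⁻¹ * x * g)})) ⟨?_, ?_⟩).symm
  · rintro ⟨r, c, hc⟩ ⟨r', c', hc'⟩ h
    have h' : c * w r = c' * w r' := congrArg Subtype.val h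
    have hr : r = r' := Subtype.ext (by
      rw [← hw r, ← hw r', ← hconj c (Subgroup.mem_centralizer_singleton_iff.1 hc) (w r),
        ← hconj c' (Subgroup.mem_centralizer_singleton_iff.1 hc') (w r'), h'])
    subst hr
    have hcc : c = c' := mul_right_cancel h'
    subst hcc
    rfl
  · rintro ⟨g, hg⟩
    have hmem : g * (w ⟨_, hg⟩)⁻¹ ∈ Subgroup.centralizer ({x} : Set G) := by
      rw [Subgroup.mem_centralizer_singleton_iff]
      have e := hw ⟨_, hg⟩
      calc g * (w ⟨_, hg⟩)⁻¹ * x
          = g * ((w ⟨_, hg⟩)⁻¹ * x * w ⟨_, hg⟩) * (w ⟨_, hg⟩)⁻¹ := by group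
        _ = g * (g⁻¹ * x * g) * (w ⟨_, hg⟩)⁻¹ := by rw [e]
        _ = _ := by group
    exact ⟨(⟨_, hg⟩, ⟨_, hmem⟩), Subtype.ext (inv_mul_cancel_right g _)⟩

theorem not_perfect_of_three {G : Type u} [Group G] [Finite G] {x : G} (hx : orderOf x = 3)
    (h9 : 9 ∣ Nat.card ↥(Subgroup.centralizer ({x} : Set G)))
    (h27 : ¬ 27 ∣ Nat.card ↥(Subgroup.centralizer ({x} : Set G))) (hnr : ¬ IsConj x x⁻¹) :
    commutator G ≠ ⊤ := by
  classical
  intro hperf
  have : Fact (Nat.Prime 3) := ⟨Nat.prime_three⟩
  set C := Subgroup.centralizer ({x} : Set G)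
  obtain ⟨P, hP⟩ := (IsPGroup.of_card (p := 3) (n := 1)
    (show Nat.card (Subgroup.zpowers x) = 3 ^ 1 by rw [Nat.card_zpowers, hx, pow_one])).exists_le_sylow
  set R := (P : Subgroup G) with hRdef
  have hRp : IsPGroup 3 R := P.2
  have hR9 : 9 ∣ Nat.card R := by
    exact P.pow_dvd_card_of_pow_dvd_card (n := 2) (h9.trans (Subgroup.card_subgroup_dvd_card C))
  set D := commutator R with hD
  let φ : R →* Abelianization R := Abelianization.of
  have : Finite (Abelianization R) := inferInstanceAs (Finite (R ⧸ commutator R))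
  let _ : Fintype (Abelianization R) := Fintype.ofFinite _
  have hker : ∀ a b : R, φ a = φ b ↔ a⁻¹ * b ∈ D := fun a b => QuotientGroup.eq
  have hA : Nat.card (Abelianization R) = D.index := rfl
  -- the conjugates of `x` in `R`
  have horb : ∀ y : R, IsConj x (y : G) → Nat.card R ≤ 9 * Nat.card D ∧
      (Nat.card R = 9 * Nat.card D → ∀ r : R, φ r = φ y → IsConj x (r : G)) := by
    intro y hy
    have hcu : Nat.card (Subgroup.centralizer ({y} : Set R)) ∣ 9 := by
      obtain ⟨k, hk⟩ := (hRp.to_subgroup (Subgroup.centralizer ({y} : Set R))).exists_card_eq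
      obtain ⟨g, hg⟩ := isConj_iff.1 hy
      have hle : (Subgroup.centralizer ({y} : Set R)).map R.subtype ≤ C.map (MulAut.conj g).toMonoidHom := by
        rintro _ ⟨c, hc, rfl⟩
        refine ⟨g⁻¹ * (c : G) * g, ?_, by simp [mul_assoc]⟩
        have h1 : (c : G) * (y : G) = (y : G) * c :=
          congrArg Subtype.val (Subgroup.mem_centralizer_singleton_iff.1 hc)
        rw [SetLike.mem_coe, Subgroup.mem_centralizer_singleton_iff]
        rw [← hg] at h1
        calc g⁻¹ * ↑c * g * x = g⁻¹ * (↑c * (g * x * g⁻¹)) * g := by group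
          _ = g⁻¹ * (g * x * g⁻¹ * ↑c) * g := by rw [h1]
          _ = _ := by group
      have hd := Subgroup.card_dvd_of_le hle
      rw [Subgroup.card_map_of_injective R.subtype_injective,
        Subgroup.card_map_of_injective (MulEquiv.injective _), hk] at hd
      rw [hk]
      rcases le_or_gt k 2 with h | h
      · exact (show (9 : ℕ) = 3 ^ 2 by norm_num) ▸ pow_dvd_pow 3 h
      · exact absurd ((show (27 : ℕ) = 3 ^ 3 by norm_num) ▸ (pow_dvd_pow 3 h).trans hd) h27
    set O := MulAction.orbit (ConjAct R) y with hO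
    have hOD : O ⊆ (fun d => d * y) '' (D : Set R) := by
      rintro _ ⟨g, rfl⟩
      refine ⟨ConjAct.ofConjAct g * y * (ConjAct.ofConjAct g)⁻¹ * y⁻¹, ?_, ?_⟩
      · exact Subgroup.commutator_mem_commutator (Subgroup.mem_top _) (Subgroup.mem_top _)
      · simp [ConjAct.smul_def]
    have hOc : O.ncard * Nat.card (Subgroup.centralizer ({y} : Set R)) = Nat.card R := by
      have h := (MulAction.stabilizer (ConjAct R) y).index_mul_card
      rw [MulAction.index_stabilizer, ← Subgroup.nat_card_centralizer_nat_card_stabilizer] at h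
      exact h
    have himg : ((fun d => d * y) '' (D : Set R)).ncard = Nat.card D := by
      rw [Set.ncard_image_of_injective _ (mul_left_injective y), ← Nat.card_coe_set_eq]
      rfl
    have hOle := Set.ncard_le_ncard hOD
    rw [himg] at hOle
    have hc9 : Nat.card (Subgroup.centralizer ({y} : Set R)) ≤ 9 := Nat.le_of_dvd (by norm_num) hcu
    refine ⟨?_, fun heq r hr => ?_⟩
    · rw [← hOc]
      calc _ ≤ Nat.card D * 9 := Nat.mul_le_mul hOle hc9
        _ = _ := mul_comm _ _
    · have hge : Nat.card D ≤ O.ncard := by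
        have : 9 * Nat.card D ≤ 9 * O.ncard := by
          rw [← heq, ← hOc, mul_comm 9 O.ncard]
          exact Nat.mul_le_mul_left _ hc9
        omega
      have hEq := Set.eq_of_subset_of_ncard_le hOD (by rw [himg]; exact hge)
      have hd : r * y⁻¹ ∈ D := by
        have h' := (hker y r).1 hr.symm
        have := (show D.Normal from inferInstance).mem_comm h'
        exact this
      have hm : r ∈ O := hEq ▸ ⟨r * y⁻¹, hd, inv_mul_cancel_right r y⟩
      obtain ⟨g, rfl⟩ := hm
      refine hy.trans (isConj_iff.2 ⟨((ConjAct.ofConjAct g : R) : G), ?_⟩)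
      simp [ConjAct.smul_def]
  have hxR : x ∈ R := hP (Subgroup.mem_zpowers x)
  have hb := (horb ⟨x, hxR⟩ (IsConj.refl x)).1
  have hD0 : 0 < Nat.card D := Nat.card_pos
  have hidx : D.index = 9 := by
    have hmul : Nat.card D * D.index = Nat.card R := D.card_mul_index
    obtain ⟨n, hn⟩ := hRp.exists_card_eq
    have hle9 : D.index ≤ 9 := by
      by_contra h
      have h10 := Nat.mul_le_mul_left (Nat.card D) (show 10 ≤ D.index by omega)
      rw [hmul] at h10
      omega
    obtain ⟨i, -, hi⟩ := (Nat.dvd_prime_pow Nat.prime_three).1 (hn ▸ Subgroup.index_dvd_card D)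
    rcases i with _ | _ | _ | i
    · exfalso
      have : Nontrivial R := Finite.one_lt_card_iff_nontrivial.1
        (lt_of_lt_of_le (by norm_num) (Nat.le_of_dvd Nat.card_pos hR9))
      have := hRp.isNilpotent
      exact (Group.IsSolvable.commutator_lt_top_of_nontrivial R).ne (Subgroup.index_eq_one.1 (by simpa using hi))
    · exfalso
      have hi' : D.index = 3 := by simpa using hi
      have hab := commute_of_index_commutator_eq_prime hRp hi'
      have hbot : D = ⊥ := by
        rw [hD, _root_.commutator_def, Subgroup.commutator_eq_bot_iff_le_centralizer]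
        exact fun a _ => Subgroup.mem_centralizer_iff.2 fun b _ => hab b a
      rw [hbot, Subgroup.index_bot] at hi'
      rw [hi'] at hR9
      norm_num at hR9
    · simpa using hi
    · rw [hi] at hle9
      have : 3 ^ 3 ≤ 3 ^ (i + 1 + 1 + 1) := Nat.pow_le_pow_right (by norm_num) (by omega)
      omega
  have hR : Nat.card R = 9 * Nat.card D := by rw [← D.card_mul_index, hidx, mul_comm]
  -- the occurring cosets
  set S : Finset (Abelianization R) :=
    Finset.univ.filter (fun v => ∃ r : R, φ r = v ∧ IsConj x (r : G)) with hS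
  have hfull : ∀ v ∈ S, ∀ r : R, φ r = v → IsConj x (r : G) := by
    intro v hv r hr
    obtain ⟨r₀, h0, hc⟩ := (Finset.mem_filter.1 hv).2
    exact (horb r₀ hc).2 hR r (hr.trans h0.symm)
  have hx3 : x ^ 3 = 1 := by rw [← hx, pow_orderOf_eq_one]
  have hS3 : ∀ v ∈ S, v ^ 3 = 1 := by
    intro v hv
    obtain ⟨r, rfl, hc⟩ := (Finset.mem_filter.1 hv).2
    obtain ⟨g, hg⟩ := isConj_iff.1 hc
    rw [← map_pow, show r ^ 3 = 1 from Subtype.ext (by
      rw [Subgroup.coe_pow, ← hg, conj_pow, hx3, mul_one, mul_inv_cancel, Subgroup.coe_one]), map_one]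
  have hS1 : ∀ v ∈ S, v ≠ 1 := by
    intro v hv h1
    have := hfull v hv 1 (by rw [map_one, h1])
    rw [Subgroup.coe_one, isConj_one_left] at this
    rw [this, orderOf_one] at hx
    norm_num at hx
  have hSinv : ∀ v ∈ S, v⁻¹ ∉ S := by
    intro v hv hv'
    obtain ⟨r, rfl, hc⟩ := (Finset.mem_filter.1 hv).2
    have h2 := hfull _ hv' r⁻¹ (map_inv φ r)
    refine hnr (h2.trans ?_)
    obtain ⟨g, hg⟩ := isConj_iff.1 hc
    exact isConj_iff.2 ⟨g⁻¹, by rw [Subgroup.coe_inv, ← hg]; group⟩
  -- the transfer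
  let _ : Fintype {q : G ⧸ R // x • q = q} := Fintype.ofFinite _
  have hmem : ∀ q : {q : G ⧸ R // x • q = q}, (q.1.out)⁻¹ * x * q.1.out ∈ R := by
    intro q
    have h := q.2
    rw [← q.1.out_eq', MulAction.Quotient.smul_mk, QuotientGroup.eq] at h
    have h' := inv_mem h
    simpa [mul_assoc] using h'
  set val : {q : G ⧸ R // x • q = q} → Abelianization R := fun q => φ ⟨_, hmem q⟩ with hval
  have hval_mem : ∀ q, val q ∈ S := fun q =>
    Finset.mem_filter.2 ⟨Finset.mem_univ _, ⟨_, hmem q⟩, rfl,
      isConj_iff.2 ⟨(q.1.out)⁻¹, by rw [inv_inv]⟩⟩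
  have hfib : ∀ v ∈ S, (Finset.univ.filter fun q => val q = v).card * 9 = Nat.card C := by
    intro v hv
    have hcount := card_conjugators x (fun g => ∃ h : g ∈ R, φ ⟨g, h⟩ = v)
      (fun g hg => hfull v hv ⟨g, hg.1⟩ hg.2)
    have hcos : Nat.card {g : G // ∃ h : g ∈ R, φ ⟨g, h⟩ = v} = Nat.card D := by
      obtain ⟨r₀, h0, -⟩ := (Finset.mem_filter.1 hv).2
      refine (Nat.card_eq_of_bijective (fun d : D => (⟨((r₀ * d : R) : G), (r₀ * (d : R)).2, by
        show φ (r₀ * d) = v
        rw [← h0, eq_comm, hker]; simp⟩ :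
          {g : G // ∃ h : g ∈ R, φ ⟨g, h⟩ = v})) ⟨?_, ?_⟩).symm
      · intro a b h
        have h' := congrArg (fun z : {g : G // ∃ h : g ∈ R, φ ⟨g, h⟩ = v} => (z : G)) h
        exact Subtype.ext (mul_left_cancel (Subtype.ext h' : r₀ * (a : R) = r₀ * b))
      · rintro ⟨g, hg, hgv⟩
        exact ⟨⟨r₀⁻¹ * ⟨g, hg⟩, (hker _ _).1 (h0.trans hgv.symm)⟩, Subtype.ext (by simp)⟩
    have hsrc : Nat.card {g : G // ∃ h : g⁻¹ * x * g ∈ R, φ ⟨_, h⟩ = v} =
        (Finset.univ.filter fun q => val q = v).card * Nat.card R := by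
      rw [show (Finset.univ.filter fun q => val q = v).card =
        Nat.card {q : {q : G ⧸ R // x • q = q} // val q = v} by
          rw [Nat.card_eq_fintype_card, Fintype.card_subtype], ← Nat.card_prod]
      refine (Nat.card_eq_of_bijective (fun qr : {q : {q : G ⧸ R // x • q = q} // val q = v} × R =>
        (⟨qr.1.1.1.out * (qr.2 : G), ?_⟩ : {g : G // ∃ h : g⁻¹ * x * g ∈ R, φ ⟨_, h⟩ = v}))
        ⟨?_, ?_⟩).symm
      · obtain ⟨⟨q, hq⟩, r⟩ := qr
        have e : (q.1.out * (r : G))⁻¹ * x * (q.1.out * r) =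
            ((r⁻¹ * ⟨_, hmem q⟩ * r : R) : G) := by simp [mul_assoc]
        refine ⟨e ▸ (r⁻¹ * ⟨_, hmem q⟩ * r : R).2, ?_⟩
        rw [show (⟨_, _⟩ : R) = r⁻¹ * ⟨_, hmem q⟩ * r from Subtype.ext e, map_mul, map_mul, map_inv,
          mul_comm _ (φ r), mul_inv_cancel_left]
        exact hq
      · rintro ⟨⟨q, hq⟩, r⟩ ⟨⟨q', hq'⟩, r'⟩ h
        have h' : q.1.out * (r : G) = q'.1.out * (r' : G) := congrArg Subtype.val h
        have hqq : q = q' := by
          apply Subtype.ext
          have := congrArg (QuotientGroup.mk (s := R)) h'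
          rwa [QuotientGroup.mk_mul_of_mem _ r.2, QuotientGroup.mk_mul_of_mem _ r'.2,
            QuotientGroup.out_eq', QuotientGroup.out_eq'] at this
        subst hqq
        have hrr : r = r' := Subtype.ext (mul_left_cancel h')
        subst hrr
        rfl
      · rintro ⟨g, hg, hgv⟩
        have hfix : x • (g : G ⧸ R) = g := by
          rw [MulAction.Quotient.smul_mk, QuotientGroup.eq]
          have := inv_mem hg
          simpa [mul_assoc] using this
        obtain ⟨r, hr⟩ := QuotientGroup.mk_out_eq_mul R g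
        refine ⟨(⟨⟨_, hfix⟩, ?_⟩, r⁻¹), Subtype.ext (by simp [hr])⟩
        show φ ⟨_, hmem ⟨_, hfix⟩⟩ = v
        rw [show (⟨_, hmem ⟨_, hfix⟩⟩ : R) = r⁻¹ * ⟨_, hg⟩ * r from
          Subtype.ext (by simp [hr, mul_assoc]), map_mul, map_mul, map_inv, mul_comm _ (φ r),
          mul_inv_cancel_left]
        exact hgv
    rw [hsrc, hcos, hR] at hcount
    have : Nat.card D * ((Finset.univ.filter fun q => val q = v).card * 9) = Nat.card D * Nat.card C := by
      rw [← hcount]; ring
    exact Nat.eq_of_mul_eq_mul_left hD0 this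
  obtain ⟨c, hc⟩ := h9
  have hfib' : ∀ v ∈ S, (Finset.univ.filter fun q => val q = v).card = c := fun v hv => by
    have := hfib v hv
    omega
  have hN : Nat.card {q : G ⧸ R // x • q = q} = S.card * c := by
    rw [Nat.card_eq_fintype_card, ← Finset.card_univ,
      Finset.card_eq_sum_card_fiberwise (f := val) (t := S) (fun q _ => hval_mem q),
      Finset.sum_congr rfl hfib', Finset.sum_const, smul_eq_mul]
  have hmod : ¬ 3 ∣ S.card * c := by
    rw [← hN]
    intro hdiv
    have hz : IsPGroup 3 (Subgroup.zpowers x) := IsPGroup.of_card (p := 3) (n := 1)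
      (by rw [Nat.card_zpowers, hx, pow_one])
    have hfp := hz.card_modEq_card_fixedPoints (G ⧸ R)
    have e : Nat.card (MulAction.fixedPoints (Subgroup.zpowers x) (G ⧸ R)) =
        Nat.card {q : G ⧸ R // x • q = q} := by
      refine Nat.card_congr (Equiv.subtypeEquivRight fun q => ?_)
      refine ⟨fun h => h ⟨x, Subgroup.mem_zpowers x⟩, fun h y => ?_⟩
      obtain ⟨i, hi⟩ := y.2
      show (y : G) • q = q
      rw [← hi]
      exact (MulAction.stabilizer G q).zpow_mem h i
    rw [e, ← Subgroup.index_eq_card] at hfp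
    exact P.not_dvd_index (Nat.modEq_zero_iff_dvd.1 (hfp.trans (Nat.modEq_zero_iff_dvd.2 hdiv)))
  have hprod : MonoidHom.transfer φ x = (∏ v ∈ S, v) ^ c := by
    rw [transfer_eq_prod_fixed φ hx, ← Finset.prod_fiberwise_of_maps_to (g := val) (t := S)
      (fun q _ => hval_mem q), ← Finset.prod_pow]
    refine Finset.prod_congr rfl fun v hv => ?_
    rw [Finset.prod_congr rfl (fun q hq => (show val q = v from (Finset.mem_filter.1 hq).2)),
      Finset.prod_const, hfib' v hv]
  have hV : MonoidHom.transfer φ x = 1 := by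
    have h : commutator G ≤ (MonoidHom.transfer φ).ker := Abelianization.commutator_subset_ker _
    exact h (hperf ▸ Subgroup.mem_top x)
  rw [hprod] at hV
  refine prod_ne_one_of_no_inverse_pair (by rw [← Nat.card_eq_fintype_card, hA, hidx]) S hS3 hS1 hSinv
    (fun h => hmod (dvd_mul_of_dvd_left h c)) ?_
  rw [← orderOf_eq_one_iff]
  refine Nat.eq_one_of_dvd_coprimes ((Nat.prime_three.coprime_iff_not_dvd).2
    (fun h => hmod (dvd_mul_of_dvd_right h _))) ?_ (orderOf_dvd_of_pow_eq_one hV)
  refine orderOf_dvd_of_pow_eq_one ?_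
  rw [← Finset.prod_pow]
  exact Finset.prod_eq_one hS3

end CfsgLib.SylL34
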