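import Cfsg.Agent.Lib.SylLThreeFour.CaseLLLocal
import Cfsg.Agent.Lib.SylLThreeFour.ThreeTransfer
import Cfsg.Agent.Lib.InvChar.SimpleInvol
import Cfsg.Agent.Lib.Invol.Strong
import Cfsg.Agent.Lib.Transfer.Frobenius

/-!
Two subgroups of order 16 with transitive normalizers and Sylow normalizing involution centralizers:
in a simple group the centralizer of an involution is the Sylow subgroup.
-/

set_option autoImplicit false
set_option linter.unusedSectionVars false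

namespace CfsgLib.SylL34

open Subgroup CfsgLib.Recog.LThreeFour CfsgLib.Invol

universe u

variable {G : Type u} [Group G]

/-- A three-element coset of a four-group's normalizer: no 3-group of order 27. -/
theorem not_twentyseven_dvd {K : Type u} [Group K] [Finite K] (H D : Subgroup K) (hD : D ≤ H)
    (hDp : IsPGroup 3 D) (hDc : Nat.card D ≤ 9) (heven : Even (Nat.card H))
    (hTI : ∀ x ∈ H, orderOf x = 2 → ∀ y : K, y * x * y⁻¹ ∈ H → y ∈ H)
    (hX : ∀ X : Subgroup K, X ≤ H → Odd (Nat.card X) → D ≤ X → X ≤ D)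
    (hN : ∀ k ∈ H, k ∈ normalizer (D : Set K) → k ∈ D) : ¬ 27 ∣ Nat.card K := by
  classical
  have : Fact (Nat.Prime 3) := ⟨Nat.prime_three⟩
  intro h27
  obtain ⟨R, hR⟩ := hDp.exists_le_sylow
  have h27' : 27 ∣ Nat.card (R : Subgroup K) :=
    R.pow_dvd_card_of_pow_dvd_card (n := 3) (by simpa using h27)
  have hlt : D < (R : Subgroup K) := lt_of_le_of_ne hR fun e => by
    have := Nat.le_of_dvd Nat.card_pos h27'
    rw [← e] at this
    omega
  obtain ⟨g, hgR, hgN, hgD⟩ := CfsgLib.Transfer.exists_mem_normalizer_not_mem R.2 hlt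
  have hgH : g ∉ H := fun e => hgD (hN g e hgN)
  have hSE : Cfsg.IsStronglyEmbedded H := by
    refine ⟨fun e => hgH (e ▸ mem_top g), heven, fun y hy => ?_⟩
    rw [← Nat.not_even_iff_odd]
    intro he
    obtain ⟨x, hxm, hx⟩ := exists_invol_mem (H := H ⊓ H.map (MulAut.conj y).toMonoidHom) he
    obtain ⟨hxH, w, hw, hwx⟩ := mem_inf.1 hxm
    have hwx' : y * w * y⁻¹ = x := hwx
    have hw2 : orderOf w = 2 := by rw [← orderOf_conj_eq y w, hwx', hx]
    exact hy (hTI w hw hw2 y (hwx'.symm ▸ hxH))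
  have hxy : ((1 : K) : K ⧸ H) ≠ (g : K ⧸ H) := fun e => hgH (by
    simpa using QuotientGroup.eq.1 e)
  obtain ⟨u, hu, hue⟩ := se_swap_exists hSE hxy
  rw [MulAction.Quotient.smul_coe, smul_eq_mul, mul_one, eq_comm, QuotientGroup.eq] at hue
  have huH : u ∉ H := fun e => hgH (by
    have := mul_mem e (inv_mem hue)
    rwa [show u * (g⁻¹ * u)⁻¹ = g by group] at this)
  set X := H ⊓ H.map (MulAut.conj u).toMonoidHom
  have hXodd : Odd (Nat.card X) := hSE.2.2 u huH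
  have huu := invol_mul_self hu
  have hDX : D ≤ X := fun d hd => by
    refine mem_inf.2 ⟨hD hd, ⟨u⁻¹ * d * u, ?_, by simp [mul_assoc]⟩⟩
    have h1 : g⁻¹ * d * g ∈ D := by
      have := (mem_normalizer_iff.1 (inv_mem hgN) d).1 hd
      rwa [inv_inv] at this
    have := mul_mem (mul_mem (inv_mem hue) (hD h1)) hue
    rwa [show (g⁻¹ * u)⁻¹ * (g⁻¹ * d * g) * (g⁻¹ * u) = u⁻¹ * d * u by group] at this
  have hXD : X = D := le_antisymm (hX X inf_le_left hXodd hDX) hDX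
  have hinv : ∀ x ∈ X, u * x * u⁻¹ ∈ X := fun x hx => by
    obtain ⟨hxH, w, hw, hwx⟩ := mem_inf.1 hx
    refine mem_inf.2 ⟨?_, ⟨x, hxH, rfl⟩⟩
    rw [← show u * w * u⁻¹ = x from hwx, invol_inv hu,
      show u * (u * w * u) * u = (u * u) * w * (u * u) by group, huu, one_mul, mul_one]
    exact hw
  have huN : u ∈ normalizer (D : Set K) := by
    rw [← hXD]
    refine mem_normalizer_iff.2 fun x => ⟨hinv x, fun hx => ?_⟩
    have := hinv _ hx
    rwa [invol_inv hu, show u * (u * x * u) * u = (u * u) * x * (u * u) by group, huu, one_mul,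
      mul_one] at this
  have hDk : g⁻¹ * u ∈ D := hN _ hue (mul_mem (inv_mem hgN) huN)
  have huR : u ∈ (R : Subgroup K) := by
    have := mul_mem hgR (hR hDk)
    rwa [mul_inv_cancel_left] at this
  obtain ⟨k, hk⟩ := IsPGroup.iff_orderOf.1 R.2 ⟨u, huR⟩
  rw [Subgroup.orderOf_mk, hu] at hk
  have := (Nat.prime_two.dvd_of_dvd_pow ⟨1, by rw [← hk]⟩ : 2 ∣ 3)
  norm_num at this

namespace Shape

variable {S A B Z : Subgroup G} (h : Shape S A B Z)
include h

/-- The four elements of `Z`. -/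
theorem Z_cases {z y : G} (hz : z ∈ Z) (hz1 : z ≠ 1) (hy : y ∈ Z) (hy1 : y ≠ 1) (hne : y ≠ z)
    {w : G} (hw : w ∈ Z) : w = 1 ∨ w = z ∨ w = y ∨ w = z * y := by
  classical
  have hfin : Finite Z := Nat.finite_of_card_ne_zero (by rw [h.cardZ]; norm_num)
  have : Fintype Z := Fintype.ofFinite _
  have hzy : z * y ≠ 1 := fun e => hne (by rw [← h.eZ hz] at e; exact mul_left_cancel e)
  let t : Finset Z := {1, ⟨z, hz⟩, ⟨y, hy⟩, ⟨z * y, mul_mem hz hy⟩}
  have ht : t.card = 4 := by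
    rw [Finset.card_eq_four.2]
    exact ⟨_, _, _, _, by simp [Subtype.ext_iff, Ne.symm hz1], by simp [Subtype.ext_iff, Ne.symm hy1],
      by simp [Subtype.ext_iff, Ne.symm hzy], by simp [Subtype.ext_iff, Ne.symm hne],
      by simp [Subtype.ext_iff, hy1], by simp [Subtype.ext_iff, hz1], rfl⟩
  have hm : (⟨w, hw⟩ : Z) ∈ t := by
    rw [Finset.eq_univ_of_card t (by rw [ht, ← Nat.card_eq_fintype_card, h.cardZ])]
    exact Finset.mem_univ _
  simpa [t, Subtype.ext_iff] using hm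

theorem exists_Z_other {z : G} (hz : z ∈ Z) : ∃ y ∈ Z, y ≠ 1 ∧ y ≠ z := by
  by_contra hc
  push Not at hc
  have hle : Z ≤ zpowers z := fun y hy => by
    by_cases hy1 : y = 1
    · exact hy1 ▸ one_mem _
    · exact (hc y hy hy1) ▸ mem_zpowers z
  have h1 := Subgroup.card_dvd_of_le hle
  rw [h.cardZ, Nat.card_zpowers] at h1
  have h2 : orderOf z ∣ 2 := orderOf_dvd_of_pow_eq_one (by rw [pow_two, h.eZ hz])
  have := Nat.le_of_dvd (by norm_num) (h1.trans h2)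
  omega

/-- An element permuting the involutions of `Z` fixes one or has cube fixing each. -/
theorem perm_cases {n z : G} (hn : n ∈ normalizer (Z : Set G)) (hz : z ∈ Z) (hz1 : z ≠ 1) :
    (∃ y ∈ Z, y ≠ 1 ∧ n * y * n⁻¹ = y) ∨
      (n * z * n⁻¹ ≠ z ∧ n ^ 2 * z * (n ^ 2)⁻¹ = z * (n * z * n⁻¹) ∧
        n ^ 3 * z * (n ^ 3)⁻¹ = z) := by
  set z₁ := n * z * n⁻¹ with hz₁
  by_cases e : z₁ = z
  · exact Or.inl ⟨z, hz, hz1, e⟩
  have hz₁Z : z₁ ∈ Z := conj_mem_of_normalizer hn hz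
  have hz₁1 : z₁ ≠ 1 := fun e' => hz1 (conj_eq_one_iff.1 e')
  have hcm : z₁ * z = z * z₁ := h.cen z₁ hz₁Z z (h.hZS hz)
  have h2 : n ^ 2 * z * (n ^ 2)⁻¹ = n * z₁ * n⁻¹ := by rw [hz₁, pow_two]; group
  rcases h.Z_cases hz hz1 hz₁Z hz₁1 e (conj_mem_of_normalizer hn hz₁Z) with e' | e' | e' | e'
  · exact absurd (conj_eq_one_iff.1 e') hz₁1
  · refine Or.inl ⟨z * z₁, mul_mem hz hz₁Z, fun e'' => e (by
      rw [← h.eZ hz] at e''; exact mul_left_cancel e''), ?_⟩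
    rw [show n * (z * z₁) * n⁻¹ = (n * z * n⁻¹) * (n * z₁ * n⁻¹) by group, e', ← hz₁, hcm]
  · exact absurd (mul_left_cancel (mul_right_cancel (e'.trans hz₁))) e
  · refine Or.inr ⟨e, h2.trans e', ?_⟩
    rw [show n ^ 3 * z * (n ^ 3)⁻¹ = n * (n * z₁ * n⁻¹) * n⁻¹ by rw [hz₁, pow_succ, pow_two]; group,
      e', show n * (z * z₁) * n⁻¹ = (n * z * n⁻¹) * (n * z₁ * n⁻¹) by group, e', ← hz₁,
      ← mul_assoc, hcm, mul_assoc, h.eZ hz₁Z, mul_one]

end Shape

/-- The hypotheses of the strongly local situation. -/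
structure Local (P : Sylow 2 G) (Z : Subgroup G) : Prop where
  cent : ∀ z ∈ Z, z ≠ 1 → centralizer ({z} : Set G) ≤ normalizer ((P : Subgroup G) : Set G)
  cenP : centralizer ((P : Subgroup G) : Set G) ≤ Z

variable [Finite G] {P : Sylow 2 G} {A B Z : Subgroup G}

namespace Shape

variable (h : Shape (P : Subgroup G) A B Z) (hL : Local P Z)
include h hL

/-- An element fixing one involution of `Z` centralizes `Z`. -/
theorem fix_all {n z : G} (hz : z ∈ Z) (hz1 : z ≠ 1) (hn : n * z * n⁻¹ = z) {y : G} (hy : y ∈ Z) :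
    n * y = y * n :=
  have hn' : n * z = z * n := mul_inv_eq_iff_eq_mul.1 hn
  h.normalizer_fix_Z (hL.cent z hz hz1 (mem_centralizer_singleton_iff.2 hn')) hz hz1 hn' hy

theorem mem_cent_of_fix {n y z : G} (hy : y ∈ Z) (hy1 : y ≠ 1) (hn : n * y * n⁻¹ = y) (hz : z ∈ Z) :
    n ∈ centralizer ({z} : Set G) :=
  mem_centralizer_singleton_iff.2 (h.fix_all hL hy hy1 hn hz)

/-- A 2-element normalizing `Z` lies in the Sylow subgroup. -/
theorem two_elem_mem_sylow {t : G} {k : ℕ} (ht : t ∈ normalizer (Z : Set G)) (hk : t ^ 2 ^ k = 1) :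
    t ∈ (P : Subgroup G) := by
  obtain ⟨z, hz, hz1⟩ := h.exists_Z_ne_one
  refine mem_sylow_of_normalizes P (hL.cent z hz hz1 ?_) hk
  rcases h.perm_cases ht hz hz1 with ⟨y, hy, hy1, e⟩ | ⟨-, -, e⟩
  · exact h.mem_cent_of_fix hL hy hy1 e hz
  · have hc : Nat.Coprime 3 (orderOf t) :=
      ((by norm_num : Nat.Coprime 3 2).pow_right k).coprime_dvd_right (orderOf_dvd_of_pow_eq_one hk)
    obtain ⟨m, hm⟩ := exists_pow_eq_self_of_coprime hc
    rw [← hm]
    exact pow_mem (mem_centralizer_singleton_iff.2 (mul_inv_eq_iff_eq_mul.1 e)) m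

/-- An element of odd order normalizing `P`, centralizing `Z` and fixing a coset of `Z` in `A`
is trivial. -/
theorem eq_one_of_fixes {e a : G} (hodd : Odd (orderOf e))
    (hen : e ∈ normalizer ((P : Subgroup G) : Set G)) (hcZ : ∀ y ∈ Z, e * y = y * e) (ha : a ∈ A)
    (haZ : a ∉ Z) (hfix : Fixes Z e a) : e = 1 := by
  have hA := h.normalizer_le_A hen
  have hB := h.symm.normalizer_le_A hen
  have hcA : ∀ x ∈ A, e * x = x * e := fun x hx =>
    h.cent_of_fixes hodd hA hcZ hx (h.fix_coset hodd hA (h.normalizer_le_Z hen) ha haZ hfix hx)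
  have hcB : ∀ x ∈ B, e * x = x * e := fun x hx =>
    h.symm.cent_of_fixes hodd hB hcZ hx (h.fix_other hB hcZ ha haZ hfix hx)
  have heP : e ∈ centralizer ((P : Subgroup G) : Set G) := mem_centralizer_iff.2 fun s hs => by
    obtain ⟨x, hx, y, hy, rfl⟩ := h.exists_mul hs
    rw [mul_assoc, ← hcB y hy, ← mul_assoc, ← hcA x hx, mul_assoc]
  exact eq_one_of_sq_of_odd (h.eZ (hL.cenP heP)) hodd

/-- Odd elements centralizing an involution of `Z` have order dividing 3. -/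
theorem cube_eq_one {e z : G} (hz : z ∈ Z) (hz1 : z ≠ 1) (hodd : Odd (orderOf e))
    (he : e ∈ centralizer ({z} : Set G)) : e ^ 3 = 1 := by
  have hen := hL.cent z hz hz1 he
  have hcZ : ∀ y ∈ Z, e * y = y * e := fun y hy =>
    h.normalizer_fix_Z hen hz hz1 (mem_centralizer_singleton_iff.1 he) hy
  obtain ⟨a, ha, haZ⟩ := h.exists_A_not_Z
  set a₁ := e * a * e⁻¹ with ha₁
  have hA := h.normalizer_le_A hen
  have ha₁A : a₁ ∈ A := conj_mem_of_normalizer hA ha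
  have hZn : e ∈ normalizer (Z : Set G) := h.normalizer_le_Z hen
  by_cases h1 : a⁻¹ * a₁ ∈ Z
  · rw [h.eq_one_of_fixes hL hodd hen hcZ ha haZ h1, one_pow]
  have hconj : ∀ {x : G}, e * x * e⁻¹ ∈ Z → x ∈ Z := fun {x} hx => by
    have := conj_mem_of_normalizer (inv_mem hZn) hx
    rwa [show e⁻¹ * (e * x * e⁻¹) * e⁻¹⁻¹ = x by group] at this
  have ha₁Z : a₁ ∉ Z := fun hx => haZ (hconj hx)
  have hpow : ∀ m : ℕ, Odd (orderOf (e ^ m)) := fun m => hodd.of_dvd_nat (orderOf_pow_dvd m)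
  have hcm : ∀ m : ℕ, ∀ y ∈ Z, e ^ m * y = y * e ^ m := fun m y hy =>
    (Commute.pow_left (hcZ y hy) m).eq
  rcases h.cosets ha haZ ha₁A ha₁Z h1 (conj_mem_of_normalizer hA ha₁A) with e' | e' | e' | e'
  · exact absurd (hconj e') ha₁Z
  · have hf : Fixes Z (e ^ 2) a := by
      show a⁻¹ * (e ^ 2 * a * (e ^ 2)⁻¹) ∈ Z
      rw [show e ^ 2 * a * (e ^ 2)⁻¹ = e * a₁ * e⁻¹ by rw [ha₁, pow_two]; group]
      exact e'
    have h2 := h.eq_one_of_fixes hL (hpow 2) (pow_mem hen 2) (hcm 2) ha haZ hf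
    rw [pow_two] at h2
    rw [eq_one_of_sq_of_odd h2 hodd, one_pow]
  · exfalso
    refine h1 (hconj ?_)
    rwa [show e * (a⁻¹ * a₁) * e⁻¹ = a₁⁻¹ * (e * a₁ * e⁻¹) by rw [ha₁]; group]
  · refine h.eq_one_of_fixes hL (hpow 3) (pow_mem hen 3) (hcm 3) ha haZ ?_
    show a⁻¹ * (e ^ 3 * a * (e ^ 3)⁻¹) ∈ Z
    set c := (a * a₁)⁻¹ * (e * a₁ * e⁻¹) with hc
    have h3 : e ^ 3 * a * (e ^ 3)⁻¹ = a * (c * c) := by
      calc e ^ 3 * a * (e ^ 3)⁻¹ = e * (e * a₁ * e⁻¹) * e⁻¹ := by rw [ha₁, pow_succ, pow_two]; group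
        _ = e * (a * a₁ * c) * e⁻¹ := by rw [hc, mul_inv_cancel_left]
        _ = a₁ * (e * a₁ * e⁻¹) * (e * c * e⁻¹) := by rw [ha₁]; group
        _ = a₁ * (a * a₁ * c) * c := by
          rw [hcZ c e', mul_inv_cancel_right, hc, mul_inv_cancel_left]
        _ = a * (c * c) := by
          rw [show a * a₁ = a₁ * a from comm_of_sq h.eA ha ha₁A,
            show a₁ * (a₁ * a * c) * c = a₁ * a₁ * a * (c * c) by group, h.eA a₁ ha₁A, one_mul]
    rw [h3, inv_mul_cancel_left]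
    exact mul_mem e' e'

/-- The commuting part in the Sylow subgroup of a nontrivial odd element centralizing `Z`. -/
theorem comm_mem_Z {r s z : G} (hz : z ∈ Z) (hz1 : z ≠ 1) (hr : Odd (orderOf r)) (hr1 : r ≠ 1)
    (hrz : r ∈ centralizer ({z} : Set G)) (hs : s ∈ (P : Subgroup G)) (hrs : r * s = s * r) :
    s ∈ Z := by
  have hrn := hL.cent z hz hz1 hrz
  have hcZ : ∀ y ∈ Z, r * y = y * r := fun y hy =>
    h.normalizer_fix_Z hrn hz hz1 (mem_centralizer_singleton_iff.1 hrz) hy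
  obtain ⟨a, ha, b, hb, rfl⟩ := h.exists_mul hs
  obtain ⟨hfa, hfb⟩ := h.fixes_split (h.normalizer_le_A hrn) (h.symm.normalizer_le_A hrn) ha hb
    (show Fixes Z r (a * b) from (by
      rw [show (a * b)⁻¹ * (r * (a * b) * r⁻¹) = 1 by rw [hrs]; group]; exact one_mem _ :
        (a * b)⁻¹ * (r * (a * b) * r⁻¹) ∈ Z))
  refine mul_mem (by_contra fun haZ => hr1 (h.eq_one_of_fixes hL hr hrn hcZ ha haZ hfa))
    (by_contra fun hbZ => hr1 (h.symm.eq_one_of_fixes ?_ hr hrn hcZ hb hbZ hfb))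
  exact hL

/-- The odd elements centralizing an involution of `Z` generate one subgroup of order three
modulo the Sylow subgroup. -/
theorem cent_decomp {r x z : G} (hz : z ∈ Z) (hz1 : z ≠ 1) (hr : Odd (orderOf r)) (hr1 : r ≠ 1)
    (hrz : r ∈ centralizer ({z} : Set G)) (hx : x ∈ centralizer ({z} : Set G)) :
    ∃ j < 3, (r ^ j)⁻¹ * x ∈ (P : Subgroup G) := by
  have hrn := hL.cent z hz hz1 hrz
  obtain ⟨s, hs, e, -, hen, hodd, rfl⟩ := exists_odd_part P (hL.cent z hz hz1 hx)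
  have hez : e ∈ centralizer ({z} : Set G) := (mul_mem_cancel_left (h.le_cent_Z hz hs)).1 hx
  have hcZ : ∀ {g : G}, g ∈ centralizer ({z} : Set G) → ∀ y ∈ Z, g * y = y * g := fun {g} hg y hy =>
    h.normalizer_fix_Z (hL.cent z hz hz1 hg) hz hz1 (mem_centralizer_singleton_iff.1 hg) hy
  obtain ⟨a, ha, haZ⟩ := h.exists_A_not_Z
  -- some power of `r` moves the coset of `a` to its image under `e`
  obtain ⟨j, hj, hfix⟩ : ∃ j < 3, Fixes Z ((r ^ j)⁻¹ * e) a := by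
    set a₁ := r * a * r⁻¹ with ha₁
    have hrA := h.normalizer_le_A hrn
    have ha₁A : a₁ ∈ A := conj_mem_of_normalizer hrA ha
    have h1 : a⁻¹ * a₁ ∉ Z := fun hc => hr1 (h.eq_one_of_fixes hL hr hrn (hcZ hrz) ha haZ hc)
    have hconj : ∀ {g : G}, g ∈ centralizer ({z} : Set G) → ∀ {x : G}, g * x * g⁻¹ ∈ Z → x ∈ Z :=
      fun {g} hg {x} hx => by
        have := conj_mem_of_normalizer (inv_mem (h.normalizer_le_Z (hL.cent z hz hz1 hg))) hx
        rwa [show g⁻¹ * (g * x * g⁻¹) * g⁻¹⁻¹ = x by group] at this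
    have ha₁Z : a₁ ∉ Z := fun hc => haZ (hconj hrz hc)
    set w := e * a * e⁻¹ with hw
    have hwA : w ∈ A := conj_mem_of_normalizer (h.normalizer_le_A hen) ha
    have r3 : r ^ 3 = 1 := h.cube_eq_one hL hz hz1 hr hrz
    have key : ∀ j : ℕ, (r ^ j * a * (r ^ j)⁻¹)⁻¹ * w ∈ Z → Fixes Z ((r ^ j)⁻¹ * e) a := by
      intro j hjw
      show a⁻¹ * ((r ^ j)⁻¹ * e * a * ((r ^ j)⁻¹ * e)⁻¹) ∈ Z
      rw [show a⁻¹ * ((r ^ j)⁻¹ * e * a * ((r ^ j)⁻¹ * e)⁻¹) =
        (r ^ j)⁻¹ * ((r ^ j * a * (r ^ j)⁻¹)⁻¹ * w) * (r ^ j)⁻¹⁻¹ by rw [hw]; group]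
      exact conj_mem_of_normalizer (inv_mem (pow_mem (h.normalizer_le_Z hrn) j)) hjw
    rcases h.cosets ha haZ ha₁A ha₁Z h1 hwA with e' | e' | e' | e'
    · exact absurd (hconj hez e') haZ
    · exact ⟨0, by norm_num, key 0 (by simpa using e')⟩
    · exact ⟨1, by norm_num, key 1 (by simpa [ha₁] using e')⟩
    · refine ⟨2, by norm_num, key 2 ?_⟩
      -- the third coset
      have ha₂A : r * a₁ * r⁻¹ ∈ A := conj_mem_of_normalizer hrA ha₁A
      have h2 : (a * a₁)⁻¹ * (r * a₁ * r⁻¹) ∈ Z := by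
        rcases h.cosets ha haZ ha₁A ha₁Z h1 ha₂A with e'' | e'' | e'' | e''
        · exact absurd (hconj hrz e'') ha₁Z
        · exfalso
          have h2 := h.eq_one_of_fixes hL (hr.of_dvd_nat (orderOf_pow_dvd 2)) (pow_mem hrn 2)
            (hcZ (pow_mem hrz 2)) ha haZ (show a⁻¹ * (r ^ 2 * a * (r ^ 2)⁻¹) ∈ Z by
              rwa [show r ^ 2 * a * (r ^ 2)⁻¹ = r * a₁ * r⁻¹ by rw [ha₁, pow_two]; group])
          rw [pow_two] at h2
          exact hr1 (eq_one_of_sq_of_odd h2 hr)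
        · exfalso
          refine h1 (hconj hrz ?_)
          rwa [show r * (a⁻¹ * a₁) * r⁻¹ = a₁⁻¹ * (r * a₁ * r⁻¹) by rw [ha₁]; group]
        · exact e''
      rw [show r ^ 2 * a * (r ^ 2)⁻¹ = r * a₁ * r⁻¹ by rw [ha₁, pow_two]; group,
        show (r * a₁ * r⁻¹)⁻¹ * w = ((a * a₁)⁻¹ * (r * a₁ * r⁻¹))⁻¹ * ((a * a₁)⁻¹ * w) by group]
      exact mul_mem (inv_mem h2) e'
  refine ⟨j, hj, ?_⟩
  have hy : (r ^ j)⁻¹ * e ∈ centralizer ({z} : Set G) := mul_mem (inv_mem (pow_mem hrz j)) hez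
  have hyn := hL.cent z hz hz1 hy
  have hyP : (r ^ j)⁻¹ * e ∈ (P : Subgroup G) := by
    obtain ⟨s', hs', e₂, he₂, he₂n, he₂o, he₂e⟩ := exists_odd_part P hyn
    obtain ⟨m, hm⟩ := mem_powers_iff_mem_zpowers.2 he₂
    have hm' : ((r ^ j)⁻¹ * e) ^ m = e₂ := hm
    have hf := Fixes.pow (h.normalizer_le_Z hyn) hfix m
    rw [hm'] at hf
    have he₂1 := h.eq_one_of_fixes hL he₂o he₂n
      (hcZ (hm' ▸ pow_mem hy m)) ha haZ hf
    rw [he₂e, he₂1, mul_one]
    exact hs'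
  rw [show (r ^ j)⁻¹ * (s * e) = ((r ^ j)⁻¹ * s * ((r ^ j)⁻¹)⁻¹) * ((r ^ j)⁻¹ * e) by group]
  exact mul_mem (conj_mem_of_normalizer (inv_mem (pow_mem hrn j)) hs) hyP

/-- An element commuting with `r` and fixing an involution of `Z`. -/
theorem cent_pair {r x z : G} (hz : z ∈ Z) (hz1 : z ≠ 1) (hr : Odd (orderOf r)) (hr1 : r ≠ 1)
    (hrz : r ∈ centralizer ({z} : Set G)) (hx : x ∈ centralizer ({z} : Set G))
    (hxr : r * x = x * r) : ∃ j : ℕ, ∃ w ∈ Z, x = r ^ j * w := by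
  obtain ⟨j, -, hj⟩ := h.cent_decomp hL hz hz1 hr hr1 hrz hx
  refine ⟨j, _, h.comm_mem_Z hL hz hz1 hr hr1 hrz hj ?_, by rw [mul_inv_cancel_left]⟩
  exact (((Commute.refl r).pow_right j).inv_right.mul_right hxr).eq

/-- An odd element commuting with `r` and fixing an involution of `Z` is a power of `r`. -/
theorem cent_pair_odd {r x z : G} (hz : z ∈ Z) (hz1 : z ≠ 1) (hr : Odd (orderOf r)) (hr1 : r ≠ 1)
    (hrz : r ∈ centralizer ({z} : Set G)) (hx : x ∈ centralizer ({z} : Set G))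
    (hxr : r * x = x * r) (hodd : Odd (orderOf x)) : x ∈ zpowers r := by
  obtain ⟨j, w, hw, rfl⟩ := h.cent_pair hL hz hz1 hr hr1 hrz hx hxr
  have hwodd : Odd (orderOf w) := by
    have hc : Commute (r ^ j) w := Commute.pow_left
      (h.normalizer_fix_Z (hL.cent z hz hz1 hrz) hz hz1 (mem_centralizer_singleton_iff.1 hrz) hw) j
    have : w = (r ^ j)⁻¹ * (r ^ j * w) := by group
    rw [this]
    exact (Odd.mul ((hr.of_dvd_nat (orderOf_pow_dvd j)).of_dvd_nat (by rw [orderOf_inv])) hodd).of_dvd_nat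
      ((((Commute.refl (r ^ j)).mul_right hc).inv_left).orderOf_mul_dvd_mul_orderOf)
  rw [eq_one_of_sq_of_odd (h.eZ hw) hwodd, mul_one]
  exact pow_mem (mem_zpowers r) j

/-- A mover is transitive on the involutions of `Z`. -/
theorem exists_pow_conj {t z w : G} (hz : z ∈ Z) (hz1 : z ≠ 1) (ht : t ∈ normalizer (Z : Set G))
    (htz : ∀ y ∈ Z, y ≠ 1 → t * y * t⁻¹ ≠ y) (hw : w ∈ Z) (hw1 : w ≠ 1) :
    ∃ i : ℕ, t ^ i * z * (t ^ i)⁻¹ = w := by
  rcases h.perm_cases ht hz hz1 with ⟨y, hy, hy1, e⟩ | ⟨hne, h2, -⟩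
  · exact absurd e (htz y hy hy1)
  rcases h.Z_cases hz hz1 (conj_mem_of_normalizer ht hz) (fun e => hz1 (conj_eq_one_iff.1 e)) hne hw
    with e | e | e | e
  · exact absurd e hw1
  · exact ⟨0, by simp [e]⟩
  · exact ⟨1, by simp [e]⟩
  · exact ⟨2, h2.trans e.symm⟩

/-- A simple group has an element of the normalizer of the Sylow subgroup moving an involution
of `Z`. -/
theorem exists_mover [IsSimpleGroup G] (hna : ¬ IsMulCommutative G) :
    ∃ n ∈ normalizer ((P : Subgroup G) : Set G), ∀ y ∈ Z, y ≠ 1 → n * y * n⁻¹ ≠ y := by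
  obtain ⟨z, hz, hz1⟩ := h.exists_Z_ne_one
  suffices ∃ g : G, g * z * g⁻¹ ∈ Z ∧ g * z * g⁻¹ ≠ z by
    obtain ⟨g, hg, hne⟩ := this
    obtain ⟨n, hn, e⟩ := h.conj_Z hz hg
    refine ⟨n, hn, fun y hy hy1 hfix => hne ?_⟩
    rw [← e, h.fix_all hL hy hy1 hfix hz, mul_inv_cancel_right]
  obtain ⟨v, hv, hvP, hvz⟩ := CfsgLib.InvChar.exists_other_conj_mem_sylow hna P
    (invol_of_mul_self (h.eZ hz) hz1) (h.hZS hz)
  obtain ⟨g, rfl⟩ := isConj_iff.1 hv
  by_cases hvZ : g * z * g⁻¹ ∈ Z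
  · exact ⟨g, hvZ, hvz⟩
  have h2 : g * z * g⁻¹ * (g * z * g⁻¹) = 1 := by
    rw [show g * z * g⁻¹ * (g * z * g⁻¹) = g * (z * z) * g⁻¹ by group, h.eZ hz]; group
  have key : ∀ {A B : Subgroup G}, Shape (P : Subgroup G) A B Z → g * z * g⁻¹ ∈ A →
      ∃ k : G, k * z * k⁻¹ ∈ Z ∧ k * z * k⁻¹ ≠ z := by
    intro A B h' hA
    obtain ⟨n, hn, e⟩ := h'.conj_normalizer (h'.hZA hz) hA
    have hLT : LType A := h'.sType_or_lType.resolve_left fun hS =>
      hvZ (e ▸ conj_mem_of_normalizer (hS hn) hz)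
    obtain ⟨y, hy, hy1, hyz⟩ := h'.exists_Z_other hz
    obtain ⟨k, -, hk⟩ := hLT z (h'.hZA hz) hz1 y (h'.hZA hy) hy1
    exact ⟨k, hk ▸ hy, hk ▸ hyz⟩
  rcases h.invol _ hvP h2 with e | e
  · exact key h e
  · exact key h.symm e

/-- An element of order three centralizing an involution of `Z` is not conjugate to its inverse. -/
theorem not_conj_inv {r z : G} (hz : z ∈ Z) (hz1 : z ≠ 1) (hr : Odd (orderOf r)) (hr1 : r ≠ 1)
    (hrz : r ∈ centralizer ({z} : Set G)) : ¬ IsConj r r⁻¹ := by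
  classical
  have := twoFact
  intro hc
  obtain ⟨g, hg⟩ := isConj_iff.1 hc
  have hrn := hL.cent z hz hz1 hrz
  have hcZ : ∀ y ∈ Z, r * y = y * r := fun y hy =>
    h.normalizer_fix_Z hrn hz hz1 (mem_centralizer_singleton_iff.1 hrz) hy
  set C := centralizer ({r} : Set G) with hC
  have hrpow : ∀ {x : G}, x ∈ C → x * r * x⁻¹ = r := fun {x} hx => by
    rw [mem_centralizer_singleton_iff.1 hx, mul_inv_cancel_right]
  have hgC : ∀ x ∈ C, g * x * g⁻¹ ∈ C := fun x hx => by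
    rw [mem_centralizer_singleton_iff] at hx ⊢
    have e : r = g * r⁻¹ * g⁻¹ := by
      rw [← conj_inv, hg, inv_inv]
    calc g * x * g⁻¹ * r = g * x * g⁻¹ * (g * r⁻¹ * g⁻¹) := by rw [← e]
      _ = g * (x * r⁻¹) * g⁻¹ := by group
      _ = g * (r⁻¹ * x) * g⁻¹ := by rw [(Commute.inv_right hx).eq]
      _ = g * r⁻¹ * g⁻¹ * (g * x * g⁻¹) := by group
      _ = r * (g * x * g⁻¹) := by rw [← e]
  have hZC : Z ≤ C := fun y hy => mem_centralizer_singleton_iff.2 (hcZ y hy).symm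
  have hgZ : cj g Z ≤ C := fun x hx => by
    have := hgC _ (hZC (mem_cj.1 hx))
    rwa [show g * (g⁻¹ * x * g) * g⁻¹ = x by group] at this
  -- `Z` is a Sylow subgroup of the centralizer
  have hZ2 : IsPGroup 2 Z := h.isPGroup.to_le h.hZS
  obtain ⟨Q, hQ⟩ := (hZ2.of_equiv (subgroupOfEquivOfLe hZC).symm).exists_le_sylow
  have hQZ : (Q : Subgroup C) = Z.subgroupOf C := by
    refine le_antisymm ?_ hQ
    by_contra hne
    obtain ⟨y, hyQ, hyN, hyZ⟩ := CfsgLib.Transfer.exists_mem_normalizer_not_mem Q.2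
      (lt_of_le_not_ge hQ hne)
    obtain ⟨k, hk⟩ := Q.2 ⟨y, hyQ⟩
    have hyn : (y : G) ∈ normalizer (Z : Set G) := mem_normalizer_iff.2 fun x => by
      constructor
      · exact fun hx => mem_subgroupOf.1 ((mem_normalizer_iff.1 hyN ⟨x, hZC hx⟩).1 hx)
      · intro hx
        have hxC : x ∈ C := by
          have := mul_mem (mul_mem (inv_mem y.2) (hZC hx)) y.2
          simpa [mul_assoc] using this
        exact mem_subgroupOf.1 ((mem_normalizer_iff.1 hyN ⟨x, hxC⟩).2 hx)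
    have hyP := h.two_elem_mem_sylow hL hyn (k := k) (by
      simpa using congrArg (fun v : (Q : Subgroup C) => ((v : C) : G)) hk)
    exact hyZ (h.comm_mem_Z hL hz hz1 hr hr1 hrz hyP (mem_centralizer_singleton_iff.1 y.2).symm)
  obtain ⟨Q', hQ'⟩ := ((show IsPGroup 2 ↥(cj g Z) from hZ2.map _).of_equiv
    (subgroupOfEquivOfLe hgZ).symm).exists_le_sylow
  obtain ⟨c, hc'⟩ := MulAction.exists_smul_eq C Q' Q
  -- an inverting element normalizing `Z`
  set t := (c : G) * g with htd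
  have htr : t * r * t⁻¹ = r⁻¹ := by
    rw [htd, show (c : G) * g * r * ((c : G) * g)⁻¹ = c * (g * r * g⁻¹) * (c : G)⁻¹ by group, hg,
      show (c : G) * r⁻¹ * (c : G)⁻¹ = (c * r * (c : G)⁻¹)⁻¹ by group, hrpow c.2]
  have htZ : t ∈ normalizer (Z : Set G) := by
    refine cj_eq_self_iff.1 (Subgroup.eq_of_le_of_card_ge ?_ (by rw [card_cj]))
    intro x hx
    rw [htd, cj_mul, mem_cj] at hx
    have : (⟨(c : G)⁻¹ * x * c, hgZ hx⟩ : C) ∈ (Q' : Subgroup C) := hQ' hx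
    have h1 : c * ⟨(c : G)⁻¹ * x * c, hgZ hx⟩ * c⁻¹ ∈ ((c • Q' : Sylow 2 C) : Subgroup C) :=
      mem_cj_of c this
    rw [hc', hQZ, mem_subgroupOf] at h1
    simpa [mul_assoc] using h1
  -- its 2-part
  obtain ⟨a, m, hm, hord⟩ := Nat.exists_eq_two_pow_mul_odd (orderOf_pos t).ne'
  have hpow : ∀ k : ℕ, Odd k → t ^ k * r * (t ^ k)⁻¹ = r⁻¹ := by
    rintro k ⟨l, rfl⟩
    induction l with
    | zero => simpa using htr
    | succ l ih =>
      rw [show 2 * (l + 1) + 1 = 2 + (2 * l + 1) by ring, pow_add,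
        show t ^ 2 * t ^ (2 * l + 1) * r * (t ^ 2 * t ^ (2 * l + 1))⁻¹ =
          t * (t * (t ^ (2 * l + 1) * r * (t ^ (2 * l + 1))⁻¹) * t⁻¹) * t⁻¹ by rw [pow_two]; group,
        ih, show t * r⁻¹ * t⁻¹ = (t * r * t⁻¹)⁻¹ by group, htr, inv_inv, htr]
  have hsP := h.two_elem_mem_sylow hL (pow_mem htZ m) (k := a) (by
    rw [← pow_mul, mul_comm, ← hord, pow_orderOf_eq_one])
  have h4 : r⁻¹ * r⁻¹ ∈ (P : Subgroup G) := by
    have := mul_mem hsP (conj_mem_of_normalizer hrn (inv_mem hsP))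
    rwa [show t ^ m * (r * (t ^ m)⁻¹ * r⁻¹) = (t ^ m * r * (t ^ m)⁻¹) * r⁻¹ by group,
      hpow m hm] at this
  obtain ⟨k, hk⟩ := P.2 ⟨_, h4⟩
  have hk' : (r⁻¹ * r⁻¹) ^ 2 ^ k = 1 := by simpa using congrArg Subtype.val hk
  have hodd' : Odd (orderOf (r⁻¹ * r⁻¹)) := by
    rw [← pow_two]; exact hr.of_dvd_nat ((orderOf_pow_dvd 2).trans (by rw [orderOf_inv]))
  have h5 : r⁻¹ * r⁻¹ = 1 := orderOf_eq_one_iff.1 (Nat.eq_one_of_dvd_coprimes
    ((hodd'.coprime_two_right).pow_right k) dvd_rfl (orderOf_dvd_of_pow_eq_one hk'))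
  exact hr1 (inv_eq_one.1 (eq_one_of_sq_of_odd h5 (by rwa [orderOf_inv])))

/-- In a simple group the centralizer of an involution of `Z` is the Sylow subgroup. -/
theorem cent_eq_sylow [IsSimpleGroup G] (hna : ¬ IsMulCommutative G) {z : G} (hz : z ∈ Z) (hz1 : z ≠ 1) :
    centralizer ({z} : Set G) = (P : Subgroup G) := by
  classical
  refine le_antisymm (fun x hx => ?_) (h.le_cent_Z hz)
  obtain ⟨s, hs, r, hrx, -, hr, rfl⟩ := exists_odd_part P (hL.cent z hz hz1 hx)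
  by_cases hr1 : r = 1
  · simpa [hr1] using hs
  exfalso
  have hrz : r ∈ centralizer ({z} : Set G) := (zpowers_le.2 hx) hrx
  have hrn := hL.cent z hz hz1 hrz
  have hcZ : ∀ y ∈ Z, r * y = y * r := fun y hy =>
    h.normalizer_fix_Z hrn hz hz1 (mem_centralizer_singleton_iff.1 hrz) hy
  have h3 : orderOf r = 3 := orderOf_eq_prime (h.cube_eq_one hL hz hz1 hr hrz) hr1
  have : Fact (Nat.Prime 3) := ⟨Nat.prime_three⟩
  set C := centralizer ({z} : Set G) with hC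
  obtain ⟨n, hn, hnm⟩ := h.exists_mover hL hna
  have hnZ := h.normalizer_le_Z hn
  -- the order of the centralizer
  have hcard : Nat.card C = 192 := by
    have h64 : 64 ∣ Nat.card C := h.cardS ▸ Subgroup.card_dvd_of_le (h.le_cent_Z hz)
    have h3' : 3 ∣ Nat.card C := h3 ▸ orderOf_dvd_natCard C hrz
    have hle : Nat.card C ≤ 192 := by
      let f : Fin 3 × (P : Subgroup G) → C := fun v =>
        ⟨r ^ (v.1 : ℕ) * v.2, mul_mem (pow_mem hrz _) (h.le_cent_Z hz v.2.2)⟩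
      have hf : Function.Surjective f := fun c => by
        obtain ⟨j, hj, hjP⟩ := h.cent_decomp hL hz hz1 hr hr1 hrz c.2
        exact ⟨⟨⟨j, hj⟩, ⟨_, hjP⟩⟩, Subtype.ext (mul_inv_cancel_left (r ^ j) (c : G))⟩
      refine (Nat.card_le_card_of_surjective f hf).trans ?_
      rw [Nat.card_prod, Nat.card_fin, h.cardS]
    exact le_antisymm hle (Nat.le_of_dvd Nat.card_pos
      (Nat.Coprime.mul_dvd_of_dvd_of_dvd (by norm_num : Nat.Coprime 64 3) h64 h3'))
  have hnC : n * r * n⁻¹ ∈ C := by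
    refine h.mem_cent_of_fix hL (conj_mem_of_normalizer hnZ hz) (fun e => hz1 (conj_eq_one_iff.1 e)) ?_ hz
    rw [show n * r * n⁻¹ * (n * z * n⁻¹) * (n * r * n⁻¹)⁻¹ = n * (r * z * r⁻¹) * n⁻¹ by group,
      hcZ z hz, mul_inv_cancel_right]
  have hfac : (192 : ℕ).factorization 3 = 1 := by
    rw [show (192 : ℕ) = 64 * 3 by norm_num,
      Nat.factorization_mul (by norm_num) (by norm_num), Finsupp.add_apply,
      Nat.factorization_eq_zero_of_not_dvd (by norm_num), Nat.prime_three.factorization_self]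
  let R₀ : Sylow 3 C := Sylow.ofCard (zpowers ⟨r, hrz⟩) (by
    rw [Nat.card_zpowers, Subgroup.orderOf_mk, h3, hcard, hfac, pow_one])
  let R₁ : Sylow 3 C := Sylow.ofCard (zpowers ⟨n * r * n⁻¹, hnC⟩) (by
    rw [Nat.card_zpowers, Subgroup.orderOf_mk, orderOf_conj_eq, h3, hcard, hfac, pow_one])
  obtain ⟨c, hc⟩ := MulAction.exists_smul_eq C R₁ R₀
  set t₀ := (c : G) * n with ht₀
  have ht₀r : t₀ * r = r * t₀ := by
    have h1 : c * ⟨n * r * n⁻¹, hnC⟩ * c⁻¹ ∈ ((c • R₁ : Sylow 3 C) : Subgroup C) :=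
      mem_cj_of c (mem_zpowers _)
    rw [hc] at h1
    obtain ⟨k, hk⟩ := mem_zpowers_iff.1 (show c * ⟨n * r * n⁻¹, hnC⟩ * c⁻¹ ∈
      zpowers (⟨r, hrz⟩ : C) from h1)
    have hk' : r ^ k = t₀ * r * t₀⁻¹ := by
      have := congrArg Subtype.val hk
      simp only [SubgroupClass.coe_zpow, Subgroup.coe_mul, Subgroup.coe_inv] at this
      rw [this, ht₀]
      group
    rw [← zpow_mod_orderOf, h3] at hk'
    have hk3 : (k % ((3 : ℕ) : ℤ)) = 0 ∨ (k % ((3 : ℕ) : ℤ)) = 1 ∨ (k % ((3 : ℕ) : ℤ)) = 2 := by omega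
    rcases hk3 with e | e | e <;> rw [e] at hk'
    · rw [zpow_zero] at hk'
      exact absurd (conj_eq_one_iff.1 hk'.symm) hr1
    · rw [zpow_one] at hk'
      exact (mul_inv_eq_iff_eq_mul.1 hk'.symm)
    · refine absurd (isConj_iff.2 ⟨t₀, ?_⟩) (h.not_conj_inv hL hz hz1 hr hr1 hrz)
      rw [← hk', eq_inv_iff_mul_eq_one, show r ^ (2 : ℤ) * r = r ^ (3 : ℕ) by group, ← h3,
        pow_orderOf_eq_one]
  have hcfix : ∀ y ∈ Z, (c : G) * y = y * c := fun y hy =>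
    h.fix_all hL hz hz1 (by rw [mem_centralizer_singleton_iff.1 c.2, mul_inv_cancel_right]) hy
  have ht₀Z : t₀ ∈ normalizer (Z : Set G) :=
    mul_mem (h.normalizer_le_Z (hL.cent z hz hz1 c.2)) hnZ
  have ht₀m : ∀ y ∈ Z, y ≠ 1 → t₀ * y * t₀⁻¹ ≠ y := fun y hy hy1 e => hnm y hy hy1 (by
    rw [show t₀ * y * t₀⁻¹ = c * (n * y * n⁻¹) * (c : G)⁻¹ by rw [ht₀]; group,
      hcfix _ (conj_mem_of_normalizer hnZ hy), mul_inv_cancel_right] at e
    exact e)
  -- its part of order a power of three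
  obtain ⟨a, m, hm, hord⟩ := Nat.exists_eq_pow_mul_and_not_dvd (orderOf_pos t₀).ne' 3 (by norm_num)
  set t := t₀ ^ m with ht
  have htZ : t ∈ normalizer (Z : Set G) := pow_mem ht₀Z m
  have htr : t * r = r * t := (Commute.pow_left ht₀r m).eq
  have ht₃z : ∀ y ∈ Z, y ≠ 1 → t₀ ^ 3 ∈ centralizer ({y} : Set G) := fun y hy hy1 => by
    rcases h.perm_cases ht₀Z hy hy1 with ⟨v, hv, hv1, e⟩ | ⟨-, -, e⟩
    · exact absurd e (ht₀m v hv hv1)
    · exact mem_centralizer_singleton_iff.2 (mul_inv_eq_iff_eq_mul.1 e)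
  have htm : ∀ y ∈ Z, y ≠ 1 → t * y * t⁻¹ ≠ y := fun y hy hy1 e => by
    have htC : t₀ ^ m ∈ centralizer ({y} : Set G) :=
      mem_centralizer_singleton_iff.2 (mul_inv_eq_iff_eq_mul.1 e)
    have hg : Nat.gcd 3 m = 1 := (Nat.prime_three.coprime_iff_not_dvd.2 hm)
    have : t₀ ∈ centralizer ({y} : Set G) := by
      have h1 := mul_mem (zpow_mem (ht₃z y hy hy1) (Nat.gcdA 3 m)) (zpow_mem htC (Nat.gcdB 3 m))
      rw [← zpow_natCast, ← zpow_natCast, ← zpow_mul, ← zpow_mul, ← zpow_add,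
        ← Nat.gcd_eq_gcd_ab, hg, Nat.cast_one, zpow_one] at h1
      exact h1
    exact ht₀m y hy hy1 (by rw [mem_centralizer_singleton_iff.1 this, mul_inv_cancel_right])
  have ht3 : t ^ 3 ∈ zpowers r := by
    refine h.cent_pair_odd hL hz hz1 hr hr1 hrz ?_ ((Commute.pow_left htr 3).eq.symm) ?_
    · rw [ht, ← pow_mul, mul_comm, pow_mul]
      exact pow_mem (ht₃z z hz hz1) m
    · refine (((by decide : Odd 3).pow (n := a))).of_dvd_nat (orderOf_dvd_of_pow_eq_one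
        (show (t ^ 3) ^ 3 ^ a = 1 by
          rw [ht, ← pow_mul, ← pow_mul, show m * (3 * 3 ^ a) = (3 ^ a * m) * 3 by ring,
            pow_mul, ← hord, pow_orderOf_eq_one, one_pow]))
  have htnr : t ∉ zpowers r := fun e => htm z hz hz1 (by
    rw [mem_centralizer_singleton_iff.1 (zpowers_le.2 hrz e), mul_inv_cancel_right])
  -- inside the centralizer of `r`
  set Cr := centralizer ({r} : Set G) with hCr
  have hrCr : r ∈ Cr := mem_centralizer_singleton_iff.2 rfl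
  have htCr : t ∈ Cr := mem_centralizer_singleton_iff.2 htr
  let r' : Cr := ⟨r, hrCr⟩
  let t' : Cr := ⟨t, htCr⟩
  let R : Subgroup Cr := zpowers r'
  have hRn : R.Normal := ⟨fun x hx g => by
    obtain ⟨k, rfl⟩ := mem_zpowers_iff.1 hx
    have hgr : Commute g r' := Subtype.ext (mem_centralizer_singleton_iff.1 g.2)
    rw [(hgr.zpow_right k).eq, mul_inv_cancel_right]
    exact hx⟩
  let q := QuotientGroup.mk' R
  let D : Subgroup Cr := (zpowers (q t')).comap q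
  have hq3 : orderOf (q t') = 3 := by
    refine orderOf_eq_prime ?_ ?_
    · rw [← map_pow, QuotientGroup.mk'_apply, QuotientGroup.eq_one_iff]
      obtain ⟨k, hk⟩ := mem_zpowers_iff.1 ht3
      exact mem_zpowers_iff.2 ⟨k, Subtype.ext (by simpa using hk)⟩
    · intro e
      obtain ⟨k, hk⟩ := mem_zpowers_iff.1 ((QuotientGroup.eq_one_iff t').1 e)
      exact htnr (mem_zpowers_iff.2 ⟨k, by simpa using congrArg Subtype.val hk⟩)
  have hD9 : Nat.card D = 9 := by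
    have e1 : D.index = (zpowers (q t')).index :=
      Subgroup.index_comap_of_surjective _ (QuotientGroup.mk'_surjective R)
    have e2 := D.card_mul_index
    have e3 := (zpowers (q t')).card_mul_index
    rw [Nat.card_zpowers, hq3] at e3
    have e4 : Nat.card Cr = Nat.card (Cr ⧸ R) * 3 := by
      rw [Subgroup.card_eq_card_quotient_mul_card_subgroup R,
        show Nat.card R = 3 by rw [Nat.card_zpowers, Subgroup.orderOf_mk, h3]]
    rw [e1, e4, ← e3] at e2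
    have e0 : (zpowers (q t')).index ≠ 0 := Subgroup.index_ne_zero_of_finite
    refine mul_right_cancel₀ e0 ?_
    rw [e2]; ring
  have hDmem : ∀ v ∈ D, ∃ i j : ℤ, (v : G) = t ^ i * r ^ j := fun v hv => by
    obtain ⟨i, hi⟩ := mem_zpowers_iff.1 (mem_comap.1 hv)
    rw [← map_zpow] at hi
    obtain ⟨j, hj⟩ := mem_zpowers_iff.1 (QuotientGroup.eq.1 hi)
    refine ⟨i, j, ?_⟩
    have := congrArg Subtype.val ((eq_inv_mul_iff_mul_eq).1 hj)
    simpa [t', r'] using this.symm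
  have hrD : r' ∈ D := by
    show q r' ∈ zpowers (q t')
    rw [show q r' = 1 from (QuotientGroup.eq_one_iff r').2 (mem_zpowers r')]
    exact one_mem _
  have htD : t' ∈ D := mem_zpowers (q t')
  refine not_perfect_of_three h3 ?_ ?_ (h.not_conj_inv hL hz hz1 hr hr1 hrz)
    (CfsgLib.Transfer.commutator_eq_top_of_simple hna)
  · rw [← hD9]; exact Subgroup.card_subgroup_dvd_card D
  -- no subgroup of order 27
  let H : Subgroup Cr := (normalizer (Z : Set G)).subgroupOf Cr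
  have hzCr : z ∈ Cr := mem_centralizer_singleton_iff.2 (hcZ z hz).symm
  have hshift : ∀ (i : ℕ) (y : Cr), (y : G) * z * (y : G)⁻¹ = t ^ i * z * (t ^ i)⁻¹ →
      (t ^ i)⁻¹ * y ∈ centralizer ({z} : Set G) ∧ r * ((t ^ i)⁻¹ * y) = (t ^ i)⁻¹ * y * r := by
    intro i y e
    refine ⟨mem_centralizer_singleton_iff.2 (mul_inv_eq_iff_eq_mul.1 ?_), ?_⟩
    · rw [show (t ^ i)⁻¹ * y * z * ((t ^ i)⁻¹ * y)⁻¹ = (t ^ i)⁻¹ * (y * z * (y : G)⁻¹) * t ^ i by group,
        e]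
      group
    · exact ((((Commute.symm htr).pow_right i).inv_right).mul_right
        (mem_centralizer_singleton_iff.1 y.2).symm).eq
  refine not_twentyseven_dvd H D (fun v hv => ?_) (IsPGroup.of_card (n := 2) (by rw [hD9]; norm_num))
    hD9.le ?_ ?_ ?_ ?_
  · obtain ⟨i, j, e⟩ := hDmem v hv
    rw [mem_subgroupOf, e]
    exact mul_mem (zpow_mem htZ i) (zpow_mem (h.normalizer_le_Z hrn) j)
  · rw [even_iff_two_dvd, ← invol_of_mul_self (h.eZ hz) hz1, ← Subgroup.orderOf_mk z hzCr]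
    exact orderOf_dvd_natCard H (le_normalizer hz : z ∈ normalizer (Z : Set G))
  · intro x hx hx2 y hy
    have hinZ : ∀ x : Cr, x ∈ H → orderOf x = 2 → (x : G) ∈ Z ∧ (x : G) ≠ 1 := fun x hx hx2 => by
      have h2 : orderOf (x : G) = 2 := by rw [Subgroup.orderOf_coe, hx2]
      exact ⟨h.comm_mem_Z hL hz hz1 hr hr1 hrz
        (h.two_elem_mem_sylow hL hx (k := 1) (by rw [pow_one, pow_two, invol_mul_self h2]))
        (mem_centralizer_singleton_iff.1 x.2).symm, invol_ne_one h2⟩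
    obtain ⟨hxZ, hx1⟩ := hinZ x hx hx2
    obtain ⟨hwZ, hw1⟩ := hinZ _ hy (by rw [orderOf_conj_eq, hx2])
    obtain ⟨i, hi⟩ := h.exists_pow_conj hL hxZ hx1 htZ htm hwZ hw1
    have hy' : (t ^ i)⁻¹ * y ∈ centralizer ({z} : Set G) := by
      refine h.mem_cent_of_fix hL hxZ hx1 ?_ hz
      rw [show (t ^ i)⁻¹ * y * x * ((t ^ i)⁻¹ * y)⁻¹ = (t ^ i)⁻¹ * ((y * x * y⁻¹ : Cr) : G) * t ^ i by
        push_cast; group, ← hi]
      group
    have := mul_mem (pow_mem htZ i) (h.normalizer_le_Z (hL.cent z hz hz1 hy'))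
    rw [mul_inv_cancel_left] at this
    exact this
  · intro X hXH hXo hDX x hx
    obtain ⟨i, hi⟩ := h.exists_pow_conj hL hz hz1 htZ htm (conj_mem_of_normalizer (hXH hx) hz)
      (fun e => hz1 (conj_eq_one_iff.1 e))
    obtain ⟨hyc, hyr⟩ := hshift i x hi.symm
    have hyX : (t' ^ i)⁻¹ * x ∈ X := mul_mem (inv_mem (pow_mem (hDX htD) i)) hx
    have hyo : Odd (orderOf ((t ^ i)⁻¹ * (x : G))) := by
      have := hXo.of_dvd_nat (orderOf_dvd_natCard X hyX)
      rwa [← Subgroup.orderOf_coe] at this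
    obtain ⟨k, hk⟩ := mem_zpowers_iff.1 (h.cent_pair_odd hL hz hz1 hr hr1 hrz hyc hyr hyo)
    have : x = t' ^ i * r' ^ k := Subtype.ext (by simp [t', r', hk])
    rw [this]
    exact mul_mem (pow_mem htD i) (zpow_mem hrD k)
  · intro x hx hxN
    obtain ⟨i, hi⟩ := h.exists_pow_conj hL hz hz1 htZ htm (conj_mem_of_normalizer hx hz)
      (fun e => hz1 (conj_eq_one_iff.1 e))
    obtain ⟨hyc, hyr⟩ := hshift i x hi.symm
    obtain ⟨j, w, hw, hxw⟩ := h.cent_pair hL hz hz1 hr hr1 hrz hyc hyr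
    have hwCr : w ∈ Cr := mem_centralizer_singleton_iff.2 (hcZ w hw).symm
    let w' : Cr := ⟨w, hwCr⟩
    have hxe : x = t' ^ i * r' ^ j * w' := Subtype.ext (by
      simp [t', r', w', mul_assoc, ← hxw])
    have hwN : w' ∈ normalizer (D : Set Cr) :=
      (mul_mem_cancel_left (le_normalizer (mul_mem (pow_mem htD i) (pow_mem hrD j)))).1 (hxe ▸ hxN)
    have hcD : w' * t' * w'⁻¹ * t'⁻¹ ∈ D := mul_mem ((mem_normalizer_iff.1 hwN t').1 htD) (inv_mem htD)
    have hcm : w * (t * w⁻¹ * t⁻¹) ∈ Z := mul_mem hw (conj_mem_of_normalizer htZ (inv_mem hw))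
    have hc1 : w' * t' * w'⁻¹ * t'⁻¹ = 1 := by
      have h9 : orderOf (w' * t' * w'⁻¹ * t'⁻¹) ∣ 9 := hD9 ▸ orderOf_dvd_natCard D hcD
      have h2 : orderOf (w' * t' * w'⁻¹ * t'⁻¹) ∣ 2 := by
        rw [← Subgroup.orderOf_coe]
        refine orderOf_dvd_of_pow_eq_one ?_
        rw [pow_two]
        refine h.eZ ?_
        simpa [w', t', mul_assoc] using hcm
      exact orderOf_eq_one_iff.1 (Nat.eq_one_of_dvd_coprimes (by norm_num) h9 h2)
    have hw1 : w = 1 := by_contra fun hne => htm w hw hne (by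
      have h' : w * t * w⁻¹ * t⁻¹ = 1 := by simpa [w', t'] using congrArg Subtype.val hc1
      calc t * w * t⁻¹ = (w * t * w⁻¹ * t⁻¹)⁻¹ * w := by group
        _ = w := by rw [h', inv_one, one_mul])
    rw [hxe, show w' = 1 from Subtype.ext hw1, mul_one]
    exact mul_mem (pow_mem htD i) (pow_mem hrD j)

end Shape

end CfsgLib.SylL34
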