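import Cfsg.Agent.Lib.Invol.Basic
import Mathlib.GroupTheory.SpecificGroups.Cyclic
import Mathlib.GroupTheory.GroupAction.Quotient

/-!
Counting lemmas for groups with a Sylow 2-subgroup of type `L₃(4)`: pairs of involutions sorted by the
central involution of the dihedral group they generate, the order `48960`, and a criterion forcing a class of
involutions into an abelian subgroup.
-/

set_option autoImplicit false

namespace CfsgLib.SylL34

open Subgroup CfsgLib.Invol

variable {G : Type*} [Group G]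

/-- `w` is an involution in the cyclic group generated by the product of the pair. -/
def Centre (w : G) (p : G × G) : Prop := orderOf w = 2 ∧ ∃ k : ℕ, (p.1 * p.2) ^ k = w

theorem Centre.eq_pow_half [Finite G] {w : G} {p : G × G} (h : Centre w p) :
    w = (p.1 * p.2) ^ (orderOf (p.1 * p.2) / 2) := by
  obtain ⟨hw, k, rfl⟩ := h
  set r := p.1 * p.2 with hr
  have hn := orderOf_pos r
  have hq : r ^ k = r ^ (k % orderOf r) := (pow_mod_orderOf r k).symm
  have hlt : k % orderOf r < orderOf r := Nat.mod_lt _ hn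
  have hne : k % orderOf r ≠ 0 := fun e => invol_ne_one hw (by rw [hq, e, pow_zero])
  have hdvd : orderOf r ∣ (k % orderOf r) * 2 := by
    refine orderOf_dvd_of_pow_eq_one ?_
    rw [pow_mul, ← hq, pow_two]
    exact invol_mul_self hw
  obtain ⟨c, hc⟩ := hdvd
  have hc2 : c < 2 := by
    by_contra hcon
    push Not at hcon
    nlinarith
  interval_cases c
  · omega
  · rw [hq]; congr 1; omega

theorem Centre.unique [Finite G] {w w' : G} {p : G × G} (h : Centre w p) (h' : Centre w' p) : w = w' :=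
  h.eq_pow_half.trans h'.eq_pow_half.symm

theorem Centre.commute_left [Finite G] {w : G} {p : G × G} (h : Centre w p) (h1 : orderOf p.1 = 2)
    (h2 : orderOf p.2 = 2) : Commute w p.1 := by
  obtain ⟨hw, k, rfl⟩ := h
  have e := conj_pow_inv (conj_left_mul h1 h2) k
  rw [invol_inv hw] at e
  exact (mul_inv_eq_iff_eq_mul.1 e).symm

theorem Centre.commute_right [Finite G] {w : G} {p : G × G} (h : Centre w p) (h1 : orderOf p.1 = 2)
    (h2 : orderOf p.2 = 2) : Commute w p.2 := by
  obtain ⟨hw, k, rfl⟩ := h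
  have e := conj_pow_inv (conj_right_mul h1 h2) k
  rw [invol_inv hw] at e
  exact (mul_inv_eq_iff_eq_mul.1 e).symm

theorem exists_centre [Finite G] {x y : G} (hx : orderOf x = 2) (hy : orderOf y = 2)
    (hxy : ¬ IsConj x y) : ∃ w, Centre w (x, y) :=
  ⟨_, orderOf_pow_half (even_of_not_isConj hx hy hxy), _, rfl⟩

theorem Centre.conj {w : G} {p : G × G} (h : Centre w p) (g : G) :
    Centre (g * w * g⁻¹) (g * p.1 * g⁻¹, g * p.2 * g⁻¹) := by
  obtain ⟨hw, k, rfl⟩ := h
  refine ⟨(orderOf_conj_eq g _).trans hw, k, ?_⟩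
  show (g * p.1 * g⁻¹ * (g * p.2 * g⁻¹)) ^ k = _
  rw [show g * p.1 * g⁻¹ * (g * p.2 * g⁻¹) = g * (p.1 * p.2) * g⁻¹ by group, conj_pow]

/-- The pairs in the classes of `a` and `b` with centre `w`. -/
abbrev CentrePairs (a b w : G) : Type _ :=
  {p : {x : G // IsConj a x} × {x : G // IsConj b x} // Centre w ((p.1 : G), (p.2 : G))}

theorem card_centrePairs_conj (a b w g : G) :
    Nat.card (CentrePairs a b (g * w * g⁻¹)) = Nat.card (CentrePairs a b w) := by
  have key : ∀ (h u : G) (p : CentrePairs a b u),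
      Centre (h * u * h⁻¹) (h * (p.1.1 : G) * h⁻¹, h * (p.1.2 : G) * h⁻¹) := fun h u p => p.2.conj h
  refine Nat.card_congr
    { toFun := fun p => ⟨(⟨g⁻¹ * p.1.1 * g, p.1.1.2.trans (isConj_iff.2 ⟨g⁻¹, by group⟩)⟩,
          ⟨g⁻¹ * p.1.2 * g, p.1.2.2.trans (isConj_iff.2 ⟨g⁻¹, by group⟩)⟩), ?_⟩
      invFun := fun p => ⟨(⟨g * p.1.1 * g⁻¹, p.1.1.2.trans (isConj_iff.2 ⟨g, rfl⟩)⟩,
          ⟨g * p.1.2 * g⁻¹, p.1.2.2.trans (isConj_iff.2 ⟨g, rfl⟩)⟩), key g w p⟩
      left_inv := fun p => by ext <;> simp [mul_assoc]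
      right_inv := fun p => by ext <;> simp [mul_assoc] }
  simpa [mul_assoc] using key g⁻¹ _ p

theorem card_fibre [Finite G] (a b c : G) :
    Nat.card ((w : {x : G // IsConj c x}) × CentrePairs a b (w : G)) =
      Nat.card {x : G // IsConj c x} * Nat.card (CentrePairs a b c) := by
  have : Fintype {x : G // IsConj c x} := Fintype.ofFinite _
  rw [Nat.card_sigma, Finset.sum_congr rfl fun w _ => ?_, Finset.sum_const, Finset.card_univ,
    Nat.card_eq_fintype_card, smul_eq_mul]
  obtain ⟨g, hg⟩ := isConj_iff.1 w.2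
  rw [← hg]
  exact card_centrePairs_conj a b c g

/-- Pair count for two classes of involutions all of whose centres lie in two classes. -/
theorem card_pairs_two [Finite G] {a b c d : G} (ha : orderOf a = 2) (hb : orderOf b = 2)
    (hab : ¬ IsConj a b) (hcd : ¬ IsConj c d)
    (h : ∀ x y w : G, IsConj a x → IsConj b y → Centre w (x, y) → IsConj c w ∨ IsConj d w) :
    Nat.card {x : G // IsConj a x} * Nat.card {x : G // IsConj b x} =
      Nat.card {x : G // IsConj c x} * Nat.card (CentrePairs a b c) +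
      Nat.card {x : G // IsConj d x} * Nat.card (CentrePairs a b d) := by
  rw [← Nat.card_prod, ← card_fibre a b c, ← card_fibre a b d, ← Nat.card_sum]
  refine (Nat.card_eq_of_bijective (Sum.elim (fun q => q.2.1) (fun q => q.2.1)) ⟨?_, ?_⟩).symm
  · rintro (⟨w, p, hp⟩ | ⟨w, p, hp⟩) (⟨w', p', hp'⟩ | ⟨w', p', hp'⟩) e
    all_goals
      have e' : p = p' := e
      subst e'
      have hww : (w : G) = w' := hp.unique hp'
    · obtain rfl : w = w' := Subtype.ext hww
      rfl
    · exact absurd (w.2.trans (hww ▸ w'.2.symm)) hcd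
    · exact absurd (w'.2.trans (hww ▸ w.2.symm)) hcd
    · obtain rfl : w = w' := Subtype.ext hww
      rfl
  · rintro ⟨x, y⟩
    have hx : orderOf (x : G) = 2 := (orderOf_eq_of_isConj x.2).trans ha
    have hy : orderOf (y : G) = 2 := (orderOf_eq_of_isConj y.2).trans hb
    obtain ⟨w, hw⟩ := exists_centre hx hy fun hc => hab (x.2.trans (hc.trans y.2.symm))
    rcases h x y w x.2 y.2 hw with hc | hd
    · exact ⟨Sum.inl ⟨⟨w, hc⟩, ⟨(x, y), hw⟩⟩, rfl⟩
    · exact ⟨Sum.inr ⟨⟨w, hd⟩, ⟨(x, y), hw⟩⟩, rfl⟩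

/-- Pair count for two classes of involutions all of whose centres lie in one class. -/
theorem card_pairs_one [Finite G] {a b c : G} (ha : orderOf a = 2) (hb : orderOf b = 2)
    (hab : ¬ IsConj a b) (h : ∀ x y w : G, IsConj a x → IsConj b y → Centre w (x, y) → IsConj c w) :
    Nat.card {x : G // IsConj a x} * Nat.card {x : G // IsConj b x} =
      Nat.card {x : G // IsConj c x} * Nat.card (CentrePairs a b c) := by
  rw [← Nat.card_prod, ← card_fibre a b c]
  refine (Nat.card_eq_of_bijective (fun q => q.2.1) ⟨?_, ?_⟩).symm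
  · rintro ⟨w, p, hp⟩ ⟨w', p', hp'⟩ e
    have e' : p = p' := e
    subst e'
    obtain rfl : w = w' := Subtype.ext (hp.unique hp')
    rfl
  · rintro ⟨x, y⟩
    have hx : orderOf (x : G) = 2 := (orderOf_eq_of_isConj x.2).trans ha
    have hy : orderOf (y : G) = 2 := (orderOf_eq_of_isConj y.2).trans hb
    obtain ⟨w, hw⟩ := exists_centre hx hy fun hc => hab (x.2.trans (hc.trans y.2.symm))
    exact ⟨⟨⟨w, h x y w x.2 y.2 hw⟩, ⟨(x, y), hw⟩⟩, rfl⟩

/-- No group of order `48960` has a core-free subgroup of order `2880`. -/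
theorem false_of_order_48960 [Finite G] (M : Subgroup G) (hG : Nat.card G = 48960)
    (hM : Nat.card M = 2880) (hcore : M.normalCore = ⊥) : False := by
  have : Fact (Nat.Prime 17) := ⟨by norm_num⟩
  obtain ⟨P⟩ : Nonempty (Sylow 17 G) := inferInstance
  have hX : Nat.card (G ⧸ M) = 17 := by
    have h := M.card_eq_card_quotient_mul_card_subgroup
    rw [hG, hM] at h
    omega
  have hP : Nat.card (P : Subgroup G) = 17 := by
    rw [P.card_eq_multiplicity, hG]
    rw [show (48960 : ℕ) = 17 ^ 1 * 2880 by norm_num,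
      Nat.factorization_mul (by norm_num) (by norm_num), Finsupp.add_apply,
      Nat.Prime.factorization_pow (by norm_num), Finsupp.single_eq_same,
      Nat.factorization_eq_zero_of_not_dvd (by norm_num)]
    norm_num
  have hdisj : ∀ g x : G, x ∈ (P : Subgroup G) → g⁻¹ * x * g ∈ M → x = 1 := by
    intro g x hx hgx
    rw [← orderOf_eq_one_iff]
    have h1 : orderOf x ∣ 17 := by
      have := Subgroup.orderOf_dvd_natCard (P : Subgroup G) hx
      rwa [hP] at this
    have h2 : orderOf x ∣ 2880 := by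
      have := Subgroup.orderOf_dvd_natCard M hgx
      rwa [hM, orderOf_conj_inv_eq] at this
    exact Nat.dvd_one.1 ((Nat.dvd_gcd h1 h2).trans (by norm_num))
  have hbij : Function.Bijective fun p : (P : Subgroup G) => ((p : G) : G ⧸ M) := by
    rw [Nat.bijective_iff_injective_and_card]
    refine ⟨fun p q e => ?_, hP.trans hX.symm⟩
    have e' := QuotientGroup.eq.1 e
    have := hdisj 1 ((p : G)⁻¹ * q) (mul_mem (inv_mem p.2) q.2) (by simpa using e')
    exact Subtype.ext (inv_mul_eq_one.1 this)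
  have hcyc : IsCyclic (P : Subgroup G) := isCyclic_of_prime_card hP
  have hcomm : ∀ p q : (P : Subgroup G), p * q = q * p := fun p q => by
    obtain ⟨r, hr⟩ := hcyc.exists_generator
    obtain ⟨i, rfl⟩ := Subgroup.mem_zpowers_iff.1 (hr p)
    obtain ⟨j, rfl⟩ := Subgroup.mem_zpowers_iff.1 (hr q)
    exact (Commute.zpow_zpow_self r i j).eq
  have hC : Subgroup.centralizer ((P : Subgroup G) : Set G) = (P : Subgroup G) := by
    refine le_antisymm (fun x hx => ?_) fun x hx q hq =>
      congrArg Subtype.val (hcomm ⟨q, hq⟩ ⟨x, hx⟩)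
    obtain ⟨p, hp⟩ := hbij.2 (x : G ⧸ M)
    have hy : (p : G)⁻¹ * x ∈ M := QuotientGroup.eq.1 hp
    have hcom : ∀ q ∈ (P : Subgroup G), Commute q ((p : G)⁻¹ * x) := fun q hq =>
      Commute.mul_right (Commute.inv_right (congrArg Subtype.val (hcomm ⟨q, hq⟩ p))) (hx q hq)
    suffices h1 : (p : G)⁻¹ * x = 1 by rw [← inv_mul_eq_one.1 h1]; exact p.2
    rw [← Subgroup.mem_bot, ← hcore]
    intro g
    obtain ⟨q, hq⟩ := hbij.2 ((g⁻¹ : G) : G ⧸ M)
    have hm : g * (q : G) ∈ M := by
      have := inv_mem (QuotientGroup.eq.1 hq)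
      simpa [mul_assoc] using this
    have he : g * ((p : G)⁻¹ * x) * g⁻¹ =
        (g * (q : G)) * ((p : G)⁻¹ * x) * (g * (q : G))⁻¹ := by
      rw [mul_assoc g (q : G), (hcom q q.2).eq]
      group
    rw [he]
    exact mul_mem (mul_mem hm hy) (inv_mem hm)
  set N := Subgroup.normalizer ((P : Subgroup G) : Set G) with hN
  have hk : Nat.card (((P : Subgroup G).normalizerMonoidHom).ker) = 17 := by
    rw [Subgroup.normalizerMonoidHom_ker, hC,
      Nat.card_congr (Subgroup.subgroupOfEquivOfLe Subgroup.le_normalizer).toEquiv, hP]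
  have he : ∃ e, e ∣ 16 ∧ Nat.card N = e * 17 := by
    refine ⟨Nat.card ((P : Subgroup G).normalizerMonoidHom).range, ?_, ?_⟩
    · have := Subgroup.card_subgroup_dvd_card ((P : Subgroup G).normalizerMonoidHom).range
      rwa [hcyc.card_mulAut, hP, Nat.totient_prime (by norm_num)] at this
    · have h := ((P : Subgroup G).normalizerMonoidHom).ker.card_eq_card_quotient_mul_card_subgroup
      rw [hk, Nat.card_congr (QuotientGroup.quotientKerEquivRange _).toEquiv] at h
      exact h
  obtain ⟨e, he16, heN⟩ := he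
  have hidx : N.index * (e * 17) = 48960 := by rw [← heN, N.index_mul_card, hG]
  have hmod := card_sylow_modEq_one 17 G
  rw [P.card_eq_index_normalizer] at hmod
  have hsyl : N.index % 17 = 1 := hmod
  have hle : e ≤ 16 := Nat.le_of_dvd (by norm_num) he16
  have hi : N.index * e = 2880 := by rw [← mul_assoc] at hidx; omega
  obtain ⟨q, hq⟩ := he16
  interval_cases e <;> omega

/-- A class of involutions whose centres against one fixed involution are controlled lies in an abelian
subgroup. -/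
theorem commuting_classes [Finite G] {D : Set G} (hD2 : ∀ d ∈ D, orderOf d = 2)
    (hDconj : ∀ g : G, ∀ d ∈ D, g * d * g⁻¹ ∈ D) (V : Subgroup G)
    (hVc : ∀ x ∈ V, ∀ y ∈ V, x * y = y * x)
    (hcent : ∀ d ∈ D, d ∈ V → Subgroup.centralizer ({d} : Set G) ≤ Subgroup.normalizer (V : Set G))
    (hN : ∀ d ∈ D, d ∈ Subgroup.normalizer (V : Set G) → d ∈ V)
    (v : G) (hv : orderOf v = 2) (hvD : v ∉ D) (hvC : ∀ d ∈ D, Commute d v → d ∈ V)
    (hfix : ∀ u, IsConj v u → u ∈ Subgroup.normalizer (V : Set G) → ∃ x ∈ D, x ∈ V ∧ Commute x u)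
    (hw : ∀ d ∈ D, ∀ w : G, Centre w (d, v) → w ∈ D ∨
      ∃ g : G, (∀ x ∈ D, Commute x w → g⁻¹ * x * g ∈ V) ∧
        ∀ y : G, Commute y w → g⁻¹ * y * g ∈ Subgroup.normalizer (V : Set G)) :
    D ⊆ V := by
  intro d hd
  have hnc : ¬ IsConj d v := fun h => hvD <| by
    obtain ⟨g, rfl⟩ := isConj_iff.1 h
    exact hDconj g d hd
  obtain ⟨w, hcw⟩ := exists_centre (hD2 d hd) hv hnc
  have hwd : Commute w d := hcw.commute_left (hD2 d hd) hv
  have hwv : Commute w v := hcw.commute_right (hD2 d hd) hv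
  refine hN d hd ?_
  rcases hw d hd w hcw with hwD | ⟨g, hgD, hgC⟩
  · exact hcent w hwD (hvC w hwD hwv) (Subgroup.mem_centralizer_singleton_iff.2 hwd.symm.eq)
  · obtain ⟨x, hxD, hxV, hxc⟩ := hfix (g⁻¹ * v * g) (isConj_iff.2 ⟨g⁻¹, by group⟩)
      (hgC v hwv.symm)
    have hXD : g * x * g⁻¹ ∈ D := hDconj g x hxD
    have hXv : Commute (g * x * g⁻¹) v := by
      have := hxc.map (MulAut.conj g).toMonoidHom
      simpa [mul_assoc] using this
    refine hcent _ hXD (hvC _ hXD hXv) (Subgroup.mem_centralizer_singleton_iff.2 ?_)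
    have e := hVc _ (hgD d hd hwd.symm) x hxV
    have e' := congrArg (fun t => g * t * g⁻¹) e
    simpa [mul_assoc] using e'

/-- Supplies the second alternative of `commuting_classes` from a conjugate representative. -/
theorem centre_side_of_isConj {D : Set G} (hDconj : ∀ g : G, ∀ d ∈ D, g * d * g⁻¹ ∈ D) (V : Subgroup G)
    {w w₀ : G} (hww : IsConj w₀ w) (g₀ : G)
    (hD : ∀ x ∈ D, Commute x w₀ → g₀⁻¹ * x * g₀ ∈ V)
    (hC : ∀ y : G, Commute y w₀ → g₀⁻¹ * y * g₀ ∈ Subgroup.normalizer (V : Set G)) :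
    ∃ g : G, (∀ x ∈ D, Commute x w → g⁻¹ * x * g ∈ V) ∧
      ∀ y : G, Commute y w → g⁻¹ * y * g ∈ Subgroup.normalizer (V : Set G) := by
  obtain ⟨h, rfl⟩ := isConj_iff.1 hww
  have key : ∀ y : G, Commute y (h * w₀ * h⁻¹) → Commute (h⁻¹ * y * h) w₀ := fun y hy => by
    have := hy.map (MulAut.conj h⁻¹).toMonoidHom
    simpa [mul_assoc] using this
  have he : ∀ y : G, (h * g₀)⁻¹ * y * (h * g₀) = g₀⁻¹ * (h⁻¹ * y * h) * g₀ := fun y => by group
  refine ⟨h * g₀, fun x hx hxc => ?_, fun y hy => ?_⟩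
  · rw [he]
    exact hD _ (by simpa using hDconj h⁻¹ x hx) (key x hxc)
  · rw [he]
    exact hC _ (key y hy)

/-- In the setting of `commuting_classes` the normal closure of the class lies in the subgroup. -/
theorem normalClosure_le_of_subset {D : Set G} (hDconj : ∀ g : G, ∀ d ∈ D, g * d * g⁻¹ ∈ D)
    {V : Subgroup G} (hDV : D ⊆ V) : Subgroup.normalClosure D ≤ V := by
  refine (Subgroup.closure_le _).2 fun x hx => ?_
  obtain ⟨d, hd, hc⟩ := Group.mem_conjugatesOfSet_iff.1 hx
  obtain ⟨g, rfl⟩ := isConj_iff.1 hc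
  exact hDV (hDconj g d hd)

end CfsgLib.SylL34
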