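import Mathlib.GroupTheory.SemidirectProduct
import Mathlib.GroupTheory.Complement
import Mathlib.LinearAlgebra.Matrix.ToLin
import Mathlib.LinearAlgebra.Matrix.GeneralLinearGroup.Basic
import Mathlib.LinearAlgebra.FiniteDimensional.Basic
import Mathlib.FieldTheory.Finite.Basic
import Mathlib.Algebra.CharP.Two

/-!
A group `A ⋊ H` with `A` of order sixteen carrying a fixed-point-free endomorphism of order three
commuting with `H` embeds in the projective general linear group of degree three over four elements,
as affine transformations of a plane.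
-/

set_option autoImplicit false

namespace CfsgLib.SylL34

open Subgroup

universe u v

/-- The matrix of an affine transformation of the plane. -/
def affMat {F : Type v} [Field F] (M : Matrix (Fin 2) (Fin 2) F) (w : Fin 2 → F) :
    Matrix (Fin 3) (Fin 3) F :=
  !![M 0 0, M 0 1, w 0; M 1 0, M 1 1, w 1; 0, 0, 1]

theorem affMat_mul {F : Type v} [Field F] (M N : Matrix (Fin 2) (Fin 2) F) (v w : Fin 2 → F) :
    affMat M v * affMat N w = affMat (M * N) (Matrix.mulVec M w + v) := by
  ext i j
  fin_cases i <;> fin_cases j <;>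
    simp [affMat, Matrix.mul_apply, Fin.sum_univ_three, Fin.sum_univ_two, Matrix.mulVec,
      dotProduct, add_assoc]

/-- The four elements of a field with four elements. -/
theorem field_four {F : Type v} [Field F] [Fintype F] (hF : Fintype.card F = 4) :
    ∃ w : F, w ≠ 0 ∧ w ≠ 1 ∧ w * w = w + 1 ∧ (2 : F) = 0 ∧
      ∀ x : F, x = 0 ∨ x = 1 ∨ x = w ∨ x = w + 1 := by
  classical
  have h2 : (2 : F) = 0 := by
    have h4 : (4 : F) = 0 := by
      have := FiniteField.cast_card_eq_zero F
      rwa [hF] at this
    by_contra h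
    exact mul_ne_zero h h (by rw [← h4]; norm_num)
  haveI : CharP F 2 := CharTwo.of_one_ne_zero_of_two_eq_zero one_ne_zero h2
  obtain ⟨w, hw⟩ : ∃ w : F, w ∉ ({0, 1} : Finset F) := by
    by_contra h
    push Not at h
    have := Finset.card_le_card (fun x _ => h x : (Finset.univ : Finset F) ⊆ {0, 1})
    rw [Finset.card_univ, hF, Finset.card_pair zero_ne_one] at this
    omega
  simp only [Finset.mem_insert, Finset.mem_singleton, not_or] at hw
  obtain ⟨hw0, hw1⟩ := hw
  have hw01 : w + 1 ≠ 0 := fun e => hw1 (CharTwo.add_eq_zero.1 e)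
  have hw11 : w + 1 ≠ 1 := fun e => hw0 (add_eq_right.1 e)
  have hww : w + 1 ≠ w := fun e => one_ne_zero (add_eq_left.1 e)
  have hall : ∀ x : F, x = 0 ∨ x = 1 ∨ x = w ∨ x = w + 1 := by
    intro x
    have hu : ({0, 1, w, w + 1} : Finset F) = Finset.univ := by
      refine Finset.eq_univ_of_card _ ?_
      rw [hF, Finset.card_insert_of_notMem, Finset.card_insert_of_notMem,
        Finset.card_insert_of_notMem, Finset.card_singleton] <;>
        simp [Ne.symm hw0, Ne.symm hw1, Ne.symm hw01, Ne.symm hw11, Ne.symm hww]
    simpa using hu.ge (Finset.mem_univ x)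
  refine ⟨w, hw0, hw1, ?_, h2, hall⟩
  rcases hall (w * w) with e | e | e | e
  · exact absurd e (mul_ne_zero hw0 hw0)
  · have : (w + 1) * (w + 1) = 0 := by linear_combination e + (w + 1) * h2
    exact absurd this (mul_ne_zero hw01 hw01)
  · exact absurd (mul_left_cancel₀ hw0 (e.trans (mul_one w).symm)) hw1
  · exact e

/-- A group `A ⋊ H` of affine type embeds in `PGL(3, 4)`. -/
theorem embed_of_endo {G : Type u} [Group G] [Finite G] {A : Subgroup G} [A.Normal]
    [IsMulCommutative ↥A] (eA : ∀ a ∈ A, a * a = 1) (cardA : Nat.card A = 16)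
    (hCA : centralizer (A : Set G) ≤ A) {H : Subgroup G} (hAH : A.IsComplement' H)
    (ζ : ↥A →* ↥A) (hsum : ∀ x, x * ζ x * ζ (ζ x) = 1)
    (hcomm : ∀ (g : G) (x : ↥A), ζ (MulAut.conjNormal g x) = MulAut.conjNormal g (ζ x))
    {F : Type v} [Field F] [Fintype F] (hF : Fintype.card F = 4) :
    ∃ f : G →* GL (Fin 3) F ⧸ Subgroup.center (GL (Fin 3) F), Function.Injective f := by
  classical
  obtain ⟨w, hw0, hw1, hww, h2, hall⟩ := field_four hF
  haveI : CharP F 2 := CharTwo.of_one_ne_zero_of_two_eq_zero one_ne_zero h2
  have he : ∀ x : ↥A, x * x = 1 := fun x => Subtype.ext (eA x x.2)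
  open scoped IsMulCommutative in
  let ζ' : AddMonoid.End (Additive ↥A) := MonoidHom.toAdditive ζ
  have hz3 : ζ' * ζ' = ζ' + 1 := by
    refine AddMonoidHom.ext fun x => Additive.toMul.injective ?_
    change ζ (ζ (Additive.toMul x)) = ζ (Additive.toMul x) * Additive.toMul x
    have h := hsum (Additive.toMul x)
    generalize Additive.toMul x = y at h ⊢
    calc ζ (ζ y) = (y * ζ y)⁻¹ * (y * ζ y * ζ (ζ y)) := by rw [inv_mul_cancel_left]
      _ = ζ y * y := by
          rw [h, mul_one, mul_inv_rev, inv_eq_of_mul_eq_one_right (he y),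
            inv_eq_of_mul_eq_one_right (he (ζ y))]
  have hchar : (2 : AddMonoid.End (Additive ↥A)) = 0 := by
    refine AddMonoidHom.ext fun x => Additive.toMul.injective ?_
    rw [show (2 : AddMonoid.End (Additive ↥A)) = 1 + 1 by norm_num]
    exact he (Additive.toMul x)
  let s : F → AddMonoid.End (Additive ↥A) := fun x =>
    if x = 0 then 0 else if x = 1 then 1 else if x = w then ζ' else ζ' + 1
  have hw01 : w + 1 ≠ 0 := fun e => hw1 (CharTwo.add_eq_zero.1 e)
  have hw11 : w + 1 ≠ 1 := fun e => hw0 (add_eq_right.1 e)
  have hwne : w + 1 ≠ w := fun e => one_ne_zero (add_eq_left.1 e)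
  have s0 : s 0 = 0 := by simp [s]
  have s1 : s 1 = 1 := by simp [s]
  have sw : s w = ζ' := by simp [s, hw0, hw1]
  have sw1 : s (w + 1) = ζ' + 1 := by simp [s, hw01, hw11, hwne]
  have F1 : (1 : F) + 1 = 0 := by rw [← h2]; norm_num
  have F2 : (1 : F) + w = w + 1 := add_comm _ _
  have F3 : (1 : F) + (w + 1) = w := by linear_combination h2
  have F4 : w + w = 0 := by linear_combination w * h2
  have F5 : w + (w + 1) = 1 := by linear_combination w * h2
  have F6 : w + 1 + 1 = w := by linear_combination h2
  have F7 : w + 1 + w = 1 := by linear_combination w * h2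
  have F8 : w + 1 + (w + 1) = 0 := by linear_combination (w + 1) * h2
  have F9 : w * (w + 1) = 1 := by linear_combination hww + w * h2
  have F10 : (w + 1) * w = 1 := by linear_combination hww + w * h2
  have F11 : (w + 1) * (w + 1) = w := by linear_combination hww + (w + 1) * h2
  have hsadd : ∀ x y, s (x + y) = s x + s y := by
    have e : ∀ f : AddMonoid.End (Additive ↥A), f + f = 0 := fun f => by
      rw [← two_mul, hchar, zero_mul]
    intro x y
    rcases hall x with rfl | rfl | rfl | rfl <;> rcases hall y with rfl | rfl | rfl | rfl <;>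
      simp only [zero_add, add_zero, F1, F2, F3, F4, F5, F6, F7, F8, s0, s1, sw, sw1]
    · exact (e 1).symm
    · abel
    · rw [← add_assoc, add_comm 1 ζ', add_assoc, e 1, add_zero]
    · exact (e ζ').symm
    · rw [← add_assoc, e ζ', zero_add]
    · rw [add_assoc, e 1, add_zero]
    · rw [add_comm ζ' 1, add_assoc, e ζ', add_zero]
    · exact (e _).symm
  have hsmul : ∀ x y, s (x * y) = s x * s y := by
    have e : ∀ f : AddMonoid.End (Additive ↥A), f + f = 0 := fun f => by
      rw [← two_mul, hchar, zero_mul]
    intro x y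
    rcases hall x with rfl | rfl | rfl | rfl <;> rcases hall y with rfl | rfl | rfl | rfl <;>
      simp only [zero_mul, mul_zero, one_mul, mul_one, hww, F9, F10, F11, s0, s1, sw, sw1]
    · exact hz3.symm
    · rw [mul_add, hz3, mul_one, add_assoc, add_comm 1 ζ', ← add_assoc, e ζ', zero_add]
    · rw [add_mul, hz3, one_mul, add_assoc, add_comm 1 ζ', ← add_assoc, e ζ', zero_add]
    · rw [add_mul, mul_add, mul_add, hz3, one_mul, one_mul, mul_one,
        show ζ' + 1 + ζ' + (ζ' + 1) = ζ' + ((ζ' + ζ') + (1 + 1)) by abel, e, e, add_zero, add_zero]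
  let ψ : F →+* AddMonoid.End (Additive ↥A) :=
    { toFun := s, map_zero' := s0, map_one' := s1, map_add' := hsadd, map_mul' := hsmul }
  open scoped IsMulCommutative in
  letI : Module F (Additive ↥A) := Module.compHom (Additive ↥A) ψ
  haveI : Finite (Additive ↥A) := inferInstanceAs (Finite ↥A)
  haveI : Module.Finite F (Additive ↥A) := Module.Finite.of_finite
  have hrank : Module.finrank F (Additive ↥A) = 2 := by
    have h := Module.natCard_eq_pow_finrank (K := F) (V := Additive ↥A)
    rw [show Nat.card (Additive ↥A) = 16 from cardA, Nat.card_eq_fintype_card, hF] at h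
    exact Nat.pow_right_injective (le_refl 2 |>.trans (by norm_num : (2 : ℕ) ≤ 4))
      (h.symm.trans (by norm_num))
  let b := Module.finBasisOfFinrankEq F (Additive ↥A) hrank
  let lin : ↥H →* Module.End F (Additive ↥A) :=
    { toFun := fun h =>
        { toFun := fun x => Additive.ofMul (MulAut.conjNormal (h : G) (Additive.toMul x))
          map_add' := fun x y => congrArg Additive.ofMul (map_mul _ _ _)
          map_smul' := fun c x => by
            change Additive.ofMul (MulAut.conjNormal (h : G) (Additive.toMul (s c x))) =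
              s c (Additive.ofMul (MulAut.conjNormal (h : G) (Additive.toMul x)))
            rcases hall c with rfl | rfl | rfl | rfl
            · rw [s0]; exact congrArg Additive.ofMul (map_one _)
            · rw [s1]; rfl
            · rw [sw]
              exact congrArg Additive.ofMul (hcomm (h : G) _).symm
            · rw [sw1]
              exact congrArg Additive.ofMul ((map_mul _ _ _).trans
                (congrArg (fun t => t * MulAut.conjNormal (h : G) (Additive.toMul x))
                  (hcomm (h : G) _).symm)) }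
      map_one' := LinearMap.ext fun x => by simp
      map_mul' := fun g g' => LinearMap.ext fun x => by simp [MulAut.mul_apply] }
  let R : ↥H →* Matrix (Fin 2) (Fin 2) F :=
    (LinearMap.toMatrixAlgEquiv b).toRingEquiv.toRingHom.toMonoidHom.comp lin
  let N := (MulAut.conjNormal.domRestrict H : ↥H →* MulAut ↥A)
  have hRv : ∀ (h : ↥H) (x : ↥A), Matrix.mulVec (R h) (b.repr (Additive.ofMul x)) =
      b.repr (Additive.ofMul (N h x)) := fun h x =>
    LinearMap.toMatrix_mulVec_repr b b (lin h) (Additive.ofMul x)
  let Φ : ↥A ⋊[N] ↥H →* Matrix (Fin 3) (Fin 3) F :=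
    { toFun := fun p => affMat (R p.right) (b.repr (Additive.ofMul p.left))
      map_one' := by
        ext i j
        fin_cases i <;> fin_cases j <;> simp [affMat]
      map_mul' := fun p q => by
        rw [affMat_mul, SemidirectProduct.mul_right, map_mul R, hRv, SemidirectProduct.mul_left,
          ofMul_mul, map_add, Finsupp.coe_add, add_comm (⇑(b.repr (Additive.ofMul p.left)))] }
  have e : ↥A ⋊[N] ↥H ≃* G := SemidirectProduct.mulEquivSubgroup hAH
  refine ⟨(QuotientGroup.mk' _).comp (Φ.toHomUnits.comp e.symm.toMonoidHom), ?_⟩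
  rw [← MonoidHom.ker_eq_bot_iff, eq_bot_iff]
  intro g hg
  rw [MonoidHom.mem_ker, MonoidHom.comp_apply, QuotientGroup.mk'_apply, QuotientGroup.eq_one_iff,
    Matrix.GeneralLinearGroup.center_eq_range_scalar] at hg
  obtain ⟨c, hc⟩ := hg
  set p := e.symm g
  have hM : Matrix.scalar (Fin 3) (c : F) = affMat (R p.right) (b.repr (Additive.ofMul p.left)) :=
    congrArg (fun u : GL (Fin 3) F => (u : Matrix (Fin 3) (Fin 3) F)) hc
  have hent := fun i j => congrFun (congrFun hM i) j
  have hc1 : (c : F) = 1 := by simpa [affMat] using hent 2 2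
  have hleft : p.left = 1 := by
    have hz : b.repr (Additive.ofMul p.left) = 0 := by
      ext i
      fin_cases i
      · simpa [affMat] using (hent 0 2).symm
      · simpa [affMat] using (hent 1 2).symm
    exact Additive.ofMul.injective ((map_eq_zero_iff _ b.repr.injective).1 hz)
  have hR : R p.right = 1 := by
    ext i j
    fin_cases i <;> fin_cases j
    · simpa [affMat, hc1] using (hent 0 0).symm
    · simpa [affMat, hc1] using (hent 0 1).symm
    · simpa [affMat, hc1] using (hent 1 0).symm
    · simpa [affMat, hc1] using (hent 1 1).symm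
  have hright : p.right = 1 := by
    have hl : lin p.right = 1 := by
      apply (LinearMap.toMatrixAlgEquiv b).injective
      rw [map_one]
      exact hR
    have hmem : (p.right : G) ∈ A := hCA (mem_centralizer_iff.2 fun x hx => by
      have := congrArg Subtype.val (congrArg Additive.toMul
        (LinearMap.congr_fun hl (Additive.ofMul (⟨x, hx⟩ : ↥A))))
      change (p.right : G) * x * (p.right : G)⁻¹ = x at this
      exact (mul_inv_eq_iff_eq_mul.1 this).symm)
    exact Subtype.ext (Subgroup.disjoint_def.1 hAH.disjoint hmem p.right.2)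
  have hp : e.symm g = 1 := SemidirectProduct.ext hleft hright
  rw [mem_bot, ← e.apply_symm_apply g, hp, map_one]

end CfsgLib.SylL34
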