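import Cfsg.Agent.Lib.SylLThreeFour.Spread
import Cfsg.Agent.Lib.SylLThreeFour.EmbedAffine
import Cfsg.Agent.Lib.Solvable.Gaschutz

/-!
A group with a normal self-centralising `A` of the shape of a Sylow 2-subgroup of `PSL(3, 4)`,
transitive on the involutions of `A`, embeds in `PGL(3, 4)`.
-/

set_option autoImplicit false

namespace CfsgLib.SylL34

open Subgroup

universe u v

theorem embed_of_A_normal {G : Type u} [Group G] [Finite G] {P : Sylow 2 G} {A B Z : Subgroup G}
    (h : Shape (P : Subgroup G) A B Z) (hAn : A.Normal)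
    (hCA : Subgroup.centralizer (A : Set G) ≤ A) (htr : LType A)
    (hC : ∀ z ∈ Z, z ≠ 1 → Subgroup.centralizer ({z} : Set G) ≤
      Subgroup.normalizer ((P : Subgroup G) : Set G))
    {F : Type v} [Field F] [Fintype F] (hF : Fintype.card F = 4) :
    ∃ f : G →* GL (Fin 3) F ⧸ Subgroup.center (GL (Fin 3) F), Function.Injective f := by
  haveI := hAn
  haveI : IsMulCommutative ↥A :=
    ⟨⟨fun a b => Subtype.ext (CfsgLib.Recog.LThreeFour.comm_of_sq h.eA a.2 b.2)⟩⟩
  haveI : Fact (Nat.Prime 2) := ⟨Nat.prime_two⟩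
  obtain ⟨⟨ζ, hsum, hcomm⟩, W, hW, hWsup⟩ := h.exists_endo htr hC
  have hcop : (Nat.card ↥A).Coprime (P : Subgroup G).index := by
    rw [h.cardA, show (16 : ℕ) = 2 ^ 4 from rfl]
    exact Nat.Coprime.pow_left 4 ((Nat.Prime.coprime_iff_not_dvd Nat.prime_two).2 P.not_dvd_index)
  obtain ⟨H, hH⟩ := CfsgLib.Solvable.gaschutz_exists (K := A) (U := (P : Subgroup G)) (A := W)
    h.hA hcop (by rw [inf_comm]; exact hW) hWsup
  exact embed_of_endo h.eA h.cardA hCA hH ζ hsum hcomm hF

end CfsgLib.SylL34
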