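import Cfsg.Agent.Lib.SylLThreeFour.EmbedAffine
import Cfsg.Agent.Lib.KnownC.AutPSLOut
import Cfsg.Agent.Lib.Classical.SLOrder

/-!
A group with a normal `PSL(3, 4)` of trivial centraliser and index dividing three embeds in
`PGL(3, 4)`.
-/

set_option autoImplicit false

namespace CfsgLib.SylL34

open Matrix CfsgLib.KnownC

universe u v

/-- A field with four elements has at most two automorphisms. -/
theorem card_ringAut_four {F : Type v} [Field F] [Fintype F] (hF : Fintype.card F = 4) :
    Nat.card (F ≃+* F) ≤ 2 := by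
  classical
  obtain ⟨w, hw0, hw1, -, -, hall⟩ := field_four hF
  have hinj : Function.Injective fun σ : F ≃+* F => σ w := fun σ τ (h : σ w = τ w) =>
    RingEquiv.ext fun x => by rcases hall x with rfl | rfl | rfl | rfl <;> simp [h]
  have hsub : Set.range (fun σ : F ≃+* F => σ w) ⊆ ({w, w + 1} : Finset F) := by
    rintro _ ⟨σ, rfl⟩
    rcases hall (σ w) with e | e | e | e
    · exact absurd (σ.injective (e.trans (map_zero σ).symm)) hw0
    · exact absurd (σ.injective (e.trans (map_one σ).symm)) hw1
    · simp [e]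
    · simp [e]
  have h2 := Nat.card_mono (Finset.finite_toSet _) hsub
  rw [Nat.card_range_of_injective hinj] at h2
  refine h2.trans ?_
  rw [Nat.card_coe_set_eq, Set.ncard_coe_finset]
  exact Finset.card_le_two

theorem inndiag_range_normal {F : Type v} [Field F] [Fintype F] [DecidableEq F] :
    ((inndiagHom (n := 3) (F := F)).range).Normal := ⟨fun β hβ α => by
  obtain ⟨g, rfl⟩ := hβ
  rcases mulAut_psl_cases (by norm_num : 2 ≤ 3) α with ⟨h, σ, rfl⟩ | ⟨-, h, σ, rfl⟩
  · refine ⟨h * GeneralLinearGroup.map (σ : F →+* F) g * h⁻¹, ?_⟩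
    show semiAut _ _ = semiAut h σ * semiAut g _ * (semiAut h σ)⁻¹
    rw [eq_mul_inv_iff_mul_eq, semiAut_mul, semiAut_mul]
    congr 1
    · simp only [show GeneralLinearGroup.map ((RingEquiv.refl F : F ≃+* F) : F →+* F) h = h from
        Units.ext (Matrix.ext fun i j => rfl)]
      group
  · refine ⟨h * GeneralLinearGroup.map (σ : F →+* F) (glInvTrans g) * h⁻¹, ?_⟩
    show semiAut _ _ = semiAut h σ * itAut * semiAut g _ * (semiAut h σ * itAut)⁻¹
    rw [eq_mul_inv_iff_mul_eq, mul_assoc (semiAut h σ) itAut (semiAut g _), itAut_mul_semiAut,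
      ← mul_assoc, ← mul_assoc, semiAut_mul, semiAut_mul]
    congr 2
    · simp only [show GeneralLinearGroup.map ((RingEquiv.refl F : F ≃+* F) : F →+* F) h = h from
        Units.ext (Matrix.ext fun i j => rfl)]
      group⟩

theorem embed_of_psl_normal {G : Type u} [Group G] [Finite G] (N : Subgroup G) [N.Normal]
    {F : Type v} [Field F] [Fintype F]
    (hN : Nonempty (↥N ≃* Matrix.ProjectiveSpecialLinearGroup (Fin 3) F))
    (hC : Subgroup.centralizer (N : Set G) = ⊥) (hi : N.index ∣ 3) (hF : Fintype.card F = 4) :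
    ∃ f : G →* GL (Fin 3) F ⧸ Subgroup.center (GL (Fin 3) F), Function.Injective f := by
  classical
  obtain ⟨e⟩ := hN
  have hn2 : 2 ≤ 3 := by norm_num
  set D := (inndiagHom (n := 3) (F := F)).range
  haveI : D.Normal := inndiag_range_normal
  haveI : Finite (MulAut (ProjectiveSpecialLinearGroup (Fin 3) F)) :=
    Finite.of_injective (fun g : MulAut (ProjectiveSpecialLinearGroup (Fin 3) F) => (g : _ → _))
      DFunLike.coe_injective
  let φ : G →* MulAut (ProjectiveSpecialLinearGroup (Fin 3) F) :=
    (MulAut.congr e).toMonoidHom.comp MulAut.conjNormal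
  have hinj : Function.Injective φ := by
    rw [← MonoidHom.ker_eq_bot_iff, eq_bot_iff, ← hC]
    intro g hg
    refine Subgroup.mem_centralizer_iff.2 fun l hl => ?_
    have h1 : MulAut.conjNormal g = (1 : MulAut ↥N) :=
      (MulAut.congr e).injective ((MonoidHom.mem_ker.1 hg).trans (map_one _).symm)
    have h2 := congrArg Subtype.val (DFunLike.congr_fun h1 ⟨l, hl⟩)
    rw [MulAut.conjNormal_apply, MulAut.one_apply, mul_inv_eq_iff_eq_mul] at h2
    exact h2.symm
  have hker : (inndiagHom (n := 3) (F := F)).ker = Subgroup.center (GL (Fin 3) F) := by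
    ext g
    rw [MonoidHom.mem_ker]
    show semiAut g (RingEquiv.refl F) = 1 ↔ _
    rw [← semiAut_one, semiAut_eq_iff hn2]
    simp
  have hD : Nat.card ↥D = Nat.card (Matrix.ProjGenLinGroup (Fin 3) F) :=
    Nat.card_congr ((QuotientGroup.quotientKerEquivRange inndiagHom).symm.trans
      (QuotientGroup.quotientMulEquivOfEq hker)).toEquiv
  have hidx : D.index = 2 ∨ D.index = 4 := by
    have h := D.card_mul_index
    rw [card_mulAut_psl hn2, hD, if_neg (by norm_num), mul_comm] at h
    have hpos : 0 < Nat.card (Matrix.ProjGenLinGroup (Fin 3) F) := hD ▸ Nat.card_pos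
    have h' := Nat.eq_of_mul_eq_mul_right hpos h
    have := card_ringAut_four hF
    haveI : Finite (F ≃+* F) :=
      Finite.of_injective (fun σ : F ≃+* F => (σ : F → F)) DFunLike.coe_injective
    have : 0 < Nat.card (F ≃+* F) := Nat.card_pos
    omega
  have hmem : ∀ g : G, φ g ∈ D := by
    intro g
    have h1 : φ g ^ D.index ∈ D := D.pow_index_mem _
    have h3 : φ g ^ 3 ∈ D := by
      obtain ⟨c, hc⟩ := hi
      have hg : g ^ 3 ∈ N := by
        rw [hc, pow_mul]
        exact pow_mem (N.pow_index_mem g) c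
      rw [← map_pow]
      obtain ⟨s, hs⟩ := QuotientGroup.mk_surjective (e ⟨g ^ 3, hg⟩)
      refine ⟨SpecialLinearGroup.toGL s, ?_⟩
      rw [show inndiagHom (SpecialLinearGroup.toGL s) = MulAut.conj (QuotientGroup.mk s :
        ProjectiveSpecialLinearGroup (Fin 3) F) from (conj_eq_semiAut s).symm, hs]
      refine MulEquiv.ext fun y => ?_
      change e ⟨g ^ 3, hg⟩ * y * (e ⟨g ^ 3, hg⟩)⁻¹ = e (MulAut.conjNormal (g ^ 3) (e.symm y))
      conv_lhs => rw [← e.apply_symm_apply y, ← map_inv, ← map_mul, ← map_mul]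
      rfl
    have h4 : φ g ^ 4 ∈ D := by
      rcases hidx with h | h
      · rw [show 4 = D.index * 2 by omega, pow_mul]; exact pow_mem h1 2
      · rwa [← h]
    rw [pow_succ] at h4
    exact (D.mul_mem_cancel_left h3).1 h4
  refine ⟨((QuotientGroup.quotientKerEquivRange inndiagHom).symm.trans
      (QuotientGroup.quotientMulEquivOfEq hker)).toMonoidHom.comp (φ.codRestrict D hmem), ?_⟩
  have hcod : Function.Injective (φ.codRestrict D hmem) := fun a b h =>
    hinj (congrArg (fun r : ↥D => (r : MulAut (ProjectiveSpecialLinearGroup (Fin 3) F))) h :)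
  rw [MonoidHom.coe_comp]
  exact Function.Injective.comp (((QuotientGroup.quotientKerEquivRange inndiagHom).symm.trans
      (QuotientGroup.quotientMulEquivOfEq hker)).injective) hcod

end CfsgLib.SylL34
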