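import Cfsg.Agent.Lib.SylLThreeFour.Fusion
import Cfsg.Agent.Lib.Invol.ZStar
import Mathlib.LinearAlgebra.Matrix.GeneralLinearGroup.Projective
import Mathlib.GroupTheory.SchurZassenhaus

/-!
A group with a normal Sylow 2-subgroup isomorphic to that of `PSL(3, 4)` and trivial odd core embeds
in the three-dimensional projective general linear group over four elements: the odd part acts as a
3-group of order at most nine, and the diagonal matrices give a Sylow 3-subgroup of the
automorphism group of the unitriangular group.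
-/

set_option autoImplicit false
set_option linter.style.haveILetI false
set_option linter.unusedSectionVars false

namespace CfsgLib.SylL34

open Subgroup CfsgLib.Trans3.L34 CfsgLib.Recog.LThreeFour

universe u v

variable {G : Type u} [Group G]

theorem conj_range_lt {g : G} (q : ℕ → G) (hq : ∀ k, q k = g ^ k) {Q : Type u} (f : G → Q) (S : Finset Q)
    (hS : S.card ≤ 3) (hf : ∀ k, f (q k) ∈ S) :
    ∃ i d : ℕ, 0 < d ∧ d ≤ 3 ∧ f (g ^ i) = f (g ^ (i + d)) := by
  obtain ⟨i, hi, j, hj, hne, he⟩ := Finset.exists_ne_map_eq_of_card_lt_of_maps_to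
    (s := Finset.range 4) (t := S) (f := fun k => f (q k)) (by rw [Finset.card_range]; omega)
    (fun k _ => hf k)
  rw [Finset.mem_range] at hi hj
  simp only [hq] at he
  rcases Nat.lt_or_ge i j with h | h
  · exact ⟨i, j - i, by omega, by omega, by rw [Nat.add_sub_cancel' h.le]; exact he⟩
  · exact ⟨j, i - j, by omega, by omega, by rw [Nat.add_sub_cancel' h]; exact he.symm⟩

/-- A subgroup of odd order acting faithfully is a 3-group of order at most nine. -/
theorem Shape.odd_bound [Finite G] {S A B Z : Subgroup G} (h : Shape S A B Z) (X : Subgroup G)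
    (hX : Odd (Nat.card X)) (hXS : X ≤ normalizer (S : Set G))
    (hf : ∀ g ∈ X, (∀ s ∈ S, g * s = s * g) → g = 1) : IsPGroup 3 ↥X ∧ Nat.card X ≤ 9 := by
  classical
  have hodd : ∀ g ∈ X, Odd (orderOf g) := fun g hg => by
    refine Odd.of_dvd_nat hX ?_
    rw [← Subgroup.orderOf_mk g hg]
    exact orderOf_dvd_natCard _
  have hnA : X ≤ normalizer (A : Set G) := by
    have key : ∀ g ∈ X, cj g A = A ∨ cj g A = B := fun g hg =>
      h.elem_eq (fun x hx => by
        have := conj_mem_of_normalizer (hXS hg) (h.hA (mem_cj.1 hx))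
        simpa [mul_assoc] using this)
        (by rw [CfsgLib.Recog.LThreeFour.card_cj, h.cardA])
        (fun x hx => by
          have := h.eA _ (mem_cj.1 hx)
          rwa [show g⁻¹ * x * g * (g⁻¹ * x * g) = g⁻¹ * (x * x) * g⁻¹⁻¹ by group,
            conj_eq_one_iff] at this)
    have keyB : ∀ g ∈ X, cj g B = A ∨ cj g B = B := fun g hg =>
      h.elem_eq (fun x hx => by
        have := conj_mem_of_normalizer (hXS hg) (h.hB (mem_cj.1 hx))
        simpa [mul_assoc] using this)
        (by rw [CfsgLib.Recog.LThreeFour.card_cj, h.cardB])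
        (fun x hx => by
          have := h.eB _ (mem_cj.1 hx)
          rwa [show g⁻¹ * x * g * (g⁻¹ * x * g) = g⁻¹ * (x * x) * g⁻¹⁻¹ by group,
            conj_eq_one_iff] at this)
    have hsq : ∀ g ∈ X, cj (g ^ 2) A = A := fun g hg => by
      rw [pow_two, cj_mul]
      rcases key g hg with e | e
      · rw [e, e]
      · rcases keyB g hg with e' | e'
        · rw [e, e']
        · exact absurd (cj_inj (g := g) (e.trans e'.symm)) h.A_ne_B
    intro g hg
    obtain ⟨k, hk⟩ := pow_sq_eq (hodd g hg)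
    rw [← hk]
    exact pow_mem (cj_eq_self_iff.1 (hsq g hg)) k
  have hnB : X ≤ normalizer (B : Set G) := by
    intro g hg
    refine cj_eq_self_iff.1 ?_
    rcases h.elem_eq (E := cj g B) (fun x hx => by
        have := conj_mem_of_normalizer (hXS hg) (h.hB (mem_cj.1 hx))
        simpa [mul_assoc] using this)
        (by rw [CfsgLib.Recog.LThreeFour.card_cj, h.cardB])
        (fun x hx => by
          have := h.eB _ (mem_cj.1 hx)
          rwa [show g⁻¹ * x * g * (g⁻¹ * x * g) = g⁻¹ * (x * x) * g⁻¹⁻¹ by group,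
            conj_eq_one_iff] at this) with e | e
    · exact absurd (cj_inj (g := g)
        ((cj_eq_self_iff.2 (hnA hg)).trans e.symm)) h.A_ne_B
    · exact e
  have hnZ : X ≤ normalizer (Z : Set G) := fun g hg => mem_normalizer_iff.2 fun x => by
    rw [← h.inter, mem_inf, mem_inf, ← mem_normalizer_iff.1 (hnA hg) x, ← mem_normalizer_iff.1 (hnB hg) x]
  obtain ⟨a, ha, haZ⟩ := h.exists_A_not_Z
  obtain ⟨y, hy, hyZ, hay⟩ : ∃ y ∈ A, y ∉ Z ∧ a⁻¹ * y ∉ Z := by
    by_contra hne
    push Not at hne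
    haveI : Finite A := inferInstance
    let f : A → Bool × Z := fun w =>
      if hw : (w : G) ∈ Z then (false, ⟨w, hw⟩) else (true, ⟨a⁻¹ * w, hne w w.2 hw⟩)
    have hfi : Function.Injective f := by
      intro u w e
      simp only [f] at e
      split at e <;> split at e <;>
        simp only [Prod.mk.injEq, Subtype.ext_iff, Bool.false_eq_true, Bool.true_eq_false, false_and] at e
      · exact Subtype.ext e.2
      · exact Subtype.ext (mul_left_cancel e.2)
    have := Nat.card_le_card_of_injective f hfi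
    rw [h.cardA, Nat.card_prod, h.cardZ, Nat.card_eq_fintype_card, Fintype.card_bool] at this
    omega
  obtain ⟨z, hz, hz1⟩ : ∃ z ∈ Z, z ≠ 1 := by
    rcases Subgroup.bot_or_exists_ne_one Z with e | e
    · have := h.cardZ; rw [e, card_bot] at this; omega
    · exact e
  -- a fixed coset and a fixed involution force the identity
  have triv : ∀ g ∈ X, Fixes Z g a → g * z = z * g → g = 1 := by
    intro g hg hga hgz
    have hcZ : ∀ x ∈ Z, g * x = x * g := fun x hx => h.fix_Z (hodd g hg) (hnZ hg) hz hz1 hgz hx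
    have hA : ∀ x ∈ A, g * x = x * g := fun x hx =>
      h.cent_of_fixes (hodd g hg) (hnA hg) hcZ hx (h.fix_coset (hodd g hg) (hnA hg) (hnZ hg) ha haZ hga hx)
    have hB : ∀ x ∈ B, g * x = x * g := fun x hx =>
      h.symm.cent_of_fixes (hodd g hg) (hnB hg) hcZ hx (h.fix_other (hnB hg) hcZ ha haZ hga hx)
    refine hf g hg fun s hs => ?_
    obtain ⟨u, hu, w, hw, rfl⟩ := h.exists_mul hs
    rw [← mul_assoc, hA u hu, mul_assoc, hB w hw, mul_assoc]
  let fQ : G → G ⧸ Z := fun g => QuotientGroup.mk (g * a * g⁻¹)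
  let SQ : Finset (G ⧸ Z) := {QuotientGroup.mk a, QuotientGroup.mk y, QuotientGroup.mk (a * y)}
  have hSQ : SQ.card ≤ 3 := Finset.card_le_three
  have hfQ : ∀ g ∈ X, fQ g ∈ SQ := by
    intro g hg
    have hw : g * a * g⁻¹ ∈ A := conj_mem_of_normalizer (hnA hg) ha
    simp only [fQ, SQ, Finset.mem_insert, Finset.mem_singleton, QuotientGroup.eq]
    have hinv : ∀ u w : G, u⁻¹ * w ∈ Z → w⁻¹ * u ∈ Z := fun u w hm => by simpa using inv_mem hm
    rcases h.cosets ha haZ hy hyZ hay hw with e | e | e | e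
    · exfalso
      refine haZ ?_
      have := conj_mem_of_normalizer (inv_mem (hnZ hg)) e
      rwa [show g⁻¹ * (g * a * g⁻¹) * g⁻¹⁻¹ = a by group] at this
    · exact Or.inl (hinv _ _ e)
    · exact Or.inr (Or.inl (hinv _ _ e))
    · exact Or.inr (Or.inr (hinv _ _ e))
  haveI : Fintype Z := Fintype.ofFinite _
  let SZ : Finset G := ((Finset.univ : Finset Z).erase 1).map ⟨_, Subtype.val_injective⟩
  have hSZ : SZ.card ≤ 3 := by
    rw [Finset.card_map, Finset.card_erase_of_mem (Finset.mem_univ _), Finset.card_univ,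
      ← Nat.card_eq_fintype_card, h.cardZ]
  have hfZ : ∀ g ∈ X, g * z * g⁻¹ ∈ SZ := fun g hg => by
    refine Finset.mem_map.2 ⟨⟨_, conj_mem_of_normalizer (hnZ hg) hz⟩, Finset.mem_erase.2
      ⟨fun e => hz1 ?_, Finset.mem_univ _⟩, rfl⟩
    have := congrArg Subtype.val e
    exact conj_eq_one_iff.1 this
  -- equal images
  have same : ∀ g ∈ X, ∀ k ∈ X, fQ g = fQ k → Fixes Z (g⁻¹ * k) a := by
    intro g hg k hk e
    simp only [fQ, QuotientGroup.eq] at e
    have := conj_mem_of_normalizer (inv_mem (hnZ hg)) e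
    unfold Fixes
    rwa [show g⁻¹ * ((g * a * g⁻¹)⁻¹ * (k * a * k⁻¹)) * g⁻¹⁻¹ =
      a⁻¹ * (g⁻¹ * k * a * (g⁻¹ * k)⁻¹) by group] at this
  have sameZ : ∀ g k : G, g * z * g⁻¹ = k * z * k⁻¹ → g⁻¹ * k * z = z * (g⁻¹ * k) := by
    intro g k e
    calc g⁻¹ * k * z = g⁻¹ * (k * z * k⁻¹) * k := by group
      _ = z * (g⁻¹ * k) := by rw [← e]; group
  constructor
  · intro g
    refine ⟨1, Subtype.ext ?_⟩
    show (g : G) ^ (3 ^ 1) = 1
    rw [pow_one]
    have hp : ∀ k, (g : G) ^ k ∈ X := fun k => pow_mem g.2 k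
    refine triv _ (hp 3) ?_ ?_
    · obtain ⟨i, d, hd0, hd3, e⟩ := conj_range_lt (fun k => (g : G) ^ k) (fun _ => rfl) fQ SQ hSQ
        fun k => hfQ _ (hp k)
      have h1 := same _ (hp i) _ (hp (i + d)) e
      rw [pow_add, inv_mul_cancel_left] at h1
      interval_cases d
      · rw [pow_one] at h1; exact h1.pow (hnZ g.2) 3
      · exact (Fixes.of_sq (hodd _ g.2) (hnZ g.2) h1).pow (hnZ g.2) 3
      · exact h1
    · obtain ⟨i, d, hd0, hd3, e⟩ := conj_range_lt (fun k => (g : G) ^ k) (fun _ => rfl)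
        (fun x => x * z * x⁻¹) SZ hSZ fun k => hfZ _ (hp k)
      have h1 : Commute ((g : G) ^ d) z := by
        have := sameZ _ _ e
        rwa [pow_add, inv_mul_cancel_left] at this
      interval_cases d
      · rw [pow_one] at h1; exact h1.pow_left 3
      · obtain ⟨k, hk⟩ := pow_sq_eq (hodd _ g.2)
        have := h1.pow_left k
        rw [hk] at this
        exact this.pow_left 3
      · exact h1
  · let F' : X → ↥(SQ ×ˢ SZ) := fun g =>
      ⟨(fQ g, (g : G) * z * (g : G)⁻¹), Finset.mem_product.2 ⟨hfQ g g.2, hfZ g g.2⟩⟩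
    have hF' : Function.Injective F' := by
      intro g k e
      simp only [F', Subtype.mk.injEq, Prod.mk.injEq] at e
      exact Subtype.ext (inv_mul_eq_one.1 (triv _ (mul_mem (inv_mem g.2) k.2)
        (same g g.2 k k.2 e.1) (sameZ g k e.2)))
    refine (Nat.card_le_card_of_injective F' hF').trans ?_
    rw [Nat.card_eq_fintype_card, Fintype.card_coe, Finset.card_product]
    exact Nat.mul_le_mul hSQ hSZ

section Matrices

variable {F : Type v} [Field F]

local notation "PGLT" => GL (Fin 3) F ⧸ Subgroup.center (GL (Fin 3) F)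

/-- The natural map into the projective general linear group. -/
def toQ : Matrix.ProjectiveSpecialLinearGroup (Fin 3) F →* PGLT :=
  Matrix.ProjectiveSpecialLinearGroup.toPGL

/-- Diagonal matrices. -/
def diagGL : Fˣ × Fˣ →* GL (Fin 3) F where
  toFun p := ⟨Matrix.diagonal ![(p.1 : F), 1, (p.2 : F)], Matrix.diagonal ![((p.1⁻¹ : Fˣ) : F), 1, ((p.2⁻¹ : Fˣ) : F)],
    by ext i j; fin_cases i <;> fin_cases j <;> simp [Matrix.mul_apply, Fin.sum_univ_three, Matrix.diagonal],
    by ext i j; fin_cases i <;> fin_cases j <;> simp [Matrix.mul_apply, Fin.sum_univ_three, Matrix.diagonal]⟩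
  map_one' := by ext i j; fin_cases i <;> fin_cases j <;> simp [Matrix.diagonal]
  map_mul' p q := by
    ext i j
    fin_cases i <;> fin_cases j <;> simp [Matrix.mul_apply, Fin.sum_univ_three, Matrix.diagonal]

/-- The torus. -/
def torusQ : Fˣ × Fˣ →* PGLT := (QuotientGroup.mk' _).comp diagGL

theorem torus_conj (p : Fˣ × Fˣ) (a b c : F) :
    torusQ p * toQ (pu a b c) * (torusQ p)⁻¹ =
      toQ (pu ((p.1 : F) * a) (((p.2⁻¹ : Fˣ) : F) * b) ((p.1 : F) * ((p.2⁻¹ : Fˣ) : F) * c)) := by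
  rw [mul_inv_eq_iff_eq_mul]
  show QuotientGroup.mk (diagGL p) * QuotientGroup.mk (Matrix.SpecialLinearGroup.toGL (uni F a b c)) =
    QuotientGroup.mk (Matrix.SpecialLinearGroup.toGL (uni F _ _ _)) * QuotientGroup.mk (diagGL p)
  rw [← QuotientGroup.mk_mul, ← QuotientGroup.mk_mul]
  congr 1
  ext i j
  fin_cases i <;> fin_cases j <;>
    simp [diagGL, uni, Matrix.SpecialLinearGroup.toGL, Matrix.mul_apply, Fin.sum_univ_three, Matrix.diagonal, mul_comm, mul_left_comm]

/-- The unitriangular group. -/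
def uQ : Subgroup PGLT := (uT : Subgroup (Matrix.ProjectiveSpecialLinearGroup (Fin 3) F)).map toQ

theorem mem_uQ {x : PGLT} : x ∈ uQ ↔ ∃ a b c : F, toQ (pu a b c) = x := by
  constructor
  · rintro ⟨_, ⟨a, b, c, rfl⟩, rfl⟩; exact ⟨a, b, c, rfl⟩
  · rintro ⟨a, b, c, rfl⟩; exact ⟨_, ⟨a, b, c, rfl⟩, rfl⟩

theorem torus_normalizes (p : Fˣ × Fˣ) : torusQ p ∈ normalizer (uQ (F := F) : Set PGLT) := by
  have key : ∀ (q : Fˣ × Fˣ) x, x ∈ uQ → torusQ q * x * (torusQ q)⁻¹ ∈ uQ := by
    intro q x hx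
    obtain ⟨a, b, c, rfl⟩ := mem_uQ.1 hx
    exact mem_uQ.2 ⟨_, _, _, (torus_conj q a b c).symm⟩
  refine mem_normalizer_iff.2 fun x => ⟨key p x, fun hx => ?_⟩
  have := key p⁻¹ _ hx
  rwa [map_inv, show (torusQ p)⁻¹ * (torusQ p * x * (torusQ p)⁻¹) * (torusQ p)⁻¹⁻¹ = x by group] at this

/-- The torus as automorphisms of the unitriangular group. -/
def torusAut : Fˣ × Fˣ →* MulAut ↥(uQ (F := F)) :=
  uQ.normalizerMonoidHom.comp (torusQ.codRestrict _ torus_normalizes)

theorem torusAut_apply (p : Fˣ × Fˣ) (u : ↥(uQ (F := F))) :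
    ((torusAut p u : ↥(uQ (F := F))) : PGLT) = torusQ p * u * (torusQ p)⁻¹ := rfl

theorem torusAut_injective : Function.Injective (torusAut (F := F)) := by
  rw [← MonoidHom.ker_eq_bot_iff, eq_bot_iff]
  intro p hp
  have key : ∀ a b c : F, pu ((p.1 : F) * a) (((p.2⁻¹ : Fˣ) : F) * b) ((p.1 : F) * ((p.2⁻¹ : Fˣ) : F) * c) =
      pu a b c := by
    intro a b c
    have := congrArg (fun φ : MulAut ↥(uQ (F := F)) => ((φ ⟨_, mem_uQ.2 ⟨a, b, c, rfl⟩⟩ : ↥(uQ (F := F))) : PGLT))
      (MonoidHom.mem_ker.1 hp)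
    simp only [torusAut_apply, MulAut.one_apply, torus_conj] at this
    exact Matrix.ProjectiveSpecialLinearGroup.toPGL_injective this
  have h1 := (pu_inj (key 1 0 0)).1
  have h2 := (pu_inj (key 0 1 0)).2.1
  rw [mul_one] at h1 h2
  rw [Units.val_eq_one] at h1
  rw [Units.val_eq_one, inv_eq_one] at h2
  exact Prod.ext h1 h2

variable [Fintype F]

theorem card_torus (hF : Fintype.card F = 4) : Nat.card (Fˣ × Fˣ) = 9 := by
  rw [Nat.card_prod, Nat.card_units, Nat.card_eq_fintype_card, hF]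

/-- The torus is a Sylow 3-subgroup of the automorphisms. -/
theorem torusAut_sylow (hF : Fintype.card F = 4) :
    ∃ R : Sylow 3 (MulAut ↥(uQ (F := F))), (R : Subgroup _) = (torusAut (F := F)).range := by
  haveI : Fact (Nat.Prime 3) := ⟨Nat.prime_three⟩
  haveI : Fact (Nat.Prime 2) := ⟨Nat.prime_two⟩
  haveI : Finite (MulAut ↥(uQ (F := F))) := Finite.of_injective _ MulEquiv.toEquiv_injective
  have hcard : Nat.card (torusAut (F := F)).range = 9 := by
    rw [← Nat.card_congr (MonoidHom.ofInjective torusAut_injective).toEquiv, card_torus hF]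
  obtain ⟨R, hR⟩ := (IsPGroup.of_card (p := 3) (n := 2) (G := ↥(torusAut (F := F)).range)
    (by rw [hcard]; norm_num)).exists_le_sylow
  refine ⟨R, (Subgroup.eq_of_le_of_card_ge hR ?_).symm⟩
  rw [hcard]
  let X := (R : Subgroup (MulAut ↥(uQ (F := F))))
  let H := ↥(uQ (F := F)) ⋊[X.subtype] ↥X
  haveI : Finite H := Finite.of_equiv _ SemidirectProduct.equivProd.symm
  obtain ⟨P₀, hP₀⟩ := (CfsgLib.Recog.LThreeFour.cfg_psl hF).exists_sylow
  have hiso : Nonempty (↥(SemidirectProduct.inl : _ →* H).range ≃* ↥(P₀ : Subgroup _)) :=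
    ⟨(MonoidHom.ofInjective SemidirectProduct.inl_injective).symm.trans
      (((uT : Subgroup (Matrix.ProjectiveSpecialLinearGroup (Fin 3) F)).equivMapOfInjective toQ
        Matrix.ProjectiveSpecialLinearGroup.toPGL_injective).symm.trans (MulEquiv.subgroupCongr hP₀.symm))⟩
  obtain ⟨A, B, Z, hsh⟩ := exists_shape hF _ P₀ hiso
  have hXodd : Odd (Nat.card X) := by
    obtain ⟨n, hn⟩ := IsPGroup.iff_card.1 R.2
    rw [hn]
    exact Odd.pow (by decide)
  have hcX : Nat.card (SemidirectProduct.inr : ↥X →* H).range = Nat.card X :=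
    (Nat.card_congr (MonoidHom.ofInjective SemidirectProduct.inr_injective).toEquiv).symm
  haveI : ((SemidirectProduct.inl : _ →* H).range).Normal := by
    rw [SemidirectProduct.range_inl_eq_ker_rightHom]; infer_instance
  have := (hsh.odd_bound (SemidirectProduct.inr : ↥X →* H).range (hcX ▸ hXodd)
    (by rw [Subgroup.normalizer_eq_top]; exact le_top) ?_).2
  · rwa [hcX] at this
  · rintro _ ⟨x, rfl⟩ hx
    have hx1 : (x : MulAut ↥(uQ (F := F))) = 1 := MulEquiv.ext fun u => by
      refine SemidirectProduct.inl_injective (φ := X.subtype) ?_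
      show SemidirectProduct.inl (X.subtype x u) = SemidirectProduct.inl u
      rw [SemidirectProduct.inl_aut, map_inv, mul_inv_eq_iff_eq_mul]
      exact hx _ ⟨u, rfl⟩
    rw [show x = 1 from Subtype.ext hx1, map_one]

end Matrices

/-- Normal Sylow 2-subgroup of that shape and trivial odd core: an embedding. -/
theorem embed_of_P_normal [Finite G] {F : Type v} [Field F] [Fintype F] {P : Sylow 2 G} {A B Z : Subgroup G}
    (h : Shape (P : Subgroup G) A B Z) (hPn : (P : Subgroup G).Normal) (hO : Cfsg.oddCore G = ⊥)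
    (P0 : Sylow 2 (Matrix.ProjectiveSpecialLinearGroup (Fin 3) F))
    (hS : Nonempty (↥(P : Subgroup G) ≃* ↥(P0 : Subgroup (Matrix.ProjectiveSpecialLinearGroup (Fin 3) F)))) (hF : Fintype.card F = 4) :
    ∃ f : G →* GL (Fin 3) F ⧸ Subgroup.center (GL (Fin 3) F), Function.Injective f := by
  haveI : Fact (Nat.Prime 2) := ⟨Nat.prime_two⟩
  haveI : Fact (Nat.Prime 3) := ⟨Nat.prime_three⟩
  haveI := hPn
  have hcop : (Nat.card (P : Subgroup G)).Coprime (P : Subgroup G).index := P.card_coprime_index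
  obtain ⟨E, hE⟩ := Subgroup.exists_right_complement'_of_coprime hcop
  have hEodd : Odd (Nat.card E) := by
    rw [← hE.symm.index_eq_card, Nat.odd_iff, ← Nat.two_dvd_ne_zero]
    exact P.not_dvd_index
  let ψ : ↥E →* MulAut ↥(P : Subgroup G) := MulAut.conjNormal.comp E.subtype
  have hψ : ∀ (k : E) (x : ↥(P : Subgroup G)), ((ψ k x : ↥(P : Subgroup G)) : G) = k * x * (k : G)⁻¹ :=
    fun k x => MulAut.conjNormal_apply _ _
  -- faithful: the kernel is an odd normal subgroup
  have hfaith : ∀ g ∈ E, (∀ s ∈ (P : Subgroup G), g * s = s * g) → g = 1 := by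
    intro g hg hc
    let E0 := E ⊓ Subgroup.centralizer ((P : Subgroup G) : Set G)
    have hn : E0.Normal := by
      rw [← Subgroup.normalizer_eq_top_iff, ← top_le_iff, ← hE.sup_eq_top]
      refine sup_le (fun p hp => mem_normalizer_iff.2 fun x => ?_) fun k hk => mem_normalizer_iff.2 fun x => ?_
      · constructor
        · intro hx
          rwa [← Subgroup.mem_centralizer_iff.1 hx.2 p hp |>.symm, mul_inv_cancel_right]
        · intro hx
          have := Subgroup.mem_centralizer_iff.1 hx.2 p⁻¹ ((P : Subgroup G).inv_mem hp)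
          have e : x = p * x * p⁻¹ := by
            calc x = p⁻¹ * (p * x * p⁻¹) * p := by group
              _ = p * x * p⁻¹ * p⁻¹ * p := by rw [this]
              _ = p * x * p⁻¹ := by group
          rwa [e]
      · have hkn : ∀ j ∈ E, ∀ x, x ∈ E0 → j * x * j⁻¹ ∈ E0 := fun j hj x hx =>
          ⟨E.mul_mem (E.mul_mem hj hx.1) (E.inv_mem hj), Subgroup.mem_centralizer_iff.2 fun s hs => by
            have := Subgroup.mem_centralizer_iff.1 hx.2 (j⁻¹ * s * j⁻¹⁻¹) (hPn.conj_mem s hs j⁻¹)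
            calc s * (j * x * j⁻¹) = j * ((j⁻¹ * s * j⁻¹⁻¹) * x) * j⁻¹ := by group
              _ = j * x * j⁻¹ * s := by rw [this]; group⟩
        refine ⟨hkn k hk x, fun hx => ?_⟩
        have := hkn k⁻¹ (inv_mem hk) _ hx
        rwa [show k⁻¹ * (k * x * k⁻¹) * k⁻¹⁻¹ = x by group] at this
    have hodd : Odd (Nat.card E0) := hEodd.of_dvd_nat (Subgroup.card_dvd_of_le inf_le_left)
    have hmem : g ∈ E0 := ⟨hg, Subgroup.mem_centralizer_iff.2 fun s hs => (hc s hs).symm⟩
    have := CfsgLib.Invol.le_oddCore hn hodd hmem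
    rwa [hO, Subgroup.mem_bot] at this
  obtain ⟨h3, -⟩ := h.odd_bound E hEodd (by rw [Subgroup.normalizer_eq_top]; exact le_top) hfaith
  obtain ⟨eS⟩ := hS
  obtain ⟨P₁, hP₁⟩ := (CfsgLib.Recog.LThreeFour.cfg_psl hF).exists_sylow
  let e : ↥(P : Subgroup G) ≃* ↥(uQ (F := F)) :=
    (eS.trans (Sylow.equiv P0 P₁)).trans ((MulEquiv.subgroupCongr hP₁).trans
      ((uT : Subgroup (Matrix.ProjectiveSpecialLinearGroup (Fin 3) F)).equivMapOfInjective toQ
        Matrix.ProjectiveSpecialLinearGroup.toPGL_injective))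
  let Ψ : ↥E →* MulAut ↥(uQ (F := F)) := (MulAut.congr e).toMonoidHom.comp ψ
  have hΨ : ∀ k x, Ψ k (e x) = e (ψ k x) := fun k x => by
    simp [Ψ, MulAut.congr]
  have hΨ1 : ∀ k, Ψ k = 1 → k = 1 := fun k hk => by
    refine Subtype.ext (hfaith _ k.2 fun s hs => ?_)
    have := hΨ k ⟨s, hs⟩
    rw [hk, MulAut.one_apply] at this
    have h2 := congrArg Subtype.val (e.injective this)
    rw [hψ] at h2
    exact mul_inv_eq_iff_eq_mul.1 h2.symm
  haveI : Finite (MulAut ↥(uQ (F := F))) := Finite.of_injective _ MulEquiv.toEquiv_injective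
  obtain ⟨R, hR⟩ := torusAut_sylow hF
  obtain ⟨R₂, hR₂⟩ := (h3.of_surjective Ψ.rangeRestrict Ψ.rangeRestrict_surjective).exists_le_sylow
  obtain ⟨g, hg⟩ := MulAction.exists_smul_eq (MulAut ↥(uQ (F := F))) R₂ R
  have hgK : ∀ k, g * Ψ k * g⁻¹ ∈ (torusAut (F := F)).range := fun k => by
    rw [← hR, ← hg, Sylow.coe_subgroup_smul]
    exact Subgroup.smul_mem_pointwise_smul _ (MulAut.conj g) _ (hR₂ ⟨k, rfl⟩)
  let τ : ↥E →* Fˣ × Fˣ :=
    ((MonoidHom.ofInjective torusAut_injective).symm.toMonoidHom).comp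
      (((MulAut.conj g).toMonoidHom.comp Ψ).codRestrict _ hgK)
  have hτ : ∀ k, torusAut (τ k) = g * Ψ k * g⁻¹ := fun k => by
    have := congrArg Subtype.val ((MonoidHom.ofInjective (torusAut_injective (F := F))).apply_symm_apply
      ⟨_, hgK k⟩)
    exact this
  let fn : ↥(P : Subgroup G) →* GL (Fin 3) F ⧸ Subgroup.center (GL (Fin 3) F) :=
    (uQ (F := F)).subtype.comp (e.trans g).toMonoidHom
  let fg : ↥E →* GL (Fin 3) F ⧸ Subgroup.center (GL (Fin 3) F) := torusQ.comp τ
  have hfn : Function.Injective fn := Subtype.val_injective.comp (e.trans g).injective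
  let L := SemidirectProduct.lift (φ := (Subgroup.normalizerMonoidHom _).comp
      (Subgroup.inclusion ((P : Subgroup G).normalizer_eq_top ▸ le_top : E ≤ _))) fn fg (fun k => by
    refine MonoidHom.ext fun x => ?_
    show ((g (e _) : ↥(uQ (F := F))) : _) = torusQ (τ k) * (g (e x) : _) * (torusQ (τ k))⁻¹
    rw [← torusAut_apply, hτ]
    refine congrArg Subtype.val ?_
    show g (e _) = g (Ψ k (g⁻¹ (g (e x))))
    rw [MulAut.inv_apply_self, hΨ]
    exact congrArg (fun y => g (e y)) (Subtype.ext ((hψ k x).symm)))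
  refine ⟨L.comp (SemidirectProduct.mulEquivSubgroup hE).symm.toMonoidHom, ?_⟩
  rw [MonoidHom.coe_comp]
  refine Function.Injective.comp ?_ (SemidirectProduct.mulEquivSubgroup hE).symm.injective
  rw [← MonoidHom.ker_eq_bot_iff, eq_bot_iff]
  intro w hw
  have hw' : fn w.1 * fg w.2 = 1 := hw
  have ht : torusQ (τ w.2) ∈ uQ (F := F) := by
    have := eq_inv_of_mul_eq_one_right hw'
    rw [show torusQ (τ w.2) = (fn w.1)⁻¹ from this]
    exact inv_mem ((e.trans g) w.1).2
  have h3t : torusQ (τ w.2) ^ 3 = 1 := by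
    rw [← map_pow, show τ w.2 ^ 3 = 1 from Prod.ext (Units.ext (by
      simpa using CfsgLib.KnownC.pow_three_of_card_four hF (τ w.2).1.ne_zero)) (Units.ext (by
      simpa using CfsgLib.KnownC.pow_three_of_card_four hF (τ w.2).2.ne_zero)), map_one]
  have h64 : torusQ (τ w.2) ^ 64 = 1 := by
    have hc : Nat.card ↥(uQ (F := F)) = 64 := by rw [← Nat.card_congr e.toEquiv, h.cardS]
    have := pow_card_eq_one' (x := (⟨_, ht⟩ : ↥(uQ (F := F))))
    rw [hc] at this
    exact congrArg Subtype.val this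
  have hone : torusQ (τ w.2) = 1 := by
    have := pow_gcd_eq_one.2 ⟨h3t, h64⟩
    rwa [show Nat.gcd 3 64 = 1 from rfl, pow_one] at this
  have hA1 : torusAut (τ w.2) = 1 := MulEquiv.ext fun u => Subtype.ext (by
    rw [torusAut_apply, hone, one_mul, inv_one, mul_one]; rfl)
  rw [hτ, mul_inv_eq_one, mul_eq_left] at hA1
  have h2 : w.2 = 1 := hΨ1 _ hA1
  have h1 : w.1 = 1 := hfn (by
    rw [h2] at hw'
    simpa using hw')
  exact SemidirectProduct.ext h1 h2

end CfsgLib.SylL34
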