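import Cfsg.Agent.Lib.SylLThreeFour.Basic
import Mathlib.GroupTheory.Transfer

/-!
Fusion in a group with a Sylow 2-subgroup of the shape of that of `PSL(3, 4)`.
-/

set_option autoImplicit false

namespace CfsgLib.SylL34

open Subgroup CfsgLib.Recog.LThreeFour

universe u

variable {G : Type u} [Group G]

/-- Every element of the normalizer of the first subgroup normalizes the centre. -/
def SType (A Z : Subgroup G) : Prop := normalizer (A : Set G) ≤ normalizer (Z : Set G)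

/-- The normalizer of `A` is transitive on the involutions of `A`. -/
def LType (A : Subgroup G) : Prop :=
  ∀ a ∈ A, a ≠ 1 → ∀ b ∈ A, b ≠ 1 → ∃ g ∈ normalizer (A : Set G), g * a * g⁻¹ = b

theorem conj_mem_of_normalizer {H : Subgroup G} {g x : G} (hg : g ∈ normalizer (H : Set G))
    (hx : x ∈ H) : g * x * g⁻¹ ∈ H := (mem_normalizer_iff.1 hg x).1 hx

theorem mem_cj_of {H : Subgroup G} (g : G) {x : G} (hx : x ∈ H) : g * x * g⁻¹ ∈ cj g H :=
  mem_cj.2 (by simpa [mul_assoc] using hx)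

/-- `g` fixes the coset of `y` modulo `N`. -/
def Fixes (N : Subgroup G) (g y : G) : Prop := y⁻¹ * (g * y * g⁻¹) ∈ N

theorem Fixes.mul {N : Subgroup G} {g k y : G} (hN : g ∈ normalizer (N : Set G))
    (hg : Fixes N g y) (hk : Fixes N k y) : Fixes N (g * k) y := by
  unfold Fixes at *
  rw [show y⁻¹ * (g * k * y * (g * k)⁻¹) =
    (y⁻¹ * (g * y * g⁻¹)) * (g * (y⁻¹ * (k * y * k⁻¹)) * g⁻¹) by group]
  exact mul_mem hg (conj_mem_of_normalizer hN hk)

theorem Fixes.one {N : Subgroup G} (y : G) : Fixes N 1 y := by simp [Fixes]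

theorem Fixes.pow {N : Subgroup G} {g y : G} (hN : g ∈ normalizer (N : Set G))
    (hg : Fixes N g y) : ∀ k : ℕ, Fixes N (g ^ k) y
  | 0 => by simpa using Fixes.one y
  | k + 1 => by rw [pow_succ']; exact Fixes.mul hN hg (Fixes.pow hN hg k)

theorem pow_sq_eq {g : G} (h : Odd (orderOf g)) : ∃ k : ℕ, (g ^ 2) ^ k = g := by
  obtain ⟨m, hm⟩ := h
  refine ⟨m + 1, ?_⟩
  rw [← pow_mul, show 2 * (m + 1) = orderOf g + 1 by omega, pow_succ, pow_orderOf_eq_one, one_mul]

theorem Fixes.of_sq {N : Subgroup G} {g y : G} (hodd : Odd (orderOf g))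
    (hN : g ∈ normalizer (N : Set G)) (h : Fixes N (g ^ 2) y) : Fixes N g y := by
  obtain ⟨k, hk⟩ := pow_sq_eq hodd
  have := Fixes.pow (pow_mem hN 2) h k
  rwa [hk] at this

namespace Shape

variable {S A B Z : Subgroup G} (h : Shape S A B Z)
include h

theorem Z_comm {x y : G} (hx : x ∈ Z) (hy : y ∈ A) : x * y = y * x := h.cen x hx y (h.hA hy)

/-- Four cosets of `Z` in `A`. -/
theorem cosets {a y : G} (ha : a ∈ A) (haZ : a ∉ Z) (hy : y ∈ A) (hyZ : y ∉ Z)
    (hay : a⁻¹ * y ∉ Z) {w : G} (hw : w ∈ A) :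
    w ∈ Z ∨ a⁻¹ * w ∈ Z ∨ y⁻¹ * w ∈ Z ∨ (a * y)⁻¹ * w ∈ Z := by
  classical
  have hAfin : Finite A := Nat.finite_of_card_ne_zero (by rw [h.cardA]; norm_num)
  have hayZ : a * y ∉ Z := by
    rwa [show a * y = a⁻¹ * y by rw [inv_eq_of_mul_eq_one_right (h.eA a ha)]]
  let r : Fin 4 → A := ![1, ⟨a, ha⟩, ⟨y, hy⟩, ⟨a * y, mul_mem ha hy⟩]
  have hr : ∀ i j : Fin 4, ((r i : A) : G)⁻¹ * (r j : A) ∈ Z → i = j := by
    have ia := inv_eq_of_mul_eq_one_right (h.eA a ha)
    have iy := inv_eq_of_mul_eq_one_right (h.eA y hy)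
    have hc : y * a = a * y := comm_of_sq h.eA hy ha
    intro i j hij
    fin_cases i <;> fin_cases j <;> first
      | rfl
      | (exfalso
         simp [r, ia, iy] at hij
         first
          | exact haZ hij
          | exact hyZ hij
          | exact hayZ hij
          | exact hay (by rwa [ia])
          | (rw [hc] at hij; exact hayZ hij)
          | (rw [← mul_assoc, h.eA a ha, one_mul] at hij; exact hyZ hij)
          | (rw [← mul_assoc, h.eA y hy, one_mul] at hij; exact haZ hij)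
          | (rw [hc, mul_assoc, h.eA y hy, mul_one] at hij; exact haZ hij)
          | (rw [mul_assoc, h.eA a ha, mul_one] at hij; exact hyZ hij)
          | (rw [← mul_assoc, hc, mul_assoc, h.eA y hy, mul_one] at hij; exact haZ hij)
          | (rw [mul_assoc, ← hc, ← mul_assoc, h.eA a ha, one_mul] at hij; exact hyZ hij))
  let f : Fin 4 × Z → A := fun p => r p.1 * ⟨p.2, h.hZA p.2.2⟩
  have hf : Function.Injective f := by
    rintro ⟨i, z⟩ ⟨j, z'⟩ e
    have e' : ((r i : A) : G) * z = (r j : A) * z' := congrArg Subtype.val e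
    have : i = j := hr i j (by
      rw [show ((r i : A) : G)⁻¹ * (r j : A) = (z : G) * (z' : G)⁻¹ by
        rw [inv_mul_eq_iff_eq_mul, ← mul_assoc, e']; group]
      exact mul_mem z.2 (inv_mem z'.2))
    subst this
    exact Prod.ext rfl (Subtype.ext (mul_left_cancel e'))
  have hfin : Finite Z := Nat.finite_of_card_ne_zero (by rw [h.cardZ]; norm_num)
  have hsur : Function.Surjective f := by
    refine (hf.bijective_of_nat_card_le ?_).2
    rw [h.cardA, Nat.card_prod, h.cardZ, Nat.card_fin]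
  obtain ⟨⟨i, z⟩, hz⟩ := hsur ⟨w, hw⟩
  have hz' : ((r i : A) : G) * z = w := congrArg Subtype.val hz
  have : ((r i : A) : G)⁻¹ * w ∈ Z := by rw [← hz', inv_mul_cancel_left]; exact z.2
  fin_cases i <;> simp [r] at this
  · exact Or.inl this
  · exact Or.inr (Or.inl this)
  · exact Or.inr (Or.inr (Or.inl this))
  · exact Or.inr (Or.inr (Or.inr (by rw [mul_inv_rev]; exact this)))

/-- An odd element fixing one non-trivial coset of `Z` in `A` fixes all of them. -/
theorem fix_coset {g a : G} (hodd : Odd (orderOf g)) (hgA : g ∈ normalizer (A : Set G))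
    (hgZ : g ∈ normalizer (Z : Set G)) (ha : a ∈ A) (haZ : a ∉ Z) (hfix : Fixes Z g a)
    {y : G} (hy : y ∈ A) : Fixes Z g y := by
  by_cases hyZ : y ∈ Z
  · exact mul_mem (inv_mem hyZ) (conj_mem_of_normalizer hgZ hyZ)
  by_cases hay : a⁻¹ * y ∈ Z
  · unfold Fixes at *
    rw [show y⁻¹ * (g * y * g⁻¹) =
      (a⁻¹ * y)⁻¹ * (a⁻¹ * (g * a * g⁻¹)) * (g * (a⁻¹ * y) * g⁻¹) by group]
    exact mul_mem (mul_mem (inv_mem hay) hfix) (conj_mem_of_normalizer hgZ hay)
  have hwA : g * y * g⁻¹ ∈ A := conj_mem_of_normalizer hgA hy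
  rcases h.cosets ha haZ hy hyZ hay hwA with e | e | e | e
  · exfalso
    refine hyZ ?_
    have := conj_mem_of_normalizer (inv_mem hgZ) e
    rwa [show g⁻¹ * (g * y * g⁻¹) * g⁻¹⁻¹ = y by group] at this
  · exfalso
    refine hay ?_
    have := conj_mem_of_normalizer (inv_mem hgZ) (mul_mem (inv_mem hfix) e)
    rwa [show g⁻¹ * ((a⁻¹ * (g * a * g⁻¹))⁻¹ * (a⁻¹ * (g * y * g⁻¹))) * g⁻¹⁻¹ = a⁻¹ * y by group]
      at this
  · exact e
  · refine Fixes.of_sq hodd hgZ ?_
    unfold Fixes at *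
    have e1 : y⁻¹ * (g ^ 2 * y * (g ^ 2)⁻¹) = y⁻¹ * (a * a) * y * ((a * y)⁻¹ * (g * y * g⁻¹)) *
        ((g * y * g⁻¹)⁻¹ * (a⁻¹ * (g * a * g⁻¹)) * (g * y * g⁻¹)) *
        (g * ((a * y)⁻¹ * (g * y * g⁻¹)) * g⁻¹) := by
      rw [pow_two]; group
    rw [e1, h.eA a ha]
    refine mul_mem (mul_mem (mul_mem (by simp) e) ?_) (conj_mem_of_normalizer hgZ e)
    rw [mul_assoc, h.Z_comm hfix hwA, inv_mul_cancel_left]
    exact hfix

/-- An odd element normalizing `Z` and fixing one of its involutions centralizes it. -/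
theorem fix_Z {g z : G} (hodd : Odd (orderOf g)) (hgZ : g ∈ normalizer (Z : Set G)) (hz : z ∈ Z)
    (hz1 : z ≠ 1) (hfix : g * z = z * g) {y : G} (hy : y ∈ Z) : g * y = y * g := by
  classical
  have hfin : Finite Z := Nat.finite_of_card_ne_zero (by rw [h.cardZ]; norm_num)
  haveI : Fintype Z := Fintype.ofFinite _
  by_cases hy1 : y = 1
  · simp [hy1]
  by_cases hyz : y = z
  · rw [hyz, hfix]
  have hzy1 : z * y ≠ 1 := fun e => hyz (by
    rw [← h.eZ hz] at e; exact mul_left_cancel e)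
  have hcases : ∀ w ∈ Z, w = 1 ∨ w = z ∨ w = y ∨ w = z * y := by
    intro w hw
    let s : Finset Z := {1, ⟨z, hz⟩, ⟨y, hy⟩, ⟨z * y, mul_mem hz hy⟩}
    have hs : s.card = 4 := by
      rw [Finset.card_eq_four.2]
      exact ⟨_, _, _, _, by simp [Subtype.ext_iff, Ne.symm hz1], by simp [Subtype.ext_iff, Ne.symm hy1],
        by simp [Subtype.ext_iff, Ne.symm hzy1], by simp [Subtype.ext_iff, Ne.symm hyz],
        by simp [Subtype.ext_iff, hy1],
        by simp [Subtype.ext_iff, hz1], rfl⟩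
    have hu : s = Finset.univ :=
      Finset.eq_univ_of_card s (by rw [hs, ← Nat.card_eq_fintype_card, h.cardZ])
    have hm : (⟨w, hw⟩ : Z) ∈ s := by rw [hu]; exact Finset.mem_univ _
    simpa [s, Subtype.ext_iff] using hm
  have hw := conj_mem_of_normalizer hgZ hy
  rcases hcases _ hw with e | e | e | e
  · exfalso; exact hy1 (by rwa [conj_eq_one_iff] at e)
  · exfalso
    refine hyz ?_
    have : g * y * g⁻¹ = g * z * g⁻¹ := by rw [e, hfix, mul_inv_cancel_right]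
    simpa using this
  · exact mul_inv_eq_iff_eq_mul.1 e
  · have h2 : (g ^ 2) * y = y * g ^ 2 := by
      rw [← mul_inv_eq_iff_eq_mul]
      calc g ^ 2 * y * (g ^ 2)⁻¹ = g * (g * y * g⁻¹) * g⁻¹ := by rw [pow_two]; group
        _ = g * (z * y) * g⁻¹ := by rw [e]
        _ = (g * z * g⁻¹) * (g * y * g⁻¹) := by group
        _ = z * (z * y) := by rw [e, hfix, mul_inv_cancel_right]
        _ = y := by rw [← mul_assoc, h.eZ hz, one_mul]
    obtain ⟨k, hk⟩ := pow_sq_eq hodd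
    have h3 : Commute ((g ^ 2) ^ k) y := Commute.pow_left h2 k
    rwa [hk] at h3

/-- Fixing the cosets of `a` in `A` and centralizing `Z` forces fixing the cosets in `B`. -/
theorem fix_other {g a b : G} (hgB : g ∈ normalizer (B : Set G))
    (hcZ : ∀ y ∈ Z, g * y = y * g) (ha : a ∈ A) (haZ : a ∉ Z) (hfix : Fixes Z g a) (hb : b ∈ B) :
    Fixes Z g b := by
  set b' := g * b * g⁻¹ with hb'
  have hb'B : b' ∈ B := conj_mem_of_normalizer hgB hb
  have hcb := h.comm a ha b hb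
  have e1 : g * a * g⁻¹ * b' * (g * a * g⁻¹)⁻¹ * b'⁻¹ = a * b * a⁻¹ * b⁻¹ := by
    rw [hb', show g * a * g⁻¹ * (g * b * g⁻¹) * (g * a * g⁻¹)⁻¹ * (g * b * g⁻¹)⁻¹ =
      g * (a * b * a⁻¹ * b⁻¹) * g⁻¹ by group, hcZ _ hcb, mul_inv_cancel_right]
  set c := a⁻¹ * (g * a * g⁻¹) with hc
  have hcb' : c * b' = b' * c := h.cen c hfix b' (h.hB hb'B)
  have e2 : g * a * g⁻¹ * b' * (g * a * g⁻¹)⁻¹ * b'⁻¹ = a * b' * a⁻¹ * b'⁻¹ := by
    rw [show g * a * g⁻¹ = a * c by rw [hc, mul_inv_cancel_left],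
      show a * c * b' * (a * c)⁻¹ * b'⁻¹ = a * (c * b') * c⁻¹ * a⁻¹ * b'⁻¹ by group, hcb']
    group
  rw [e2] at e1
  have e3 : a * (b⁻¹ * b') = (b⁻¹ * b') * a := by
    have e4 : a * b' * a⁻¹ = a * b * a⁻¹ * b⁻¹ * b' := mul_inv_eq_iff_eq_mul.1 e1
    have hz : a * b * a⁻¹ * b⁻¹ * b⁻¹ = b⁻¹ * (a * b * a⁻¹ * b⁻¹) := h.cen _ hcb _ (inv_mem (h.hB hb))
    calc a * (b⁻¹ * b') = (a * b⁻¹ * a⁻¹) * (a * b' * a⁻¹) * a := by group
      _ = (a * b⁻¹ * a⁻¹) * (a * b * a⁻¹ * b⁻¹ * b') * a := by rw [e4]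
      _ = b⁻¹ * b' * a := by group
  rcases h.key ha (mul_mem (inv_mem hb) hb'B) e3 with e | e
  · exact absurd e haZ
  · exact e

/-- An odd element centralizing `Z` and acting trivially on `A / Z` centralizes `A`. -/
theorem cent_of_fixes {g y : G} (hodd : Odd (orderOf g)) (hgA : g ∈ normalizer (A : Set G))
    (hcZ : ∀ x ∈ Z, g * x = x * g) (hy : y ∈ A) (hfix : Fixes Z g y) : g * y = y * g := by
  set c := y⁻¹ * (g * y * g⁻¹) with hc
  have hp : ∀ k : ℕ, g ^ k * y * (g ^ k)⁻¹ = y * c ^ k := by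
    intro k
    induction k with
    | zero => simp
    | succ j ih =>
      calc g ^ (j + 1) * y * (g ^ (j + 1))⁻¹ = g * (g ^ j * y * (g ^ j)⁻¹) * g⁻¹ := by
            rw [pow_succ']; group
        _ = (g * y * g⁻¹) * (g * c ^ j * g⁻¹) := by rw [ih]; group
        _ = y * c * c ^ j := by
            rw [hcZ _ (pow_mem hfix j), mul_inv_cancel_right, hc, mul_inv_cancel_left]
        _ = y * c ^ (j + 1) := by rw [mul_assoc, ← pow_succ']
  obtain ⟨m, hm⟩ := hodd
  have := hp (orderOf g)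
  rw [pow_orderOf_eq_one, hm, pow_succ, pow_mul, pow_two, h.eZ hfix] at this
  simp at this
  have e : g * y * g⁻¹ = y := by rw [← mul_inv_cancel_left y (g * y * g⁻¹), ← hc, this, mul_one]
  exact mul_inv_eq_iff_eq_mul.1 e

end Shape

end CfsgLib.SylL34
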