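import Cfsg.Agent.Lib.SylLThreeFour.LSCoresFive

/-!
A transitive normalizer of `A`, a non-solvable centralizer of an involution of `B`: the cores of the
centralizers of the involutions of `Z` are trivial, so those centralizers normalize the Sylow subgroup.
-/

set_option autoImplicit false
set_option linter.style.haveILetI false
set_option linter.unusedSectionVars false

namespace CfsgLib.SylL34

open Subgroup CfsgLib.Recog.LThreeFour CfsgLib.Invol Equiv

universe u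

variable {G : Type u} [Group G] [Finite G]

/-- The elements of the centralizer of `w` acting trivially on the image of `f`. -/
def trivOn {K : Subgroup G} (f : ↥K →* Perm (Fin 5)) (w : G) : Subgroup G where
  carrier := {c | (c ∈ centralizer ({w} : Set G) ∧ c ∈ normalizer (K : Set G)) ∧
    ∀ k k' : ↥K, (k' : G) = c * k * c⁻¹ → f k' = f k}
  one_mem' := ⟨⟨one_mem _, one_mem _⟩, fun k k' e => by
    rw [show k' = k from Subtype.ext (by simpa using e)]⟩
  mul_mem' := fun {c d} hc hd => ⟨⟨mul_mem hc.1.1 hd.1.1, mul_mem hc.1.2 hd.1.2⟩, fun k k' e => by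
    rw [← hd.2 k ⟨_, conj_mem_of_normalizer hd.1.2 k.2⟩ rfl,
      hc.2 ⟨_, conj_mem_of_normalizer hd.1.2 k.2⟩ k' (by rw [e]; group)]⟩
  inv_mem' := fun {c} hc => ⟨⟨inv_mem hc.1.1, inv_mem hc.1.2⟩, fun k k' e => by
    rw [← hc.2 k' k (by rw [e]; group)]⟩

/-- The decomposition by an involution normalizing an odd subgroup and a subgroup. -/
theorem exists_inverted_mul {O K : Subgroup G} (hO : Odd (Nat.card O)) {o t : G} (ho : o ∈ O)
    (ht : t ∈ K) (ht2 : t * t = 1) (htO : t ∈ normalizer (O : Set G))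
    (hoK : o ∈ normalizer (K : Set G)) :
    ∃ w ∈ K, w ∈ O ∧ w⁻¹ * o * t = t * (w⁻¹ * o) := by
  set x := o * t * o⁻¹ * t⁻¹
  have hti : t⁻¹ = t := inv_eq_of_mul_eq_one_right ht2
  have hxK : x ∈ K := mul_mem (conj_mem_of_normalizer hoK ht) (inv_mem ht)
  have hxO : x ∈ O := by
    have : x = o * (t * o⁻¹ * t⁻¹) := by simp only [x]; group
    rw [this]
    exact mul_mem ho (conj_mem_of_normalizer htO (inv_mem ho))
  obtain ⟨m, hm⟩ := Odd.of_dvd_nat hO (orderOf_dvd_natCard O hxO)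
  have hinv : t * x * t⁻¹ = x⁻¹ := by
    simp only [x, hti]
    calc t * (o * t * o⁻¹ * t) * t = t * o * t * o⁻¹ * (t * t) := by group
      _ = (o * t * o⁻¹ * t)⁻¹ := by rw [ht2, mul_inv_rev, mul_inv_rev, mul_inv_rev, hti]; group
  set w := x ^ (m + 1)
  have hww : w * w = x := by
    rw [← pow_add, show m + 1 + (m + 1) = orderOf x + 1 by omega, pow_succ, pow_orderOf_eq_one,
      one_mul]
  have hw : t * w * t⁻¹ = w⁻¹ := by
    simp only [w]
    rw [← conj_pow, hinv, inv_pow]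
  refine ⟨w, pow_mem hxK _, pow_mem hxO _, ?_⟩
  rw [eq_comm, ← mul_inv_eq_iff_eq_mul]
  calc t * (w⁻¹ * o) * t⁻¹ = (t * w * t⁻¹)⁻¹ * (t * o * t⁻¹) := by group
    _ = w * (x⁻¹ * o) := by rw [hw, inv_inv]; simp only [x]; group
    _ = w⁻¹ * o := by rw [← hww]; group

namespace Shape

variable {P : Sylow 2 G} {A B Z : Subgroup G} (h : Shape (P : Subgroup G) A B Z)
include h

/-- The core of a side centralizer lies in the closure of the cores of the central ones. -/
theorem core_side_le (hA : LType A) {u : G} (hu : u ∈ B) (hu1 : u ≠ 1) :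
    Cfsg.centralizerPPrimeCore 2 u ≤ coreClosure A := by
  have := twoFact
  have _ := hu1
  obtain ⟨-, -, hcore, -⟩ := h.ls_closure hA
  have hZe : Cfsg.IsElementaryAbelian 2 Z :=
    ⟨⟨⟨fun x y => Subtype.ext (h.cen x x.2 y (h.hZS y.2))⟩⟩, fun z hz => by rw [pow_two]; exact h.eZ hz⟩
  rw [← CfsgLib.Coprime.iSup_centralizer_eq hZe.1
    (CfsgLib.Comp.not_isCyclic_elemAb hZe (by rw [h.cardZ]; norm_num))
    (fun z hz => CfsgLib.InvChar.ConstrainedSignalizer.le_normalizer_core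
      (h.cen z hz u (h.hB hu)).symm)
    (CfsgLib.Comp.coprime_card_elemAb hZe fun hd => Nat.not_even_iff_odd.2
      (CfsgLib.InvChar.ConstrainedSignalizer.odd_core u) (even_iff_two_dvd.2 hd))]
  exact iSup_le fun z => (bal_of_solvable (h.eB u hu) (h.cen z z.2.1 u (h.hB hu)).symm
    (h.cent_Z_solvable z.2.1 z.2.2)).trans (hcore z z.2.1 z.2.2)

/-- A perfect core escaping the normalizer of the closure: what is needed from it. -/
theorem side_facts (hA : LType A) (hB : SType B Z) {u : G} (hu : u ∈ B) (huZ : u ∉ Z)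
    {K : Subgroup G} (hK : SideCore B Z u K)
    (hKM : ¬ K ≤ normalizer (coreClosure A : Set G)) :
    (∀ z ∈ Z, z ≠ 1 → Cfsg.centralizerPPrimeCore 2 z ⊓ centralizer ({u} : Set G) ≤
      Cfsg.centralizerPPrimeCore 2 u) ∧
    ∃ U N : Subgroup G, U ≤ B ∧ Nat.card U = 4 ∧ (∀ x ∈ U, x ∈ Z → x = 1) ∧
      U ≤ normalizer (N : Set G) ∧ N ≤ Cfsg.centralizerPPrimeCore 2 u ∧
      ∀ k ∈ K, ∀ x ∈ U, k * x * k⁻¹ ∈ N ⊔ U := by
  classical
  have := twoFact
  obtain ⟨f, hf⟩ := h.exists_five hA hB hu huZ hK hKM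
  obtain ⟨z₁, z₂, hz₁, hz₂, hfz₁, hfz₂⟩ := hf.std
  obtain ⟨-, -, -, hsa1, hsb1, hsab, -, -, hgsign⟩ := Five.standard
  have hz₁1 : (z₁ : G) ≠ 1 := fun e => hsa1 (by
    rw [← hfz₁, show z₁ = 1 from Subtype.ext e, map_one])
  have hz₂1 : (z₂ : G) ≠ 1 := fun e => hsb1 (by
    rw [← hfz₂, show z₂ = 1 from Subtype.ext e, map_one])
  have hz₁₂ : (z₂ : G) ≠ z₁ := fun e => hsab (by
    rw [← hfz₁, ← hfz₂, show z₂ = z₁ from Subtype.ext e])
  have hfour : ∀ y : ↥K, (y : G) ∈ Z → (y : G) ≠ 1 →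
      f y = Five.sa ∨ f y = Five.sb ∨ f y = Five.sa * Five.sb := fun y hy hy1 => by
    rcases h.Z_cases hz₁ hz₁1 hz₂ hz₂1 hz₁₂ hy with e | e | e | e
    · exact absurd e hy1
    · exact Or.inl (by rw [show y = z₁ from Subtype.ext e, hfz₁])
    · exact Or.inr (Or.inl (by rw [show y = z₂ from Subtype.ext e, hfz₂]))
    · exact Or.inr (Or.inr (by rw [show y = z₁ * z₂ from Subtype.ext e, map_mul, hfz₁, hfz₂]))
  set C := centralizer ({u} : Set G) with hC
  have hCK := hK.normalizes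
  have hBC : B ≤ C := fun b hb => mem_centralizer_singleton_iff.2 (comm_of_sq h.eB hb hu)
  have hZC : Z ≤ C := h.hZB.trans hBC
  set D := trivOn f u with hD
  set NK : Subgroup G := f.ker.map K.subtype with hNKdef
  have hNK : ∀ x ∈ NK, ∃ y : ↥K, (y : G) = x ∧ f y = 1 := by
    rintro _ ⟨y, hy, rfl⟩
    exact ⟨y, rfl, MonoidHom.mem_ker.1 hy⟩
  have hNKK : NK ≤ K := map_subtype_le _
  have hNKodd : Odd (Nat.card NK) := by
    rw [hNKdef, card_map_of_injective K.subtype_injective]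
    exact hf.odd
  have hNn : ∀ g ∈ C, ∀ x ∈ NK, g * x * g⁻¹ ∈ NK := by
    intro g hg x hx
    obtain ⟨y, rfl, hy⟩ := hNK x hx
    exact ⟨⟨_, conj_mem_of_normalizer (hCK hg) y.2⟩,
      MonoidHom.mem_ker.2 (hf.ker_conj (hCK hg) rfl hy), rfl⟩
  have hDC : D ≤ C := fun d hd => hd.1.1
  have hDn : ∀ g ∈ C, ∀ c ∈ D, g * c * g⁻¹ ∈ D := by
    intro g hg c hc
    refine ⟨⟨mul_mem (mul_mem hg hc.1.1) (inv_mem hg),
      mul_mem (mul_mem (hCK hg) hc.1.2) (inv_mem (hCK hg))⟩, fun k k' e => ?_⟩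
    have hj : g⁻¹ * k * g ∈ K := by
      have := conj_mem_of_normalizer (inv_mem (hCK hg)) k.2
      rwa [inv_inv] at this
    set j : ↥K := ⟨_, hj⟩
    set j' : ↥K := ⟨_, conj_mem_of_normalizer hc.1.2 j.2⟩
    have h1 : f (j' * j⁻¹) = 1 := by rw [map_mul, hc.2 j j' rfl, map_inv, mul_inv_cancel]
    have h2 : f (k' * k⁻¹) = 1 := hf.ker_conj (hCK hg) (x := j' * j⁻¹) (by
      show (k' : G) * (k : G)⁻¹ = g * (c * (g⁻¹ * k * g) * c⁻¹ * (g⁻¹ * k * g)⁻¹) * g⁻¹
      rw [e]; group) h1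
    rwa [map_mul, map_inv, mul_inv_eq_one] at h2
  have hKC : K ≤ C := hK.le
  have hDK : ∀ k ∈ K, k ∈ D → k ∈ NK := by
    intro k hk hkD
    have hcomm : ∀ x : ↥K, f ⟨k, hk⟩ * f x = f x * f ⟨k, hk⟩ := fun x => by
      have := hkD.2 x (⟨k, hk⟩ * x * ⟨k, hk⟩⁻¹) rfl
      rwa [map_mul, map_mul, map_inv, mul_inv_eq_iff_eq_mul] at this
    obtain ⟨g, hg⟩ := hf.surj Five.gc hgsign
    refine ⟨⟨k, hk⟩, MonoidHom.mem_ker.2 (Five.center_one _ (hf.sign _) ?_ ?_), rfl⟩
    · rw [← hfz₁]; exact hcomm z₁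
    · rw [← hg]; exact hcomm g
  -- elements centralizing `Z`
  have hcent : ∀ c ∈ C, c ∈ centralizer (Z : Set G) → ∃ t ∈ Z, t * c ∈ D := by
    intro c hc hcZ
    let φ : ↥K →* Perm (Fin 5) :=
      f.comp (MonoidHom.mk' (fun k : ↥K => (⟨c * k * c⁻¹, conj_mem_of_normalizer (hCK hc) k.2⟩ : ↥K))
        fun a b => Subtype.ext (by
          show c * ((a : G) * b) * c⁻¹ = c * a * c⁻¹ * (c * b * c⁻¹)
          group))
    have hφker : ∀ x, f x = 1 → φ x = 1 := fun x hx => hf.ker_conj (hCK hc) rfl hx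
    have hφZ : ∀ y : ↥K, (y : G) ∈ Z → φ y = f y := fun y hy => congrArg f (Subtype.ext (by
      show c * y * c⁻¹ = y
      rw [← mem_centralizer_iff.1 hcZ y hy, mul_inv_cancel_right]))
    obtain ⟨g, hg⟩ := hf.surj Five.gc hgsign
    obtain ⟨r5, r3, r5', r2⟩ := Five.gen_rel
    have hσ := Five.rigid (φ g)
      (by rw [← map_pow]; exact hφker _ (by rw [map_pow, hg, r5]))
      (by rw [← hfz₁, ← hφZ z₁ hz₁, ← map_mul, ← map_pow]
          exact hφker _ (by rw [map_pow, map_mul, hfz₁, hg, r3]))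
      (by rw [← hfz₂, ← hφZ z₂ hz₂, ← map_mul, ← map_pow]
          exact hφker _ (by rw [map_pow, map_mul, hfz₂, hg, r5']))
      (by rw [← hfz₁, ← hfz₂, ← map_mul f, ← hφZ (z₁ * z₂) (mul_mem hz₁ hz₂), ← map_mul, ← map_pow]
          exact hφker _ (by rw [map_pow, map_mul, map_mul, hfz₁, hfz₂, hg, r2]))
    obtain ⟨t, ht, hσt⟩ : ∃ t : ↥K, (t : G) ∈ Z ∧ φ g = f t * Five.gc * f t := by
      rcases hσ with e | e | e | e
      · exact ⟨1, one_mem Z, by simpa using e⟩
      · exact ⟨z₁, hz₁, by rw [hfz₁]; exact e⟩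
      · exact ⟨z₂, hz₂, by rw [hfz₂]; exact e⟩
      · exact ⟨z₁ * z₂, mul_mem hz₁ hz₂, by rw [map_mul, hfz₁, hfz₂]; exact e⟩
    have htt : f t * f t = 1 := by
      rw [← map_mul, show t * t = 1 from Subtype.ext (h.eZ ht), map_one]
    let ψ : ↥K →* Perm (Fin 5) := (MulAut.conj (f t)).toMonoidHom.comp φ
    have hψ : ∀ x, ψ x = f t * φ x * (f t)⁻¹ := fun x => rfl
    have hle : closure ({z₁, g} : Set ↥K) ≤ MonoidHom.eqLocus ψ f := by
      rw [closure_le]
      rintro x (rfl | rfl)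
      · show ψ x = f x
        rw [hψ, hφZ x hz₁, ← map_mul,
          show t * x = x * t from Subtype.ext (h.cen t ht x (h.hZS hz₁)), map_mul, mul_inv_cancel_right]
      · show ψ x = f x
        rw [hψ, hσt, hg]
        calc f t * (f t * Five.gc * f t) * (f t)⁻¹ = f t * f t * Five.gc := by group
          _ = Five.gc := by rw [htt, one_mul]
    have hall : ∀ k, ψ k = f k := by
      intro k
      have := Five.mem_closure_of_sign (hf.sign k)
      rw [show ({Five.sa, Five.gc} : Set (Perm (Fin 5))) = f '' {z₁, g} by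
        rw [Set.image_pair, hfz₁, hg], ← MonoidHom.map_closure] at this
      obtain ⟨j, hj, hjk⟩ := this
      have h1 : φ (k * j⁻¹) = 1 := hφker _ (by rw [map_mul, map_inv, hjk, mul_inv_cancel])
      rw [map_mul, map_inv, mul_inv_eq_one] at h1
      rw [hψ, h1, ← hψ, show ψ j = f j from hle hj, hjk]
    refine ⟨t, ht, ⟨⟨mul_mem (hZC ht) hc, mul_mem (hCK (hZC ht)) (hCK hc)⟩, fun k k' e => ?_⟩⟩
    rw [← hall k, hψ, show k' = t * (⟨c * k * c⁻¹, conj_mem_of_normalizer (hCK hc) k.2⟩ : ↥K) * t⁻¹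
      from Subtype.ext (by
        show (k' : G) = (t : G) * (c * k * c⁻¹) * (t : G)⁻¹
        rw [e]; group), map_mul, map_mul, map_inv]
    rfl
  have hoddD : ∀ c ∈ C, c ∈ centralizer (Z : Set G) → Odd (orderOf c) → c ∈ D := by
    intro c hc hcZ hodd
    obtain ⟨t, ht, htc⟩ := hcent c hc hcZ
    have h2 : c ^ 2 ∈ D := by
      have := mul_mem htc htc
      rwa [show t * c * (t * c) = t * (c * t) * c by group, ← mem_centralizer_iff.1 hcZ t ht,
        show t * (t * c) * c = t * t * (c * c) by group, h.eZ ht, one_mul, ← pow_two] at this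
    obtain ⟨k, hk⟩ := pow_sq_eq hodd
    exact hk ▸ pow_mem h2 k
  -- the four-group
  set U := B ⊓ D with hU
  have hUZ : ∀ x ∈ U, x ∈ Z → x = 1 := by
    intro x hx hxZ
    rw [← orderOf_eq_one_iff]
    exact Nat.Coprime.eq_one_of_dvd (Nat.coprime_two_left.2 (Odd.of_dvd_nat hNKodd
        (orderOf_dvd_natCard NK (hDK x (hK.Z_le hxZ) (mem_inf.1 hx).2)))).symm
      (orderOf_dvd_of_pow_eq_one (by rw [pow_two, h.eZ hxZ]))
  have hBU : ∀ b ∈ B, ∃ t ∈ Z, t * b ∈ U := fun b hb => by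
    obtain ⟨t, ht, htb⟩ := hcent b (hBC hb)
      (mem_centralizer_iff.2 fun y hy => comm_of_sq h.eB (h.hZB hy) hb)
    exact ⟨t, ht, mem_inf.2 ⟨mul_mem (h.hZB ht) hb, htb⟩⟩
  have hU4 : Nat.card U = 4 := by
    have := Nat.card_eq_of_bijective
      (fun p : ↥Z × ↥U => (⟨(p.1 : G) * p.2, mul_mem (h.hZB p.1.2) (mem_inf.1 p.2.2).1⟩ : ↥B))
      ⟨?_, ?_⟩
    · rw [Nat.card_prod, h.cardZ, h.cardB] at this
      omega
    · rintro ⟨t, x⟩ ⟨t', x'⟩ e
      have e' : (t : G) * x = t' * x' := congrArg Subtype.val e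
      have h1 : (t' : G)⁻¹ * t = x' * (x : G)⁻¹ := by
        rw [inv_mul_eq_iff_eq_mul, ← mul_assoc, ← e', mul_inv_cancel_right]
      have h2 := hUZ _ (mul_mem x'.2 (inv_mem x.2)) (h1 ▸ mul_mem (inv_mem t'.2) t.2)
      rw [← h1, inv_mul_eq_one] at h2
      obtain rfl : t' = t := Subtype.ext h2
      exact Prod.ext rfl (Subtype.ext (mul_left_cancel e'))
    · rintro ⟨b, hb⟩
      obtain ⟨t, ht, htb⟩ := hBU b hb
      exact ⟨⟨⟨t, ht⟩, ⟨_, htb⟩⟩, Subtype.ext (by
        show t * (t * b) = b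
        rw [← mul_assoc, h.eZ ht, one_mul])⟩
  -- the normal subgroup of odd order
  have hmain : ∀ z ∈ Z, z ≠ 1 →
      NK ≤ Cfsg.centralizerPPrimeCore 2 u ∧
        Cfsg.centralizerPPrimeCore 2 z ⊓ C ≤ Cfsg.centralizerPPrimeCore 2 u := by
    intro z hz hz1
    set O := Cfsg.centralizerPPrimeCore 2 z with hO
    have hOodd : Odd (Nat.card O) := CfsgLib.InvChar.ConstrainedSignalizer.odd_core z
    have hnorm : ∀ {x : G}, x * z = z * x → x ∈ normalizer (O : Set G) := fun {x} hx =>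
      CfsgLib.InvChar.ConstrainedSignalizer.le_normalizer_core hx.symm
    set R := O ⊓ C ⊓ centralizer (Z : Set G) with hR
    have hRO : R ≤ O := inf_le_left.trans inf_le_left
    have hRC : R ≤ C := inf_le_left.trans inf_le_right
    have hRZ : R ≤ centralizer (Z : Set G) := inf_le_right
    have hRD : R ≤ D := fun r hr => hoddD r (hRC hr) (hRZ hr)
      (Odd.of_dvd_nat hOodd (orderOf_dvd_natCard O (hRO hr)))
    obtain ⟨z', hz', hz'1, hz'z⟩ := h.exists_Z_other hz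
    have hdec : ∀ o ∈ O, o ∈ C → ∃ w ∈ K, w ∈ O ∧ w⁻¹ * o ∈ R := by
      intro o ho hoC
      obtain ⟨w, hwK, hwO, hwt⟩ := exists_inverted_mul hOodd ho (hK.Z_le hz') (h.eZ hz')
        (hnorm (h.cen z' hz' z (h.hZS hz))) (hCK hoC)
      have hrO : w⁻¹ * o ∈ O := mul_mem (inv_mem hwO) ho
      refine ⟨w, hwK, hwO, mem_inf.2 ⟨mem_inf.2 ⟨hrO, mul_mem (inv_mem (hKC hwK)) hoC⟩,
        mem_centralizer_iff.2 fun y hy => ?_⟩⟩
      have hrz := mem_centralizer_singleton_iff.1 (core_le_centralizer z hrO)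
      rcases h.Z_cases hz hz1 hz' hz'1 hz'z hy with e | e | e | e <;> rw [e]
      · rw [one_mul, mul_one]
      · exact hrz.symm
      · exact hwt.symm
      · rw [mul_assoc, ← hwt, ← mul_assoc, ← hrz, mul_assoc]
    have hNR : R ≤ normalizer (NK : Set G) := fun r hr => mem_normalizer_of_conj_le (hNn r (hRC hr))
    set O' := NK ⊔ R with hO'
    have hO'C : O' ≤ C := sup_le (hNKK.trans hKC) hRC
    have hO'odd : Odd (Nat.card O') := by
      rw [← Nat.not_even_iff_odd, even_iff_two_dvd]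
      intro h2
      obtain ⟨x, hx⟩ := exists_prime_orderOf_dvd_card' 2 h2
      have hx2 : (x : G) * x = 1 := congrArg Subtype.val (invol_mul_self hx)
      have hx' : (x : G) ∈ ((NK ⊔ R : Subgroup G) : Set G) := x.2
      rw [coe_mul_of_right_le_normalizer_left _ _ hNR] at hx'
      obtain ⟨n, hn, r, hr, hnr⟩ := hx'
      have hnr' : n * r = x := hnr
      have hr2 : r ^ 2 ∈ NK := by
        have h3 : r * r = (r * n⁻¹ * r⁻¹) * n⁻¹ := by
          rw [← hnr'] at hx2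
          calc r * r = (r * n⁻¹ * r⁻¹) * n⁻¹ * (n * r * (n * r)) * (r⁻¹ * r) := by group
            _ = _ := by rw [hx2, mul_one, inv_mul_cancel, mul_one]
        rw [pow_two, h3]
        exact mul_mem (hNn r (hRC hr) _ (inv_mem hn)) (inv_mem hn)
      obtain ⟨k, hk⟩ := pow_sq_eq (Odd.of_dvd_nat hOodd (orderOf_dvd_natCard O (hRO hr)))
      have hxN : (x : G) ∈ NK := hnr' ▸ mul_mem hn (hk ▸ pow_mem hr2 k)
      have := Nat.Coprime.eq_one_of_dvd (Nat.coprime_two_left.2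
        (Odd.of_dvd_nat hNKodd (orderOf_dvd_natCard NK hxN))).symm
        (orderOf_dvd_of_pow_eq_one (by rw [pow_two, hx2]))
      rw [Subgroup.orderOf_coe, hx] at this
      omega
    -- the centralizer is a product
    obtain ⟨T, hT, hTk⟩ := h.sideCore_klein hK
    have hgen : ∀ c ∈ C, ∃ k ∈ K, ∃ r ∈ R, ∃ b ∈ B, c = k * r * b := by
      intro c hc
      set zc : ↥K := ⟨_, conj_mem_of_normalizer (hCK hc) (hK.Z_le hz)⟩
      have hzo : orderOf z = 2 := invol_of_mul_self (h.eZ hz) hz1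
      obtain ⟨k, hk⟩ := isConj_iff.1 (one_class_of_perfect T hTk hK.perfect ⟨z, hK.Z_le hz⟩ zc
        (by rw [Subgroup.orderOf_mk, hzo]) (by rw [Subgroup.orderOf_mk, orderOf_conj_eq, hzo]))
      have hk' : (k : G) * z * (k : G)⁻¹ = c * z * c⁻¹ := congrArg Subtype.val hk
      have hcz : (k : G)⁻¹ * c * z = z * ((k : G)⁻¹ * c) := by
        calc (k : G)⁻¹ * c * z = (k : G)⁻¹ * (c * z * c⁻¹) * c := by group
          _ = (k : G)⁻¹ * ((k : G) * z * (k : G)⁻¹) * c := by rw [hk']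
          _ = _ := by group
      obtain ⟨o, ho, hou, b, hb, hkc⟩ := h.cent_side_decomp hB hu huZ hz hz1 hcz
        (mem_centralizer_singleton_iff.1 (mul_mem (inv_mem (hKC k.2)) hc))
      obtain ⟨w, hwK, -, hr⟩ := hdec o ho (mem_centralizer_singleton_iff.2 hou)
      exact ⟨k * w, mul_mem k.2 hwK, _, hr, b, hb, by
        rw [show c = (k : G) * ((k : G)⁻¹ * c) by group, hkc]; group⟩
    have hn : C ≤ normalizer (O' : Set G) := by
      have key : ∀ g ∈ C, (∀ r ∈ R, g * r * g⁻¹ ∈ O') → g ∈ normalizer (O' : Set G) := by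
        intro g hg hgR
        refine mem_normalizer_of_conj_le fun x hx => ?_
        suffices O' ≤ O'.comap (MulAut.conj g).toMonoidHom from this hx
        exact sup_le (fun n hn => mem_sup_left (hNn g hg n hn)) hgR
      intro c hc
      obtain ⟨k, hk, r, hr, b, hb, rfl⟩ := hgen c hc
      refine mul_mem (mul_mem (key k (hKC hk) fun s hs => ?_) (le_normalizer (mem_sup_right hr)))
        (key b (hBC hb) fun s hs => mem_sup_right ?_)
      · rw [show k * s * k⁻¹ = (k * s * k⁻¹ * s⁻¹) * s by group]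
        refine mul_mem (mem_sup_left (hDK _ ?_ (mul_mem (hDn k (hKC hk) s (hRD hs))
          (inv_mem (hRD hs))))) (mem_sup_right hs)
        rw [show k * s * k⁻¹ * s⁻¹ = k * (s * k⁻¹ * s⁻¹) by group]
        exact mul_mem hk (conj_mem_of_normalizer (hCK (hRC hs)) (inv_mem hk))
      · refine mem_inf.2 ⟨mem_inf.2 ⟨conj_mem_of_normalizer (hnorm
          (h.cen z hz b (h.hB hb)).symm) (hRO hs), mul_mem (mul_mem (hBC hb) (hRC hs))
          (inv_mem (hBC hb))⟩, ?_⟩
        have hbZ : b ∈ centralizer (Z : Set G) :=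
          mem_centralizer_iff.2 fun y hy => h.cen y hy b (h.hB hb)
        exact mul_mem (mul_mem hbZ (hRZ hs)) (inv_mem hbZ)
    have hle : O' ≤ Cfsg.centralizerPPrimeCore 2 u := by
      intro x hx
      haveI : (O'.subgroupOf C).Normal := (normal_subgroupOf_iff_le_normalizer hO'C).2 hn
      refine ⟨⟨x, hO'C hx⟩, CfsgLib.Invol.le_oddCore (N := O'.subgroupOf C) inferInstance ?_ hx, rfl⟩
      rw [Nat.card_congr (subgroupOfEquivOfLe hO'C).toEquiv]
      exact hO'odd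
    refine ⟨le_sup_left.trans hle, fun o ho => ?_⟩
    obtain ⟨hoO, hoC⟩ := mem_inf.1 ho
    obtain ⟨w, hwK, hwO, hr⟩ := hdec o hoO hoC
    have hwz : f ⟨w, hwK⟩ * f ⟨z, hK.Z_le hz⟩ = f ⟨z, hK.Z_le hz⟩ * f ⟨w, hwK⟩ := by
      rw [← map_mul, ← map_mul]
      exact congrArg f (Subtype.ext (mem_centralizer_singleton_iff.1 (core_le_centralizer z hwO)))
    have hwN : f ⟨w, hwK⟩ = 1 := FiveMap.eq_one_of_sq
      (by rw [Subgroup.orderOf_mk]; exact Odd.of_dvd_nat hOodd (orderOf_dvd_natCard O hwO))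
      (Five.cent_one _ (hf.sign _) _ (hfour ⟨z, hK.Z_le hz⟩ hz hz1) hwz)
    rw [show o = w * (w⁻¹ * o) by group]
    exact hle (mul_mem (mem_sup_left ⟨⟨w, hwK⟩, MonoidHom.mem_ker.2 hwN, rfl⟩) (mem_sup_right hr))
  refine ⟨fun z hz hz1 => (hmain z hz hz1).2, U, NK, inf_le_left, hU4, hUZ,
    fun x hx => mem_normalizer_of_conj_le (hNn x (hBC (mem_inf.1 hx).1)), ?_, fun k hk x hx => ?_⟩
  · obtain ⟨z, hz, hz1⟩ := h.exists_Z_ne_one
    exact (hmain z hz hz1).1
  · have hxD := (mem_inf.1 hx).2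
    rw [show k * x * k⁻¹ = (k * x * k⁻¹ * x⁻¹) * x by group]
    refine mul_mem (mem_sup_left (hDK _ ?_ (mul_mem (hDn k (hKC hk) x hxD) (inv_mem hxD))))
      (mem_sup_right hx)
    rw [show k * x * k⁻¹ * x⁻¹ = k * (x * k⁻¹ * x⁻¹) by group]
    exact mul_mem hk (conj_mem_of_normalizer (hCK (hDC hxD)) (inv_mem hk))

/-- The cores of the centralizers of the involutions of `Z` are trivial. -/
theorem ls_cores_trivial (hO : Cfsg.oddCore G = ⊥) (hA : LType A) (hB : SType B Z) {v : G}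
    (hv : v ∈ B) (hvZ : v ∉ Z) (hns : ¬ Group.IsSolvable ↥(Subgroup.centralizer ({v} : Set G)))
    (hT : ∃ n ∈ Subgroup.normalizer ((P : Subgroup G) : Set G),
      Odd (orderOf n) ∧ ∃ y ∈ B, ¬ Fixes Z n y) :
    ∀ z ∈ Z, z ≠ 1 →
      Subgroup.centralizer ({z} : Set G) ≤ Subgroup.normalizer ((P : Subgroup G) : Set G) := by
  classical
  have := twoFact
  obtain ⟨hWodd, heqZ, hcore, hNA, hNZ, hNP, hcM⟩ := h.ls_closure hA
  intro z hz hz1
  by_cases hW : coreClosure A = ⊥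
  · exact h.cent_Z_le_of hz hz1 ((hcore z hz hz1).trans (hW ▸ bot_le)) le_rfl
  exfalso
  set M := normalizer (coreClosure A : Set G) with hM
  have hMtop : M ≠ ⊤ := fun e => hW (eq_bot_of_normalizer_top hO hWodd e)
  have hcA : ∀ a ∈ A, a ≠ 1 → centralizer ({a} : Set G) ≤ M := by
    intro a ha ha1
    obtain ⟨g, hg, y, hy, hy1, rfl⟩ := h.cent_L hA ha ha1
    intro c hc
    rw [cj_centralizer] at hc
    have := mul_mem (mul_mem (hNA hg) (hcM y hy hy1 (mem_cj.1 hc))) (inv_mem (hNA hg))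
    rwa [show g * (g⁻¹ * c * g) * g⁻¹ = c by group] at this
  have htrans := fun {a b : G} => h.exists_conj_side hT (v := a) (u := b)
  have hnsu : ∀ u ∈ B, u ∉ Z → ¬ Group.IsSolvable ↥(centralizer ({u} : Set G)) := by
    intro u hu huZ hsol
    obtain ⟨m, -, rfl⟩ := htrans hu huZ hv hvZ
    refine hns ?_
    haveI := hsol
    rw [cj_centralizer]
    exact Group.isSolvable_of_surjective
      (f := (equivMapOfInjective _ _ (MulAut.conj m).injective).toMonoidHom)
      (equivMapOfInjective _ _ (MulAut.conj m).injective).surjective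
  have hKM : ∀ u ∈ B, u ∉ Z → ∀ K : Subgroup G, SideCore B Z u K → ¬ K ≤ M := by
    intro u hu huZ K hK hle
    have hCu : centralizer ({u} : Set G) ≤ M := (h.symm.cent_le_core_sup hB hu huZ hK).trans
      (sup_le hle (inf_le_left.trans hNZ))
    refine hMtop (eq_top_of_two_classes P M hNP (fun x hxP hx2 => ?_)
      (invol_of_mul_self (h.eZ hz) hz1)
      (invol_of_mul_self (h.eB u hu) fun e => huZ (e ▸ one_mem _)) fun hc => ?_)
    · rcases h.invol x hxP (invol_mul_self hx2) with e | e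
      · exact hcA x e (invol_ne_one hx2)
      by_cases hxZ : x ∈ Z
      · exact hcM x hxZ (invol_ne_one hx2)
      obtain ⟨m, hm, rfl⟩ := htrans hu huZ e hxZ
      intro c hc
      rw [cj_centralizer] at hc
      have := mul_mem (mul_mem (hNP hm) (hCu (mem_cj.1 hc))) (inv_mem (hNP hm))
      rwa [show m * (m⁻¹ * c * m) * m⁻¹ = c by group] at this
    · obtain ⟨g, hg⟩ := isConj_iff.1 hc
      exact huZ (hg ▸ h.symm.conj_mem_Z hB hz (hg ▸ hu))
  have hfacts : ∀ u ∈ B, u ∉ Z → ∀ y ∈ Z, y ≠ 1 →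
      Cfsg.centralizerPPrimeCore 2 y ⊓ centralizer ({u} : Set G) ≤
        Cfsg.centralizerPPrimeCore 2 u := fun u hu huZ => by
    obtain ⟨K, hK⟩ := h.symm.exists_sideCore hB hu huZ (hnsu u hu huZ)
    exact (h.side_facts hA hB hu huZ hK (hKM u hu huZ K hK)).1
  obtain ⟨K, hK⟩ := h.symm.exists_sideCore hB hv hvZ hns
  obtain ⟨-, U, N, hUB, hU4, hUZ, hUN, hNv, hkU⟩ :=
    h.side_facts hA hB hv hvZ hK (hKM v hv hvZ K hK)
  have hUe : Cfsg.IsElementaryAbelian 2 U :=
    ⟨⟨⟨fun x y => Subtype.ext (comm_of_sq h.eB (hUB x.2) (hUB y.2))⟩⟩,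
      fun x hx => by rw [pow_two]; exact h.eB x (hUB hx)⟩
  have hWU : coreClosure A = coreClosure U := by
    refine le_antisymm ?_ (iSup_le fun x => h.core_side_le hA (hUB x.2.1) x.2.2)
    rw [heqZ]
    refine iSup_le ?_
    rintro ⟨y, hy, hy1⟩
    show Cfsg.centralizerPPrimeCore 2 y ≤ _
    rw [← CfsgLib.Coprime.iSup_centralizer_eq hUe.1
      (CfsgLib.Comp.not_isCyclic_elemAb hUe (by rw [hU4]; norm_num))
      (fun x hx => CfsgLib.InvChar.ConstrainedSignalizer.le_normalizer_core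
        (h.cen y hy x (h.hB (hUB hx))))
      (CfsgLib.Comp.coprime_card_elemAb hUe fun hd => Nat.not_even_iff_odd.2
        (CfsgLib.InvChar.ConstrainedSignalizer.odd_core y) (even_iff_two_dvd.2 hd))]
    exact iSup_le fun x => (hfacts x (hUB x.2.1) (fun e => x.2.2 (hUZ x x.2.1 e)) y hy hy1).trans
      (core_le_coreClosure x.2.1 x.2.2)
  have hNU : normalizer (U : Set G) ≤ M := by
    rw [hM, hWU]; exact normalizer_le_coreClosure U
  have hv1 : v ≠ 1 := fun e => hvZ (e ▸ one_mem _)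
  have hNodd : Odd (Nat.card N) := Odd.of_dvd_nat
    (CfsgLib.InvChar.ConstrainedSignalizer.odd_core v) (card_dvd_of_le hNv)
  have hE : N ⊔ U ≤ M := sup_le
    ((hNv.trans (h.core_side_le hA hv hv1)).trans le_normalizer)
    (hUB.trans (h.hB.trans (le_normalizer.trans hNP)))
  refine hKM v hv hvZ K hK fun k hk => ?_
  obtain ⟨e, he, hek⟩ := exists_normalizing ((h.isPGroup.to_le h.hB).to_le hUB) hNodd hUN (hkU k hk)
  have := mul_mem (inv_mem (hE he)) (hNU hek)
  rwa [inv_mul_cancel_left] at this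

end Shape

end CfsgLib.SylL34
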