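import Cfsg.Agent.Lib.SylLThreeFour.Side

/-!
Local facts used in the case division: Frattini arguments, closures of the cores of centralizers,
fusion between the two elementary abelian subgroups.
-/

set_option autoImplicit false

namespace CfsgLib.SylL34

open Subgroup CfsgLib.Recog.LThreeFour

universe u

variable {G : Type u} [Group G] [Finite G]

/-- Frattini argument inside a subgroup. -/
theorem frattini (P : Sylow 2 G) {M N : Subgroup G} (hPN : (P : Subgroup G) ≤ N) (hNM : N ≤ M)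
    (hMN : M ≤ normalizer (N : Set G)) {g : G} (hg : g ∈ M) :
    ∃ m ∈ normalizer ((P : Subgroup G) : Set G), m ∈ M ∧ ∃ n ∈ N, g = m * n := by
  have := twoFact
  haveI : (N.subgroupOf M).Normal := (normal_subgroupOf_iff_le_normalizer hNM).2 hMN
  obtain ⟨m, hm, n, hn, hmn⟩ := mem_sup_of_normal_right.1
    ((Sylow.normalizer_sup_eq_top' (P.subtype (hPN.trans hNM))
      (N := N.subgroupOf M) (fun x hx => hPN hx)).symm ▸ mem_top (⟨g, hg⟩ : M))
  refine ⟨m, mem_normalizer_iff.2 fun v => ⟨fun hv => ?_, fun hv => ?_⟩, m.2, n, hn,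
    (congrArg Subtype.val hmn).symm⟩
  · exact mem_subgroupOf.1 ((mem_normalizer_iff.1 hm ⟨v, hPN.trans hNM hv⟩).1 hv)
  · have hvM : v ∈ M := by
      have := mul_mem (mul_mem (inv_mem m.2) (hPN.trans hNM hv)) m.2
      simpa [mul_assoc] using this
    exact mem_subgroupOf.1 ((mem_normalizer_iff.1 hm ⟨v, hvM⟩).2 hv)

/-- An element of 2-power order in a subgroup containing the Sylow subgroup is conjugate into it. -/
theorem exists_conj_into (P : Sylow 2 G) {M : Subgroup G} (hPM : (P : Subgroup G) ≤ M) {x : G}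
    (hxM : x ∈ M) {k : ℕ} (hx : x ^ 2 ^ k = 1) : ∃ g ∈ M, g * x * g⁻¹ ∈ (P : Subgroup G) := by
  have := twoFact
  have h2 : IsPGroup 2 ↥(zpowers (⟨x, hxM⟩ : M)) := IsPGroup.of_card_dvd_pow (n := k) (by
    rw [Nat.card_zpowers]; exact orderOf_dvd_of_pow_eq_one (Subtype.ext hx))
  obtain ⟨Q, hQ⟩ := h2.exists_le_sylow
  obtain ⟨g, hg⟩ := MulAction.exists_smul_eq ↥M Q (P.subtype hPM)
  refine ⟨g, g.2, ?_⟩
  have : g * ⟨x, hxM⟩ * g⁻¹ ∈ ((P.subtype hPM : Sylow 2 M) : Subgroup M) := by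
    rw [← hg]; exact mem_cj_of g (hQ (mem_zpowers _))
  exact mem_subgroupOf.1 this

/-- A Sylow subgroup normal in a normal subgroup is normal. -/
theorem normal_of_le_normal (P : Sylow 2 G) {M : Subgroup G} (hM : M.Normal)
    (hPM : (P : Subgroup G) ≤ M) (hMP : M ≤ normalizer ((P : Subgroup G) : Set G)) :
    (P : Subgroup G).Normal := by
  have := twoFact
  refine ⟨fun s hs g => ?_⟩
  obtain ⟨k, hk⟩ := P.2 ⟨s, hs⟩
  refine mem_sylow_of_normalizes P (hMP (hM.conj_mem s (hPM hs) g)) (k := k) ?_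
  rw [conj_pow, show s ^ 2 ^ k = 1 from congrArg Subtype.val hk, mul_one, mul_inv_cancel]

theorem eq_bot_of_normalizer_top (hO : Cfsg.oddCore G = ⊥) {W : Subgroup G}
    (hW : Odd (Nat.card W)) (htop : normalizer (W : Set G) = ⊤) : W = ⊥ :=
  le_bot_iff.1 (hO ▸ CfsgLib.Invol.le_oddCore (normalizer_eq_top_iff.1 htop) hW)

namespace Shape

variable {P : Sylow 2 G} {A B Z : Subgroup G} (h : Shape (P : Subgroup G) A B Z)
include h

theorem elemAb : Cfsg.IsElementaryAbelian 2 A :=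
  ⟨⟨⟨fun x y => Subtype.ext (comm_of_sq h.eA x.2 y.2)⟩⟩, fun a ha => by rw [pow_two]; exact h.eA a ha⟩

/-- With solvable centralizers, the closures of the cores on `A` and on `Z` agree. -/
theorem closure_eq (hsol : ∀ a ∈ A, a ≠ 1 → Group.IsSolvable ↥(centralizer ({a} : Set G))) :
    Odd (Nat.card (coreClosure A)) ∧ coreClosure A = coreClosure Z ∧
      normalizer (Z : Set G) ≤ normalizer (coreClosure A : Set G) := by
  obtain ⟨h1, -, h3⟩ := coreClosure_spec A h.elemAb (by rw [h.cardA]; norm_num)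
    fun a ha _ b hb hb1 => bal_of_solvable (h.eA a ha) (comm_of_sq h.eA ha hb) (hsol b hb hb1)
  obtain ⟨h4, h5⟩ := h3 Z h.hZA (by rw [h.cardZ])
  exact ⟨h1, h4, h5⟩

/-- The centralizer of a central involution lies in every subgroup containing its core and the
normalizer of the Sylow subgroup. -/
theorem cent_Z_le_of {z : G} (hz : z ∈ Z) (hz1 : z ≠ 1) {M : Subgroup G}
    (hcore : Cfsg.centralizerPPrimeCore 2 z ≤ M)
    (hN : normalizer ((P : Subgroup G) : Set G) ≤ M) : centralizer ({z} : Set G) ≤ M :=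
  (h.cent_Z_le hz hz1).trans (sup_le hcore (inf_le_left.trans hN))

/-- An element of `Z` fused into `A` is fused inside `Z`. -/
theorem conj_mem_Z (hA : SType A Z) {z g : G} (hz : z ∈ Z) (hg : g * z * g⁻¹ ∈ A) :
    g * z * g⁻¹ ∈ Z := by
  obtain ⟨n, hn, he⟩ := h.conj_normalizer (h.hZA hz) hg
  exact he ▸ conj_mem_of_normalizer (hA hn) hz

/-- No fusion between the parts of `A` and `B` outside the centre. -/
theorem not_isConj_A_B (hA : SType A Z) (hB : SType B Z) {a b : G} (ha : a ∈ A) (haZ : a ∉ Z)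
    (hb : b ∈ B) (hbZ : b ∉ Z) : ¬ IsConj a b := by
  intro hc
  have := twoFact
  obtain ⟨g, hg⟩ := isConj_iff.1 hc
  obtain ⟨T, hT⟩ := h.symm.sylow_cent_A hB hb hbZ
  have hle : cj g A ≤ centralizer ({b} : Set G) := by
    rw [← hg, cj_centralizer]
    exact cj_mono (h.A_le_cent hA ha haZ)
  have h2 : IsPGroup 2 ↥((cj g A).subgroupOf (centralizer ({b} : Set G))) :=
    (((h.isPGroup.to_le h.hA).map _) : IsPGroup 2 ↥(cj g A)).of_equiv (subgroupOfEquivOfLe hle).symm
  obtain ⟨Q, hQ⟩ := h2.exists_le_sylow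
  obtain ⟨c, hcQ⟩ := MulAction.exists_smul_eq ↥(centralizer ({b} : Set G)) Q T
  refine h.not_conj_B ((c : G) * g) (eq_of_le_of_card_ge ?_ (by rw [card_cj, h.cardA, h.cardB]))
  rw [cj_mul]
  intro x hx
  have hy := mem_cj.1 hx
  have : c * ⟨_, hle hy⟩ * c⁻¹ ∈ (T : Subgroup ↥(centralizer ({b} : Set G))) := by
    rw [← hcQ]; exact mem_cj_of c (hQ hy)
  rw [hT, mem_subgroupOf] at this
  simpa [mul_assoc] using this

/-- With trivial cores the normalizer of `Z` normalizes the Sylow subgroup. -/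
theorem normalizer_Z_le
    (hC : ∀ z ∈ Z, z ≠ 1 → centralizer ({z} : Set G) ≤ normalizer ((P : Subgroup G) : Set G)) :
    normalizer (Z : Set G) ≤ normalizer ((P : Subgroup G) : Set G) := by
  have := twoFact
  obtain ⟨z, hz1⟩ := Subgroup.ne_bot_iff_exists_ne_one.1 (fun e : Z = ⊥ => by
    have := h.cardZ; rw [e, card_bot] at this; omega)
  have key : ∀ g ∈ normalizer (Z : Set G), ∀ s ∈ (P : Subgroup G), g * s * g⁻¹ ∈ (P : Subgroup G) := by
    intro g hg s hs
    obtain ⟨k, hk⟩ := P.2 ⟨s, hs⟩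
    refine mem_sylow_of_normalizes P (hC z z.2 (fun e => hz1 (OneMemClass.coe_eq_one.1 e))
      (mem_centralizer_singleton_iff.2 ?_)) (k := k) ?_
    · have hy := conj_mem_of_normalizer (inv_mem hg) z.2
      rw [inv_inv] at hy
      calc g * s * g⁻¹ * z = g * (s * (g⁻¹ * z * g)) * g⁻¹ := by group
        _ = g * ((g⁻¹ * z * g) * s) * g⁻¹ := by rw [h.cen _ hy s hs]
        _ = z * (g * s * g⁻¹) := by group
    · rw [conj_pow, show s ^ 2 ^ k = 1 from congrArg Subtype.val hk, mul_one, mul_inv_cancel]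
  intro g hg
  refine mem_normalizer_iff.2 fun s => ⟨key g hg s, fun hs => ?_⟩
  have := key g⁻¹ (inv_mem hg) _ hs
  rwa [show g⁻¹ * (g * s * g⁻¹) * g⁻¹⁻¹ = s by group] at this

end Shape

end CfsgLib.SylL34
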