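import Cfsg.Agent.Lib.SylLThreeFour.Count
import Cfsg.Agent.Lib.SylLThreeFour.Local

/-!
One subgroup of order 16 has a transitive normalizer, the other normalizes the centre: the action
on the cosets of the second, and the solvable case.
-/

set_option autoImplicit false
set_option linter.style.haveILetI false

namespace CfsgLib.SylL34

open Subgroup CfsgLib.Recog.LThreeFour CfsgLib.Invol

universe u

variable {G : Type u} [Group G] [Finite G]

/-- An element conjugating a subgroup into itself normalizes it. -/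
theorem mem_normalizer_of_conj_le {H : Subgroup G} {g : G}
    (hg : ∀ x ∈ H, g * x * g⁻¹ ∈ H) : g ∈ normalizer (H : Set G) := by
  refine cj_eq_self_iff.1 (eq_of_le_of_card_ge (fun x hx => ?_) (card_cj g H).ge)
  have := hg _ (mem_cj.1 hx)
  rwa [show g * (g⁻¹ * x * g) * g⁻¹ = x by group] at this

namespace Shape

variable {P : Sylow 2 G} {A B Z : Subgroup G} (h : Shape (P : Subgroup G) A B Z)
include h

/-- A transitive normalizer of `A` forces movement of the cosets in `B`. -/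
theorem exists_moving_B (hA : LType A) :
    ∃ n ∈ normalizer ((P : Subgroup G) : Set G), Odd (orderOf n) ∧ ∃ y ∈ B, ¬ Fixes Z n y := by
  classical
  have := twoFact
  by_contra hcon
  push Not at hcon
  set M := normalizer (A : Set G) with hM
  have hCM : centralizer (A : Set G) ≤ M := fun c hc => mem_normalizer_of_conj_le fun x hx => by
    rwa [← mem_centralizer_iff.1 hc x hx, mul_inv_cancel_right]
  have hPM : (P : Subgroup G) ≤ M := h.S_le_normalizer
  have hMC : ∀ g ∈ M, ∀ c ∈ centralizer (A : Set G), g * c * g⁻¹ ∈ centralizer (A : Set G) := by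
    intro g hg c hc
    refine mem_centralizer_iff.2 fun x hx => ?_
    have hy := conj_mem_of_normalizer (inv_mem hg) (SetLike.mem_coe.1 hx)
    rw [inv_inv] at hy
    calc x * (g * c * g⁻¹) = g * ((g⁻¹ * x * g) * c) * g⁻¹ := by group
      _ = g * (c * (g⁻¹ * x * g)) * g⁻¹ := by rw [mem_centralizer_iff.1 hc _ hy]
      _ = g * c * g⁻¹ * x := by group
  have hAC : A ≤ centralizer (A : Set G) := fun a ha =>
    mem_centralizer_iff.2 fun x hx => comm_of_sq h.eA hx ha
  set C' := (centralizer (A : Set G)).subgroupOf M with hC'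
  haveI : C'.Normal := ⟨fun c hc g => mem_subgroupOf.2 (hMC g g.2 c hc)⟩
  let π := QuotientGroup.mk' C'
  have hπ : Function.Surjective π := QuotientGroup.mk'_surjective C'
  let Q : Sylow 2 (↥M ⧸ C') := (P.subtype hPM).mapSurjective hπ
  have hQsq : ∀ q ∈ (Q : Subgroup (↥M ⧸ C')), q * q = 1 := by
    rintro _ ⟨s, hs, rfl⟩
    rw [← map_mul]
    exact (QuotientGroup.eq_one_iff _).2 (hAC (h.hZA (h.sq_mem (mem_subgroupOf.1 hs))))
  have hQab : ∀ a ∈ (Q : Subgroup (↥M ⧸ C')), ∀ b ∈ (Q : Subgroup (↥M ⧸ C')), a * b = b * a :=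
    fun a ha b hb => comm_of_sq hQsq ha hb
  -- the Sylow subgroup of the quotient is centralized by its normalizer
  have hnT : normalizer ((Q : Subgroup (↥M ⧸ C')) : Set (↥M ⧸ C')) ≤
      centralizer ((Q : Subgroup (↥M ⧸ C')) : Set (↥M ⧸ C')) := by
    intro n hn
    obtain ⟨g, rfl⟩ := hπ n
    have hPC : (P : Subgroup G) ≤ normalizer (centralizer (A : Set G) : Set G) := fun s hs =>
      mem_normalizer_of_conj_le (hMC s (hPM hs))
    set N1 := (P : Subgroup G) ⊔ centralizer (A : Set G) with hN1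
    have hN1M : N1 ≤ M := sup_le hPM hCM
    have hN1 : ∀ k ∈ N1, ∃ hk : k ∈ M, π ⟨k, hk⟩ ∈ (Q : Subgroup (↥M ⧸ C')) := by
      intro k hk
      refine ⟨hN1M hk, ?_⟩
      have hk' := hk
      rw [hN1, ← SetLike.mem_coe, Subgroup.coe_mul_of_left_le_normalizer_right _ _ hPC] at hk'
      obtain ⟨s, hs, c, hc, rfl⟩ := hk'
      refine ⟨⟨s, hPM hs⟩, hs, ?_⟩
      refine QuotientGroup.eq.2 (mem_subgroupOf.2 ?_)
      push_cast
      simpa using hc
    have hgN : (g : G) ∈ normalizer (N1 : Set G) := mem_normalizer_of_conj_le (H := N1) fun x hx => by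
      suffices N1 ≤ N1.comap (MulAut.conj (g : G)).toMonoidHom from this hx
      refine sup_le (fun s hs => ?_) fun c hc => ?_
      · obtain ⟨t, ht, hte⟩ := (mem_normalizer_iff.1 hn (π ⟨s, hPM hs⟩)).1 ⟨_, hs, rfl⟩
        rw [← map_inv, ← map_mul, ← map_mul] at hte
        have h1 := mem_subgroupOf.1 (QuotientGroup.eq.1 hte)
        have h2 : (g : G) * s * (g : G)⁻¹ = t * ((t : G)⁻¹ * (g * s * (g : G)⁻¹)) := by group
        show (g : G) * s * (g : G)⁻¹ ∈ N1
        rw [h2]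
        exact mul_mem (mem_sup_left (mem_subgroupOf.1 ht)) (mem_sup_right (by simpa using h1))
      · show (g : G) * c * (g : G)⁻¹ ∈ N1
        exact mem_sup_right (hMC g g.2 c hc)
    obtain ⟨m, hm, hmM, k, hk, hgk⟩ := frattini P (M := M ⊓ normalizer (N1 : Set G)) (N := N1)
      le_sup_left (le_inf hN1M le_normalizer) inf_le_right (g := (g : G)) (mem_inf.2 ⟨g.2, hgN⟩)
    obtain ⟨hk', hkQ⟩ := hN1 k hk
    obtain ⟨s, hs, e, -, hen, hodd, rfl⟩ := exists_odd_part P hm
    have heM : e ∈ M := h.normalizer_le_A hen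
    rw [show g = (⟨s, hPM hs⟩ : M) * ⟨e, heM⟩ * ⟨k, hk'⟩ from Subtype.ext hgk, map_mul, map_mul]
    refine mul_mem (mul_mem ?_ ?_) (mem_centralizer_iff.2 fun q hq => hQab q hq _ hkQ)
    · exact mem_centralizer_iff.2 fun q hq => hQab q hq _ ⟨_, hs, rfl⟩
    refine mem_centralizer_iff.2 ?_
    rintro _ ⟨x, hx, rfl⟩
    rw [← map_mul, ← map_mul]
    refine QuotientGroup.eq.2 (mem_subgroupOf.2 ?_)
    push_cast
    obtain ⟨a, ha, b, hb, hab⟩ := h.exists_mul (mem_subgroupOf.1 hx)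
    rw [hab]
    have hb1 := hcon e hen hodd b hb
    have ha1 : e * a * e⁻¹ ∈ A := conj_mem_of_normalizer heM ha
    have h3 : (a * b)⁻¹ * (e * (a * b) * e⁻¹) ∈ A := by
      rw [show (a * b)⁻¹ * (e * (a * b) * e⁻¹) =
        (b⁻¹ * (a⁻¹ * (e * a * e⁻¹)) * b) * (b⁻¹ * (e * b * e⁻¹)) by group]
      refine mul_mem ?_ (h.hZA hb1)
      have := h.A_normal (inv_mem (h.hB hb)) (mul_mem (inv_mem ha) ha1)
      rwa [inv_inv] at this
    have h4 := conj_mem_of_normalizer (inv_mem heM) h3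
    rw [inv_inv] at h4
    refine hAC ?_
    rwa [show e⁻¹ * ((a * b)⁻¹ * (e * (a * b) * e⁻¹)) * e = (a * b * e)⁻¹ * (e * (a * b)) by group]
      at h4
  let Kb : Subgroup (↥M ⧸ C') := (MonoidHom.transferSylow Q hnT).ker
  have hcp : Kb.IsComplement' (Q : Subgroup (↥M ⧸ C')) :=
    MonoidHom.ker_transferSylow_isComplement' Q hnT
  have hQel : Cfsg.IsElementaryAbelian 2 (Q : Subgroup (↥M ⧸ C')) :=
    ⟨⟨⟨fun x y => Subtype.ext (hQab x x.2 y y.2)⟩⟩, fun q hq => by rw [pow_two]; exact hQsq q hq⟩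
  have hQ4 : Nat.card (Q : Subgroup (↥M ⧸ C')) = 4 := by
    set f := π.subgroupMap ((P : Subgroup G).subgroupOf M)
    have e := f.ker.card_eq_card_quotient_mul_card_subgroup
    have hk : Nat.card f.ker = 16 := by
      rw [← h.cardA]
      refine Nat.card_congr
        { toFun := fun x => ⟨((x.1 : ↥M) : G), ?_⟩
          invFun := fun a => ⟨⟨⟨a, hPM (h.hA a.2)⟩, h.hA a.2⟩, ?_⟩
          left_inv := fun x => rfl
          right_inv := fun a => rfl }
      · have h1 : π (x.1 : ↥M) = 1 := congrArg Subtype.val (MonoidHom.mem_ker.1 x.2)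
        have h2 : ((x.1 : ↥M) : G) ∈ centralizer (A : Set G) := mem_subgroupOf.1 ((QuotientGroup.eq_one_iff (N := C') _).1 h1)
        obtain ⟨u, hu, huZ⟩ := h.exists_A_not_Z
        exact h.selfA hu huZ x.1.2 (mem_centralizer_iff.1 h2 u hu).symm
      · exact MonoidHom.mem_ker.2 (Subtype.ext ((QuotientGroup.eq_one_iff _).2 (hAC a.2)))
    rw [Nat.card_congr (subgroupOfEquivOfLe hPM).toEquiv, h.cardS, hk,
      Nat.card_congr (QuotientGroup.quotientKerEquivOfSurjective f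
        (π.subgroupMap_surjective _)).toEquiv] at e
    show Nat.card (((P : Subgroup G).subgroupOf M).map π) = 4
    omega
  have hKodd : Odd (Nat.card Kb) := by
    rw [← Nat.not_even_iff_odd, even_iff_two_dvd, ← hcp.index_eq_card]
    exact Q.not_dvd_index
  set NZ := ((normalizer (Z : Set G)).subgroupOf M).map π with hNZ
  have hKle : Kb ≤ NZ := by
    haveI : Kb.Normal := inferInstance
    rw [← CfsgLib.Coprime.iSup_centralizer_eq (G := Kb) hQel.1
      (CfsgLib.Comp.not_isCyclic_elemAb hQel (by rw [hQ4]; norm_num))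
      (fun q _ => by rw [normalizer_eq_top_iff.2 inferInstance]; exact mem_top _)
      (CfsgLib.Comp.coprime_card_elemAb hQel
        fun hd => Nat.not_even_iff_odd.2 hKodd (even_iff_two_dvd.2 hd))]
    refine iSup_le ?_
    rintro ⟨q, ⟨s, hs, rfl⟩, hq1⟩ c hc
    obtain ⟨c, rfl⟩ := hπ c
    have hcs := mem_centralizer_singleton_iff.1 (mem_inf.1 hc).2
    obtain ⟨a, ha, b, hb, hab⟩ := h.exists_mul (mem_subgroupOf.1 hs)
    have hbZ : b ∉ Z := fun e => hq1 ((QuotientGroup.eq_one_iff _).2 (hAC (by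
      show (s : G) ∈ A
      rw [hab]; exact mul_mem ha (h.hZA e))))
    refine ⟨c, mem_subgroupOf.2 (mem_normalizer_of_conj_le fun z hz => ?_), rfl⟩
    set y := (c : G) * z * (c : G)⁻¹
    have hyA : y ∈ A := conj_mem_of_normalizer c.2 (h.hZA hz)
    have hk : (s : G) * c * (s : G)⁻¹ * (c : G)⁻¹ ∈ centralizer (A : Set G) := by
      have h1 : π (s * c * s⁻¹ * c⁻¹) = 1 := by
        rw [map_mul, map_mul, map_mul, ← hcs, map_inv, map_inv, mul_inv_cancel_right, mul_inv_cancel]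
      simpa using mem_subgroupOf.1 ((QuotientGroup.eq_one_iff _).1 h1)
    have hsy : (s : G) * y * (s : G)⁻¹ = y := by
      set k := (s : G) * c * (s : G)⁻¹ * (c : G)⁻¹ with hkdef
      calc (s : G) * y * (s : G)⁻¹ = k * (c * ((s : G) * z * (s : G)⁻¹) * (c : G)⁻¹) * k⁻¹ := by
            simp only [y, hkdef]; group
        _ = k * y * k⁻¹ := by rw [← h.cen z hz _ (mem_subgroupOf.1 hs), mul_inv_cancel_right]
        _ = y := by rw [← mem_centralizer_iff.1 hk y hyA, mul_inv_cancel_right]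
    refine (h.key hyA hb ?_).resolve_right hbZ
    rw [hab] at hsy
    have h2 : b * y * b⁻¹ = y := by
      have h3 : b * y * b⁻¹ = a⁻¹ * y * a := by
        calc b * y * b⁻¹ = a⁻¹ * (a * b * y * (a * b)⁻¹) * a := by group
          _ = a⁻¹ * y * a := by rw [hsy]
      rw [h3, mul_assoc, ← comm_of_sq h.eA ha hyA, inv_mul_cancel_left]
    exact (mul_inv_eq_iff_eq_mul.1 h2).symm
  have hQle : (Q : Subgroup (↥M ⧸ C')) ≤ NZ := map_mono fun s hs =>
    mem_subgroupOf.2 (mem_normalizer_of_conj_le fun z hz => by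
      rwa [← h.cen z hz _ (mem_subgroupOf.1 hs), mul_inv_cancel_right])
  have htop : NZ = ⊤ := top_le_iff.1 (hcp.sup_eq_top ▸ sup_le hKle hQle)
  obtain ⟨a, ha, haZ⟩ := h.exists_A_not_Z
  obtain ⟨z, hz1⟩ := Subgroup.ne_bot_iff_exists_ne_one.1 (fun e : Z = ⊥ => by
    have := h.cardZ; rw [e, card_bot] at this; omega)
  obtain ⟨g, hg, hga⟩ := hA z (h.hZA z.2) (fun e => hz1 (OneMemClass.coe_eq_one.1 e)) a ha
    (fun e => haZ (e ▸ one_mem _))
  obtain ⟨n, hn, hne⟩ : π ⟨g, hg⟩ ∈ NZ := htop ▸ mem_top _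
  have hc := mem_subgroupOf.1 (QuotientGroup.eq.1 hne)
  set k := (n : G)⁻¹ * g with hk
  have hk' : k ∈ centralizer (A : Set G) := by simpa [hk] using hc
  refine haZ ?_
  rw [← hga, show g = (n : G) * k by rw [hk, mul_inv_cancel_left],
    show (n : G) * k * z * ((n : G) * k)⁻¹ = n * (k * z * k⁻¹) * (n : G)⁻¹ by group,
    ← mem_centralizer_iff.1 hk' z (h.hZA z.2), mul_inv_cancel_right]
  exact conj_mem_of_normalizer (mem_subgroupOf.1 hn) z.2

/-- The centralizers of the involutions of `A` are conjugate to those of central involutions. -/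
theorem cent_L (hA : LType A) {a : G} (ha : a ∈ A) (ha1 : a ≠ 1) :
    ∃ g ∈ normalizer (A : Set G), ∃ z ∈ Z, z ≠ 1 ∧ g * z * g⁻¹ = a := by
  obtain ⟨z, hz1⟩ := Subgroup.ne_bot_iff_exists_ne_one.1 (fun e : Z = ⊥ => by
    have := h.cardZ; rw [e, card_bot] at this; omega)
  have hz1' : (z : G) ≠ 1 := fun e => hz1 (OneMemClass.coe_eq_one.1 e)
  obtain ⟨g, hg, hga⟩ := hA z (h.hZA z.2) hz1' a ha ha1
  exact ⟨g, hg, z, z.2, hz1', hga⟩

theorem cent_L_solvable (hA : LType A) {a : G} (ha : a ∈ A) (ha1 : a ≠ 1) :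
    Group.IsSolvable ↥(centralizer ({a} : Set G)) := by
  obtain ⟨g, -, z, hz, hz1, rfl⟩ := h.cent_L hA ha ha1
  haveI := h.cent_Z_solvable hz hz1
  rw [cj_centralizer]
  exact Group.isSolvable_of_surjective
    (f := (equivMapOfInjective _ _ (MulAut.conj g).injective).toMonoidHom)
    (equivMapOfInjective _ _ (MulAut.conj g).injective).surjective

/-- All centralizers solvable: `A` is normal. -/
theorem ls_solvable (hO : Cfsg.oddCore G = ⊥) (hA : LType A) (hB : SType B Z)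
    (hsB : ∀ b ∈ B, b ∉ Z → Group.IsSolvable ↥(centralizer ({b} : Set G))) : A.Normal := by
  have := twoFact
  obtain ⟨hodd, heqA, hNW⟩ := h.closure_eq fun a ha ha1 => h.cent_L_solvable hA ha ha1
  obtain ⟨-, heqB, -⟩ := h.symm.closure_eq (A := B) (B := A) fun b hb hb1 => by
    by_cases hbZ : b ∈ Z
    · exact h.cent_Z_solvable hbZ hb1
    · exact hsB b hb hbZ
  set W := coreClosure A with hW
  have hNA : normalizer (A : Set G) ≤ normalizer (W : Set G) := normalizer_le_coreClosure A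
  have hNP : normalizer ((P : Subgroup G) : Set G) ≤ normalizer (W : Set G) :=
    h.normalizer_le_A.trans hNA
  have hcoreA : ∀ a ∈ A, a ≠ 1 → Cfsg.centralizerPPrimeCore 2 a ≤ W := fun a ha ha1 =>
    core_le_coreClosure ha ha1
  have hcoreB : ∀ b ∈ B, b ≠ 1 → Cfsg.centralizerPPrimeCore 2 b ≤ W := fun b hb hb1 => by
    rw [heqA, ← heqB]
    exact core_le_coreClosure hb hb1
  have hcA : ∀ {M : Subgroup G}, normalizer (A : Set G) ≤ M →
      (∀ z ∈ Z, z ≠ 1 → centralizer ({z} : Set G) ≤ M) →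
      ∀ a ∈ A, a ≠ 1 → centralizer ({a} : Set G) ≤ M := fun {M} hM hz a ha ha1 => by
    obtain ⟨g, hg, z, hzZ, hz1, rfl⟩ := h.cent_L hA ha ha1
    intro c hc
    rw [cj_centralizer] at hc
    have := mul_mem (mul_mem (hM hg) (hz z hzZ hz1 (mem_cj.1 hc))) (inv_mem (hM hg))
    rwa [show g * (g⁻¹ * c * g) * g⁻¹ = c by group] at this
  obtain ⟨z₀, hz₀⟩ := Subgroup.ne_bot_iff_exists_ne_one.1 (fun e : Z = ⊥ => by
    have := h.cardZ; rw [e, card_bot] at this; omega)
  have hz₀1 : (z₀ : G) ≠ 1 := fun e => hz₀ (OneMemClass.coe_eq_one.1 e)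
  obtain ⟨v, hv, hvZ⟩ := h.symm.exists_A_not_Z
  have hv1 : v ≠ 1 := fun e => hvZ (e ▸ one_mem _)
  have hzv : ¬ IsConj (z₀ : G) v := fun hc => by
    obtain ⟨g, hg⟩ := isConj_iff.1 hc
    exact hvZ (hg ▸ h.symm.conj_mem_Z hB z₀.2 (hg ▸ hv))
  have hcov : ∀ x ∈ (P : Subgroup G), orderOf x = 2 →
      centralizer ({x} : Set G) ≤ normalizer (W : Set G) := by
    intro x hx hx2
    have hx1 := invol_ne_one hx2
    have hzc : ∀ z ∈ Z, z ≠ 1 → centralizer ({z} : Set G) ≤ normalizer (W : Set G) := fun z hz hz1 =>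
      h.cent_Z_le_of hz hz1 ((hcoreA z (h.hZA hz) hz1).trans le_normalizer) hNP
    rcases h.invol x hx (invol_mul_self hx2) with hxA | hxB
    · exact hcA hNA hzc x hxA hx1
    · by_cases hxZ : x ∈ Z
      · exact hzc x hxZ hx1
      exact (h.symm.cent_solvable_le hB hxB hxZ (hsB x hxB hxZ)).trans
        (sup_le ((hcoreB x hxB hx1).trans le_normalizer) ((inf_le_left.trans hB).trans hNW))
  have hW1 : W = ⊥ := eq_bot_of_normalizer_top hO hodd
    (eq_top_of_two_classes P _ hNP hcov (invol_of_mul_self (h.eZ z₀.2) hz₀1)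
      (invol_of_mul_self (h.eB v hv) hv1) hzv)
  have hCP : ∀ z ∈ Z, z ≠ 1 →
      centralizer ({z} : Set G) ≤ normalizer ((P : Subgroup G) : Set G) := fun z hz hz1 =>
    h.cent_Z_le_of hz hz1 ((hW1 ▸ hcoreA z (h.hZA hz) hz1 :
      Cfsg.centralizerPPrimeCore 2 z ≤ ⊥).trans bot_le) le_rfl
  have hZP := h.normalizer_Z_le hCP
  have hCB : ∀ x ∈ B, x ∉ Z → centralizer ({x} : Set G) ≤ normalizer ((P : Subgroup G) : Set G) :=
    fun x hxB hxZ => (h.symm.cent_solvable_le hB hxB hxZ (hsB x hxB hxZ)).trans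
      (sup_le ((hW1 ▸ hcoreB x hxB (fun e => hxZ (e ▸ one_mem _)) :
          Cfsg.centralizerPPrimeCore 2 x ≤ ⊥).trans bot_le) ((inf_le_left.trans hB).trans hZP))
  have hPA : normalizer ((P : Subgroup G) : Set G) ≤ normalizer (A : Set G) := h.normalizer_le_A
  set D : Set G := {x | ∃ a ∈ A, a ≠ 1 ∧ IsConj a x}
  have hD2 : ∀ d ∈ D, orderOf d = 2 := by
    rintro d ⟨a, ha, ha1, hc⟩
    exact (orderOf_eq_of_isConj hc).trans (invol_of_mul_self (h.eA a ha) ha1)
  have hDconj : ∀ g : G, ∀ d ∈ D, g * d * g⁻¹ ∈ D := by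
    rintro g d ⟨a, ha, ha1, hc⟩
    exact ⟨a, ha, ha1, hc.trans (isConj_iff.2 ⟨g, rfl⟩)⟩
  have hDP : ∀ d ∈ D, d ∈ (P : Subgroup G) → d ∈ A := by
    rintro d ⟨a, ha, ha1, hc⟩ hdP
    rcases h.invol d hdP (invol_mul_self (hD2 d ⟨a, ha, ha1, hc⟩)) with e | e
    · exact e
    · obtain ⟨g, -, z, hz, hz1, rfl⟩ := h.cent_L hA ha ha1
      obtain ⟨k, hk⟩ := isConj_iff.1 hc
      refine h.hZA ?_
      have := h.symm.conj_mem_Z hB hz (g := k * g) (by
        rwa [show k * g * z * (k * g)⁻¹ = k * (g * z * g⁻¹) * k⁻¹ by group, hk])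
      rwa [show k * g * z * (k * g)⁻¹ = k * (g * z * g⁻¹) * k⁻¹ by group, hk] at this
  have hDN : ∀ d ∈ D, d ∈ normalizer (A : Set G) → d ∈ A := by
    intro d hd hdN
    obtain ⟨k, hk, hkP⟩ := exists_conj_into P h.S_le_normalizer hdN (k := 1)
      (by rw [pow_one, pow_two, invol_mul_self (hD2 d hd)])
    exact (mem_normalizer_iff.1 hk d).2 (hDP _ (hDconj k d hd) hkP)
  have hDA : D ⊆ A := by
    refine commuting_classes hD2 hDconj A (fun x hx y hy => comm_of_sq h.eA hx hy)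
      (fun d hd hdA => hcA le_rfl (fun z hz hz1 => (hCP z hz hz1).trans hPA) d hdA
        (invol_ne_one (hD2 d hd))) hDN v (invol_of_mul_self (h.eB v hv) hv1) ?_ ?_ ?_ ?_
    · intro hvD
      exact hvZ (h.mem_Z (hDP v hvD (h.hB hv)) hv)
    · intro d hd hdv
      exact hDN d hd (hPA (hCB v hv hvZ (mem_centralizer_singleton_iff.2 hdv.eq)))
    · intro v' hv' hv'N
      have hv'2 : v' * v' = 1 := invol_mul_self
        ((orderOf_eq_of_isConj hv').trans (invol_of_mul_self (h.eB v hv) hv1))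
      obtain ⟨k, hk, hkP⟩ := exists_conj_into P h.S_le_normalizer hv'N (k := 1)
        (by rw [pow_one, pow_two, hv'2])
      have hy := conj_mem_of_normalizer (inv_mem hk) (h.hZA z₀.2)
      rw [inv_inv] at hy
      refine ⟨k⁻¹ * z₀ * k, ⟨z₀, h.hZA z₀.2, hz₀1, isConj_iff.2 ⟨k⁻¹, by rw [inv_inv]⟩⟩, hy, ?_⟩
      show k⁻¹ * z₀ * k * v' = v' * (k⁻¹ * z₀ * k)
      calc k⁻¹ * z₀ * k * v' = k⁻¹ * ((z₀ : G) * (k * v' * k⁻¹)) * k := by group
        _ = k⁻¹ * ((k * v' * k⁻¹) * (z₀ : G)) * k := by rw [h.cen _ z₀.2 _ hkP]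
        _ = v' * (k⁻¹ * z₀ * k) := by group
    · intro d hd w hw
      have hw2 : w * w = 1 := invol_mul_self hw.1
      obtain ⟨g, -, hgP⟩ := exists_conj_into P le_top (mem_top w) (k := 1)
        (by rw [pow_one, pow_two, hw2])
      have hg2 : g * w * g⁻¹ * (g * w * g⁻¹) = 1 := by
        rw [show g * w * g⁻¹ * (g * w * g⁻¹) = g * (w * w) * g⁻¹ by group, hw2]; group
      have hg1 : g * w * g⁻¹ ≠ 1 := fun e => invol_ne_one hw.1 (conj_eq_one_iff.1 e)
      rcases h.invol _ hgP hg2 with hgA | hgB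
      · exact Or.inl ⟨_, hgA, hg1, isConj_iff.2 ⟨g⁻¹, by group⟩⟩
      by_cases hgZ : g * w * g⁻¹ ∈ Z
      · exact Or.inl ⟨_, h.hZA hgZ, hg1, isConj_iff.2 ⟨g⁻¹, by group⟩⟩
      refine Or.inr (centre_side_of_isConj hDconj A (w₀ := g * w * g⁻¹)
        (isConj_iff.2 ⟨g⁻¹, by group⟩) 1 ?_ ?_)
      · intro x hx hc
        simpa using hDN x hx (hPA (hCB _ hgB hgZ (mem_centralizer_singleton_iff.2 hc.eq)))
      · intro y hc
        simpa using hPA (hCB _ hgB hgZ (mem_centralizer_singleton_iff.2 hc.eq))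
  exact ⟨fun a ha g => by
    by_cases ha1 : a = 1
    · simp [ha1]
    exact hDA ⟨a, ha, ha1, isConj_iff.2 ⟨g, rfl⟩⟩⟩

end Shape

end CfsgLib.SylL34
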