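import Cfsg.Agent.Lib.SylLThreeFour.AltFiveFacts
import Cfsg.Agent.Lib.SylLThreeFour.CaseLLThree
import Cfsg.Agent.Lib.SylLThreeFour.IndexBound
import Cfsg.Agent.Lib.SylLThreeFour.LSParts

/-!
A transitive normalizer of `A`, a non-solvable centralizer of an involution of `B`: if its perfect
core is not inside the normalizer of the closure of the cores, that normalizer meets it in a strongly
embedded subgroup of index five, so the core is alternating of degree five modulo an odd normal subgroup.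
-/

set_option autoImplicit false
set_option linter.style.haveILetI false
set_option linter.unusedSectionVars false

namespace CfsgLib.SylL34

open Subgroup CfsgLib.Recog.LThreeFour CfsgLib.Invol Equiv

universe u

namespace Five

theorem center_one : ∀ σ : Perm (Fin 5), Perm.sign σ = 1 → σ * sa = sa * σ → σ * gc = gc * σ →
    σ = 1 := by decide +kernel

theorem comm_three : ∀ a b : Perm (Fin 3), Perm.sign a = 1 → Perm.sign b = 1 → a * b = b * a := by
  decide +kernel

end Five

variable {G : Type u} [Group G] [Finite G]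

/-- The index, when the larger subgroup is a product. -/
theorem relIndex_eq_of_prod {Q R Y : Subgroup G} (hY : Y ≤ R)
    (hmul : ∀ r ∈ R, ∃ y ∈ Y, y⁻¹ * r ∈ Q) : Q.relIndex R = Q.relIndex Y := by
  refine (Nat.card_eq_of_bijective (quotientSubgroupOfEmbeddingOfLE Q hY)
    ⟨(quotientSubgroupOfEmbeddingOfLE Q hY).injective, fun x => ?_⟩).symm
  induction x using QuotientGroup.induction_on with
  | _ r =>
    obtain ⟨y, hy, hyr⟩ := hmul r r.2
    exact ⟨QuotientGroup.mk ⟨y, hy⟩, QuotientGroup.eq.2 (mem_subgroupOf.2 hyr)⟩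

/-- The involutions are shared equally by the conjugates of a strongly embedded subgroup. -/
theorem card_invol_strongly {K : Type*} [Group K] [Finite K] {H : Subgroup K}
    (hH : Cfsg.IsStronglyEmbedded H) :
    Nat.card {t : K // orderOf t = 2} = H.index * Nat.card {t : K // orderOf t = 2 ∧ t ∈ H} := by
  classical
  haveI : Fintype (K ⧸ H) := Fintype.ofFinite _
  let f : {t : K // orderOf t = 2} → K ⧸ H := fun t => (se_existsUnique_fix hH t.2).choose
  have hf : ∀ t x, f t = x ↔ (t : K) • x = x := fun t x =>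
    ⟨fun e => e ▸ (se_existsUnique_fix hH t.2).choose_spec.1,
      fun e => se_fix_eq hH t.2 (se_existsUnique_fix hH t.2).choose_spec.1 e⟩
  have hc : ∀ x, Nat.card {t // f t = x} = Nat.card {t : K // orderOf t = 2 ∧ t ∈ H} := fun x => by
    rw [← se_card_invol_fix hH x]
    exact Nat.card_congr ((Equiv.subtypeEquivRight fun t => hf t x).trans
      (Equiv.subtypeSubtypeEquivSubtypeInter (fun t : K => orderOf t = 2) (fun t : K => t • x = x)))
  rw [← Nat.card_congr (Equiv.sigmaFiberEquiv f), Nat.card_sigma,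
    Finset.sum_congr rfl fun x _ => hc x, Finset.sum_const, Finset.card_univ, smul_eq_mul,
    ← Nat.card_eq_fintype_card, ← Subgroup.index_eq_card]

/-- An element conjugating a 2-subgroup into its product with a normalized odd subgroup. -/
theorem exists_normalizing {N U : Subgroup G} (hU : IsPGroup 2 U) (hN : Odd (Nat.card N))
    (hUN : U ≤ normalizer (N : Set G)) {k : G} (hk : ∀ x ∈ U, k * x * k⁻¹ ∈ N ⊔ U) :
    ∃ e ∈ N ⊔ U, e * k ∈ normalizer (U : Set G) := by
  have := twoFact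
  set E := N ⊔ U with hE
  have hUE : U ≤ E := le_sup_right
  have hi : Odd (U.subgroupOf E).index := by
    have h1 : U.relIndex E = U.relIndex N := relIndex_eq_of_prod le_sup_left fun r hr => by
      rw [hE, ← SetLike.mem_coe, coe_mul_of_right_le_normalizer_left _ _ hUN] at hr
      obtain ⟨n, hn, x, hx, rfl⟩ := hr
      exact ⟨n, hn, by simpa using hx⟩
    rw [← relIndex, h1]
    exact Odd.of_dvd_nat hN (relIndex_dvd_card U N)
  let S1 : Sylow 2 E := (hU.of_equiv (subgroupOfEquivOfLe hUE).symm).toSylow fun h2 =>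
    Nat.not_even_iff_odd.2 hi (even_iff_two_dvd.2 h2)
  have hkE : cj k U ≤ E := fun x hx => by
    have := hk _ (mem_cj.1 hx)
    rwa [show k * (k⁻¹ * x * k) * k⁻¹ = x by group] at this
  obtain ⟨S2, hS2⟩ := (((hU.map _) : IsPGroup 2 ↥(cj k U)).of_equiv
    (subgroupOfEquivOfLe hkE).symm).exists_le_sylow
  obtain ⟨e, he⟩ := MulAction.exists_smul_eq ↥E S2 S1
  refine ⟨e, e.2, mem_normalizer_of_conj_le fun x hx => ?_⟩
  have hy : k * x * k⁻¹ ∈ cj k U := mem_cj_of k hx
  have : e * ⟨_, hkE hy⟩ * e⁻¹ ∈ (S1 : Subgroup E) := by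
    rw [← he]; exact mem_cj_of e (hS2 hy)
  have h2 : (e : G) * (k * x * k⁻¹) * (e : G)⁻¹ ∈ U := this
  rwa [show (e : G) * k * x * ((e : G) * k)⁻¹ = e * (k * x * k⁻¹) * (e : G)⁻¹ by group]

/-- A map of a subgroup onto the alternating group of degree five with odd kernel, sending `Z` to
the standard four-group. -/
structure FiveMap (Z : Subgroup G) {K : Subgroup G} (f : ↥K →* Perm (Fin 5)) : Prop where
  odd : Odd (Nat.card f.ker)
  sign : ∀ k, Perm.sign (f k) = 1
  surj : ∀ σ, Perm.sign σ = 1 → ∃ k, f k = σ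
  std : ∃ z₁ z₂ : ↥K, (z₁ : G) ∈ Z ∧ (z₂ : G) ∈ Z ∧ f z₁ = Five.sa ∧ f z₂ = Five.sb

namespace FiveMap

variable {Z K : Subgroup G} {f : ↥K →* Perm (Fin 5)}

/-- The kernel contains every normal subgroup of odd order. -/
theorem le_ker (hf : FiveMap Z f) {R : Subgroup ↥K} (hR : R.Normal) (hodd : Odd (Nat.card R)) :
    R ≤ f.ker := by
  haveI : IsSimpleGroup (alternatingGroup (Fin 5)) := alternatingGroup.isSimpleGroup (by simp)
  let φ : ↥K →* alternatingGroup (Fin 5) :=
    f.codRestrict _ fun k => Perm.mem_alternatingGroup.2 (hf.sign k)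
  have hφ : Function.Surjective φ := fun σ => by
    obtain ⟨k, hk⟩ := hf.surj σ (Perm.mem_alternatingGroup.1 σ.2)
    exact ⟨k, Subtype.ext hk⟩
  rcases (hR.map φ hφ).eq_bot_or_eq_top with e | e
  · intro x hx
    have : φ x ∈ R.map φ := mem_map_of_mem φ hx
    rw [e, mem_bot] at this
    exact congrArg Subtype.val this
  · exfalso
    have h60 := Subgroup.card_map_dvd (f := φ) R
    rw [e, card_top, show Nat.card (alternatingGroup (Fin 5)) = 60 by
      rw [Nat.card_eq_fintype_card]; decide +kernel] at h60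
    exact Nat.not_even_iff_odd.2 hodd (even_iff_two_dvd.2 (dvd_trans (by norm_num) h60))

/-- The kernel is invariant under the normalizer. -/
theorem ker_conj (hf : FiveMap Z f) {g : G} (hg : g ∈ normalizer (K : Set G)) {x x' : ↥K}
    (hx' : (x' : G) = g * x * g⁻¹) (hx : f x = 1) : f x' = 1 := by
  let c : ↥K →* ↥K := MonoidHom.mk' (fun k => ⟨g * k * g⁻¹, conj_mem_of_normalizer hg k.2⟩)
    fun a b => Subtype.ext (by
      show g * ((a : G) * b) * g⁻¹ = g * a * g⁻¹ * (g * b * g⁻¹)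
      group)
  have hc : Function.Surjective c := fun y => ⟨⟨g⁻¹ * y * g, by
    have := conj_mem_of_normalizer (inv_mem hg) y.2
    rwa [inv_inv] at this⟩, Subtype.ext (show g * (g⁻¹ * (y : G) * g) * g⁻¹ = y by group)⟩
  have := hf.le_ker ((MonoidHom.normal_ker f).map c hc)
    (Odd.of_dvd_nat hf.odd (Subgroup.card_map_dvd (f := c) f.ker)) (mem_map_of_mem c hx)
  rwa [show c x = x' from Subtype.ext hx'.symm] at this

/-- An element of odd order with trivial square in the image lies in the kernel. -/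
theorem eq_one_of_sq {x : ↥K} (hodd : Odd (orderOf x)) (hx : f x * f x = 1) : f x = 1 := by
  obtain ⟨k, hk⟩ := pow_sq_eq hodd
  rw [← hk, map_pow, map_pow, pow_two, hx, one_pow]

end FiveMap

namespace Shape

variable {P : Sylow 2 G} {A B Z : Subgroup G} (h : Shape (P : Subgroup G) A B Z)
include h

/-- The closure of the cores and its normalizer. -/
theorem ls_closure (hA : LType A) :
    Odd (Nat.card (coreClosure A)) ∧ coreClosure A = coreClosure Z ∧
      (∀ z ∈ Z, z ≠ 1 → Cfsg.centralizerPPrimeCore 2 z ≤ coreClosure A) ∧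
      normalizer (A : Set G) ≤ normalizer (coreClosure A : Set G) ∧
      normalizer (Z : Set G) ≤ normalizer (coreClosure A : Set G) ∧
      normalizer ((P : Subgroup G) : Set G) ≤ normalizer (coreClosure A : Set G) ∧
      ∀ z ∈ Z, z ≠ 1 → centralizer ({z} : Set G) ≤ normalizer (coreClosure A : Set G) := by
  obtain ⟨hodd, heq, hNZ⟩ := h.closure_eq fun a ha ha1 => h.cent_L_solvable hA ha ha1
  have hNA := normalizer_le_coreClosure A
  have hcore : ∀ z ∈ Z, z ≠ 1 → Cfsg.centralizerPPrimeCore 2 z ≤ coreClosure A :=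
    fun z hz hz1 => core_le_coreClosure (h.hZA hz) hz1
  exact ⟨hodd, heq, hcore, hNA, hNZ, h.normalizer_le_A.trans hNA, fun z hz hz1 =>
    h.cent_Z_le_of hz hz1 ((hcore z hz hz1).trans le_normalizer) (h.normalizer_le_A.trans hNA)⟩

/-- The normalizer of the Sylow subgroup is transitive on `B` outside `Z`. -/
theorem exists_conj_side
    (hT : ∃ n ∈ normalizer ((P : Subgroup G) : Set G), Odd (orderOf n) ∧ ∃ y ∈ B, ¬ Fixes Z n y)
    {v u : G} (hv : v ∈ B) (hvZ : v ∉ Z) (hu : u ∈ B) (huZ : u ∉ Z) :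
    ∃ m ∈ normalizer ((P : Subgroup G) : Set G), m * v * m⁻¹ = u := by
  obtain ⟨n, hn, hodd, y₀, hy₀, hy₀n⟩ := hT
  have hnB := h.symm.normalizer_le_A hn
  have hnZ := h.normalizer_le_Z hn
  have hmove : ∀ w ∈ B, w ∉ Z → ¬ Fixes Z n w := fun w hw hwZ hf =>
    hy₀n (h.symm.fix_coset hodd hnB hnZ hw hwZ hf hy₀)
  have hmove2 : ∀ w ∈ B, w ∉ Z → ¬ Fixes Z (n ^ 2) w := fun w hw hwZ hf =>
    hmove w hw hwZ (Fixes.of_sq hodd hnZ hf)
  have hB' : ∀ {g w : G}, g ∈ normalizer (B : Set G) → g ∈ normalizer (Z : Set G) → w ∈ B → w ∉ Z →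
      g * w * g⁻¹ ∈ B ∧ g * w * g⁻¹ ∉ Z := fun {g w} hgB hgZ hw hwZ =>
    ⟨conj_mem_of_normalizer hgB hw, fun e => hwZ ((mem_normalizer_iff.1 hgZ w).2 e)⟩
  -- moving inside a coset
  have hco : ∀ {g : G}, g ∈ normalizer ((P : Subgroup G) : Set G) → (g * v * g⁻¹)⁻¹ * u ∈ Z →
      ∃ m ∈ normalizer ((P : Subgroup G) : Set G), m * v * m⁻¹ = u := by
    intro g hg hc
    obtain ⟨hwB, hwZ⟩ := hB' (h.symm.normalizer_le_A hg) (h.normalizer_le_Z hg) hv hvZ
    obtain ⟨a, ha, hau⟩ := h.symm.exists_move hwB hwZ hc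
    rw [mul_inv_cancel_left] at hau
    exact ⟨a * g, mul_mem (le_normalizer (h.hA ha)) hg, by rw [← hau]; group⟩
  obtain ⟨hyB, hyZ⟩ := hB' hnB hnZ hv hvZ
  obtain ⟨hwB, hwZ⟩ := hB' (pow_mem hnB 2) (pow_mem hnZ 2) hv hvZ
  rcases h.symm.cosets hv hvZ hyB hyZ (hmove v hv hvZ) hu with e | e | e | e
  · exact absurd e huZ
  · exact hco (one_mem _) (by simpa using e)
  · exact hco hn e
  rcases h.symm.cosets hv hvZ hyB hyZ (hmove v hv hvZ) hwB with e' | e' | e' | e'
  · exact absurd e' hwZ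
  · exact absurd e' (hmove2 v hv hvZ)
  · exact absurd (by
      unfold Fixes
      rw [show n * (n * v * n⁻¹) * n⁻¹ = n ^ 2 * v * (n ^ 2)⁻¹ by rw [pow_two]; group]
      exact e') (hmove _ hyB hyZ)
  refine hco (pow_mem hn 2) ?_
  have := mul_mem (inv_mem e') e
  rwa [show ((v * (n * v * n⁻¹))⁻¹ * (n ^ 2 * v * (n ^ 2)⁻¹))⁻¹ *
    ((v * (n * v * n⁻¹))⁻¹ * u) = (n ^ 2 * v * (n ^ 2)⁻¹)⁻¹ * u by group] at this

/-- A common element of the centralizers of an involution of `Z` and of a side involution. -/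
theorem cent_side_decomp (hB : SType B Z) {u : G} (hu : u ∈ B) (huZ : u ∉ Z) {z : G} (hz : z ∈ Z)
    (hz1 : z ≠ 1) {c : G} (hcz : c * z = z * c) (hcu : c * u = u * c) :
    ∃ o ∈ Cfsg.centralizerPPrimeCore 2 z, o * u = u * o ∧ ∃ b ∈ B, c = o * b := by
  have := twoFact
  set O := Cfsg.centralizerPPrimeCore 2 z with hO
  have hnorm : ∀ {x : G}, x * z = z * x → x ∈ normalizer (O : Set G) := fun {x} hx =>
    CfsgLib.InvChar.ConstrainedSignalizer.le_normalizer_core hx.symm
  have hN : normalizer ((P : Subgroup G) : Set G) ⊓ centralizer ({z} : Set G) ≤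
      normalizer (O : Set G) := fun x hx => hnorm (mem_centralizer_singleton_iff.1 (mem_inf.1 hx).2)
  have hc := h.cent_Z_le hz hz1 (mem_centralizer_singleton_iff.2 hcz)
  rw [← SetLike.mem_coe, coe_mul_of_right_le_normalizer_left _ _ hN] at hc
  obtain ⟨o₁, ho₁, m, hm, rfl⟩ := hc
  obtain ⟨hmP, hmz⟩ := mem_inf.1 hm
  have hmz' := mem_centralizer_singleton_iff.1 hmz
  have huP := h.hB hu
  have hzu : z * u = u * z := h.cen z hz u huP
  have hodd : Odd (Nat.card O) := CfsgLib.InvChar.ConstrainedSignalizer.odd_core z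
  -- `m` commutes with `u`
  have hmu : m * u = u * m := by
    have h1 : m * u * m⁻¹ * u⁻¹ ∈ O := by
      have h2 : m * u * m⁻¹ * u⁻¹ = o₁⁻¹ * (u * o₁ * u⁻¹) := by
        calc m * u * m⁻¹ * u⁻¹ = o₁⁻¹ * ((o₁ * m) * u) * (m⁻¹ * u⁻¹) := by group
          _ = o₁⁻¹ * (u * (o₁ * m)) * (m⁻¹ * u⁻¹) := by rw [hcu]
          _ = o₁⁻¹ * (u * o₁ * u⁻¹) := by group
      rw [h2]
      exact mul_mem (inv_mem ho₁) (conj_mem_of_normalizer (hnorm hzu.symm) ho₁)
    have h3 : m * u * m⁻¹ * u⁻¹ ∈ (P : Subgroup G) :=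
      mul_mem (conj_mem_of_normalizer hmP huP) (inv_mem huP)
    obtain ⟨k, hk⟩ := P.2 ⟨_, h3⟩
    have h4 : m * u * m⁻¹ * u⁻¹ = 1 := by
      rw [← orderOf_eq_one_iff]
      refine Nat.Coprime.eq_one_of_dvd (Nat.Coprime.pow_left k (Nat.coprime_two_left.2
        (Odd.of_dvd_nat hodd (orderOf_dvd_natCard O h1)))).symm ?_
      exact orderOf_dvd_of_pow_eq_one (congrArg Subtype.val hk)
    rwa [mul_inv_eq_one, mul_inv_eq_iff_eq_mul] at h4
  obtain ⟨s, hs, e, hem, hen, hodde, hme⟩ := exists_odd_part P hmP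
  have hle : zpowers m ≤ centralizer ({z} : Set G) ⊓ centralizer ({u} : Set G) :=
    zpowers_le.2 (mem_inf.2 ⟨hmz, mem_centralizer_singleton_iff.2 hmu⟩)
  obtain ⟨hez, heu⟩ := mem_inf.1 (hle hem)
  rw [mem_centralizer_singleton_iff] at hez heu
  have hsu : s * u = u * s := by
    rw [hme, mul_assoc, heu, ← mul_assoc, ← mul_assoc] at hmu
    exact mul_right_cancel hmu
  have hsB : s ∈ B := h.symm.selfA hu huZ hs hsu
  -- the odd part centralizes the Sylow subgroup
  have heA := h.normalizer_le_A hen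
  have heB := h.symm.normalizer_le_A hen
  have heZ := h.normalizer_le_Z hen
  have hcZ : ∀ y ∈ Z, e * y = y * e := fun y hy => h.fix_Z hodde heZ hz hz1 hez hy
  have hfu : Fixes Z e u := by
    unfold Fixes
    rw [heu, mul_inv_cancel_right, inv_mul_cancel]
    exact one_mem _
  have heP : e ∈ centralizer ((P : Subgroup G) : Set G) := mem_centralizer_iff.2 fun p hp => by
    obtain ⟨a, ha, b, hb, rfl⟩ := h.exists_mul hp
    have h5 : e * b = b * e := h.symm.cent_of_fixes hodde heB hcZ hb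
      (h.symm.fix_coset hodde heB heZ hu huZ hfu hb)
    have h6 : e * a = a * e := h.cent_of_fixes hodde heA hcZ ha
      (h.symm.fix_other heA hcZ hu huZ hfu ha)
    rw [mul_assoc, ← h5, ← mul_assoc, ← h6, mul_assoc]
  have hZO : Z ≤ normalizer (O : Set G) := fun t ht => hnorm (h.cen t ht z (h.hZS hz))
  have he' := h.centralizer_sylow_le hz hz1 heP
  rw [← SetLike.mem_coe, coe_mul_of_left_le_normalizer_right _ _ hZO] at he'
  obtain ⟨t, ht, o₂, ho₂, hto⟩ := he'
  have hstB : s * t ∈ B := mul_mem hsB (h.hZB ht)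
  have hst : s * t * z = z * (s * t) := (h.cen z hz _ (h.hB hstB)).symm
  refine ⟨o₁ * m * (s * t)⁻¹, ?_, ?_, s * t, hstB, by group⟩
  · rw [show o₁ * m * (s * t)⁻¹ = o₁ * (s * t * o₂ * (s * t)⁻¹) by
      rw [hme, ← hto]; group]
    exact mul_mem ho₁ (conj_mem_of_normalizer (hnorm hst) ho₂)
  · have h7 : Commute (s * t)⁻¹ u := (show Commute (s * t) u from
      comm_of_sq h.eB hstB hu).inv_left
    exact ((show Commute (o₁ * m) u from hcu).mul_left h7).eq

/-- An element of the perfect core centralizing an involution of `Z` is odd modulo `Z`. -/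
theorem core_cent_decomp (hB : SType B Z) {u : G} (hu : u ∈ B) (huZ : u ∉ Z) {K : Subgroup G}
    (hK : SideCore B Z u K) {z : G} (hz : z ∈ Z) (hz1 : z ≠ 1) {c : G} (hcK : c ∈ K)
    (hcz : c * z = z * c) :
    ∃ w ∈ K, w ∈ Cfsg.centralizerPPrimeCore 2 z ∧ w⁻¹ * c ∈ Z := by
  have hcu := mem_centralizer_singleton_iff.1 (hK.le hcK)
  obtain ⟨o, ho, hou, b, hb, rfl⟩ := h.cent_side_decomp hB hu huZ hz hz1 hcz hcu
  have hoN := hK.normalizes (mem_centralizer_singleton_iff.2 hou)
  have h1 : b * o ∈ K := by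
    have := conj_mem_of_normalizer (inv_mem hoN) hcK
    rwa [inv_inv, show o⁻¹ * (o * b) * o = b * o by group] at this
  have h2 : o ^ 2 ∈ K := by
    have := mul_mem hcK h1
    rwa [show o * b * (b * o) = o * (b * b) * o by group, h.eB b hb, mul_one, ← pow_two] at this
  have hodd : Odd (orderOf o) := Odd.of_dvd_nat
    (CfsgLib.InvChar.ConstrainedSignalizer.odd_core z) (orderOf_dvd_natCard _ ho)
  obtain ⟨k, hk⟩ := pow_sq_eq hodd
  have hoK : o ∈ K := hk ▸ pow_mem h2 k
  refine ⟨o, hoK, ho, hK.inter.le (mem_inf.2 ⟨mul_mem (inv_mem hoK) hcK, ?_⟩)⟩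
  rwa [inv_mul_cancel_left]

/-- The Sylow subgroup of a perfect core is the four-group `Z`. -/
theorem sideCore_klein {u : G} {K : Subgroup G} (hK : SideCore B Z u K) :
    ∃ T : Sylow 2 ↥K, (T : Subgroup ↥K) = Z.subgroupOf K ∧ IsKleinFour (T : Subgroup ↥K) := by
  obtain ⟨T, hT⟩ : ∃ T : Sylow 2 ↥K, (T : Subgroup ↥K) = Z.subgroupOf K := hK.sylow
  have eTZ : Nat.card (T : Subgroup ↥K) = 4 := by
    rw [hT, Nat.card_congr (subgroupOfEquivOfLe hK.Z_le).toEquiv, h.cardZ]
  haveI : Nontrivial ↥(T : Subgroup ↥K) := Finite.one_lt_card_iff_nontrivial.1 (by rw [eTZ]; norm_num)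
  refine ⟨T, hT, eTZ, (Monoid.exponent_eq_prime_iff Nat.prime_two).2 fun t ht => ?_⟩
  refine invol_of_mul_self (Subtype.ext ?_) ht
  exact Subtype.ext (h.eZ (mem_subgroupOf.1 (hT.le t.2)))

set_option maxHeartbeats 1000000 in
/-- A perfect core escaping the normalizer of the closure is alternating of degree five modulo an
odd normal subgroup. -/
theorem exists_five (hA : LType A) (hB : SType B Z) {u : G} (hu : u ∈ B) (huZ : u ∉ Z)
    {K : Subgroup G} (hK : SideCore B Z u K)
    (hKM : ¬ K ≤ normalizer (coreClosure A : Set G)) :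
    ∃ f : ↥K →* Perm (Fin 5), FiveMap Z f := by
  classical
  have := twoFact
  obtain ⟨hWodd, -, hcore, -, hNZ, hNP, hcM⟩ := h.ls_closure hA
  set W := coreClosure A
  set M := normalizer (W : Set G)
  set H : Subgroup ↥K := M.subgroupOf K
  have hH : H ≠ ⊤ := fun e => hKM (subgroupOf_eq_top.1 e)
  have hZM : Z ≤ M := h.hZS.trans (le_normalizer.trans hNP)
  obtain ⟨T, hT, hTk⟩ := h.sideCore_klein hK
  have hTH : (T : Subgroup ↥K) ≤ H := by rw [hT]; exact fun x hx => hZM hx
  have hse : Cfsg.IsStronglyEmbedded H := by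
    have hTm : ((T.subtype hTH : Sylow 2 H) : Subgroup H).map H.subtype = (T : Subgroup ↥K) :=
      map_subgroupOf_eq_of_le hTH
    have hp : Cfsg.IsStronglyPEmbedded 2 H := by
      refine (Cfsg.Agent.S2899.result H hH (T.subtype hTH)).2 ⟨fun x hx ho c hc => ?_, ?_⟩
      · rw [hTm, hT] at hx
        exact hcM x hx (fun e => invol_ne_one ho (Subtype.ext e)) (mem_centralizer_singleton_iff.2
          (congrArg Subtype.val (mem_centralizer_singleton_iff.1 hc)))
      · rw [hTm]
        intro n hn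
        refine hNZ (mem_normalizer_of_conj_le fun x hx => ?_)
        have := (mem_normalizer_iff.1 hn ⟨x, hK.Z_le hx⟩).1 (by rw [hT]; exact hx)
        rwa [hT] at this
    obtain ⟨-, h2, h3⟩ := CfsgLib.Amalgam.isStronglyPEmbedded_iff_trivialMeet.1 hp
    exact ⟨hH, even_iff_two_dvd.2 h2,
      fun g hg => Nat.not_even_iff_odd.1 fun he => h3 g hg (even_iff_two_dvd.1 he)⟩
  have eTZ : Nat.card (T : Subgroup ↥K) = 4 := by
    rw [hT, Nat.card_congr (subgroupOfEquivOfLe hK.Z_le).toEquiv, h.cardZ]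
  have hTsq : ∀ t ∈ (T : Subgroup ↥K), t * t = 1 := fun t ht => by
    rw [hT] at ht
    exact Subtype.ext (h.eZ ht)
  have hperf := hK.perfect
  -- the odd subgroup
  set X := W ⊓ K
  have hXodd : Odd (Nat.card X) := Odd.of_dvd_nat hWodd (card_dvd_of_le inf_le_left)
  have hXn : ∀ z ∈ Z, ∀ x ∈ X, z * x * z⁻¹ ∈ X := fun z hz x hx =>
    mem_inf.2 ⟨conj_mem_of_normalizer (hZM hz) (mem_inf.1 hx).1,
      mul_mem (mul_mem (hK.Z_le hz) (mem_inf.1 hx).2) (inv_mem (hK.Z_le hz))⟩
  have hXZ : ∀ z ∈ Z, z ∈ X → z = 1 := fun z hz hzX => by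
    rw [← orderOf_eq_one_iff]
    exact Nat.Coprime.eq_one_of_dvd (Nat.coprime_two_left.2
        (Odd.of_dvd_nat hXodd (orderOf_dvd_natCard X hzX))).symm
      (orderOf_dvd_of_pow_eq_one (by rw [pow_two, h.eZ hz]))
  let π : G → ℕ := fun a =>
    (X ⊓ centralizer (Z : Set G)).relIndex (X ⊓ centralizer ({a} : Set G))
  let I : G → ℕ := fun a => Nat.card {s : G // s ∈ X ∧ a * s * a⁻¹ = s⁻¹}
  have hπ : ∀ a, 0 < π a := fun a => Nat.pos_of_ne_zero index_ne_zero_of_finite
  set N := Nat.card {t : ↥K // orderOf t = 2}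
  set NH := Nat.card {t : ↥K // orderOf t = 2 ∧ t ∈ H}
  have hupper : ∀ a ∈ Z, a ≠ 1 → N ≤ 15 * π a ^ 2 := by
    intro a ha ha1
    refine (four_sylow_invol_bounds T hTk hperf ⟨a, hK.Z_le ha⟩ (by rw [hT]; exact ha)
      (by rw [Subgroup.orderOf_mk]; exact invol_of_mul_self (h.eZ ha) ha1) (π a) ?_).2
    have e1 : centralizer ((T : Subgroup ↥K) : Set ↥K) =
        (K ⊓ centralizer (Z : Set G)).subgroupOf K := by
      ext x
      rw [mem_subgroupOf, mem_inf, mem_centralizer_iff, mem_centralizer_iff]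
      refine ⟨fun hx => ⟨x.2, fun y hy => congrArg Subtype.val
        (hx ⟨y, hK.Z_le hy⟩ (by rw [hT]; exact hy))⟩, fun hx y hy => Subtype.ext ?_⟩
      rw [hT] at hy
      exact hx.2 _ hy
    have e2 : centralizer ({⟨a, hK.Z_le ha⟩} : Set ↥K) =
        (K ⊓ centralizer ({a} : Set G)).subgroupOf K := by
      ext x
      rw [mem_subgroupOf, mem_inf, mem_centralizer_singleton_iff, mem_centralizer_singleton_iff]
      exact ⟨fun hx => ⟨x.2, congrArg Subtype.val hx⟩, fun hx => Subtype.ext hx.2⟩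
    rw [e1, e2, relIndex_subgroupOf inf_le_left,
      relIndex_eq_of_prod (Y := X ⊓ centralizer ({a} : Set G))
        (le_inf (inf_le_left.trans inf_le_right) inf_le_right) ?_]
    · show (X ⊓ centralizer (Z : Set G)).relIndex _ = _
      rw [← inf_relIndex_right, ← inf_relIndex_right (H := K ⊓ _)]
      congr 1
      ext x
      simp only [mem_inf, X]
      tauto
    · intro r hr
      obtain ⟨hrK, hra⟩ := mem_inf.1 hr
      obtain ⟨w, hwK, hwO, hwr⟩ := h.core_cent_decomp hB hu huZ hK ha ha1 hrK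
        (mem_centralizer_singleton_iff.1 hra)
      exact ⟨w, mem_inf.2 ⟨mem_inf.2 ⟨hcore a ha ha1 hwO, hwK⟩, core_le_centralizer a hwO⟩,
        mem_inf.2 ⟨hK.Z_le hwr, mem_centralizer_iff.2 fun y hy => h.cen y hy _ (h.hZS hwr)⟩⟩
  have hlower : ∀ a ∈ Z, a ≠ 1 → ∀ b ∈ Z, b ≠ 1 → a ≠ b → π b * π (a * b) ≤ I a := by
    intro a ha ha1 b hb hb1 hab
    have hX0 : X ⊓ centralizer ({a} : Set G) ⊓ centralizer ({b} : Set G) =
        X ⊓ centralizer (Z : Set G) := by
      ext x
      simp only [mem_inf, mem_centralizer_singleton_iff]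
      rw [mem_centralizer_iff]
      refine ⟨fun ⟨⟨hx, e1⟩, e2⟩ => ⟨hx, fun y hy => ?_⟩, fun ⟨hx, e⟩ =>
        ⟨⟨hx, (e a ha).symm⟩, (e b hb).symm⟩⟩
      rcases h.Z_cases ha ha1 hb hb1 (Ne.symm hab) hy with e | e | e | e <;> rw [e]
      · rw [one_mul, mul_one]
      · exact e1.symm
      · exact e2.symm
      · rw [mul_assoc, ← e2, ← mul_assoc, ← e1, mul_assoc]
    have := index_cent_ge X hXodd (invol_of_mul_self (h.eZ ha) ha1)
      (invol_of_mul_self (h.eZ hb) hb1) rfl (h.cen a ha b (h.hZS hb)) hab (hXn a ha) (hXn b hb)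
    simp only [hX0] at this
    rw [relIndex_eq_card_inverted hXodd (h.eZ ha) (hXn a ha)] at this
    exact this
  obtain ⟨a, ha, ha1⟩ := h.exists_Z_ne_one
  obtain ⟨b, hb, hb1, hba⟩ := h.exists_Z_other ha
  have hc1 : a * b ≠ 1 := fun e => hba (by rw [← h.eZ ha] at e; exact mul_left_cancel e)
  have hca : a * b ≠ a := fun e => hb1 (by simpa using e)
  have hcb : a * b ≠ b := fun e => ha1 (by simpa using e)
  have hsum : I a + I b + I (a * b) ≤ NH := by
    let zs : Fin 3 → G := ![a, b, a * b]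
    have hzs : ∀ i, zs i ∈ Z := by
      intro i; fin_cases i <;> simp [zs, ha, hb, mul_mem ha hb]
    have hzs1 : ∀ i, zs i ≠ 1 := by
      intro i; fin_cases i <;> simp [zs, ha1, hb1, hc1]
    have hinj : Function.Injective zs := by
      intro i j e
      fin_cases i <;> fin_cases j <;> first
        | rfl
        | (exfalso; simp [zs] at e
           first
            | exact hba e.symm | exact hba e | exact hb1 e | exact ha1 e
            | exact hca e | exact hca e.symm | exact hcb e | exact hcb e.symm)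
    have hmem : ∀ i (s : {s : G // s ∈ X ∧ zs i * s * (zs i)⁻¹ = s⁻¹}),
        ∃ hm : zs i * s.1 ∈ K, orderOf (⟨_, hm⟩ : ↥K) = 2 ∧ (⟨_, hm⟩ : ↥K) ∈ H := by
      rintro i ⟨s, hs, hinv⟩
      refine ⟨mul_mem (hK.Z_le (hzs i)) (mem_inf.1 hs).2, ?_,
        mul_mem (hZM (hzs i)) (le_normalizer (mem_inf.1 hs).1)⟩
      refine invol_of_mul_self (Subtype.ext ?_) fun e => hzs1 i ?_
      · show zs i * s * (zs i * s) = 1
        rw [inv_eq_of_mul_eq_one_right (h.eZ (hzs i))] at hinv
        rw [← mul_assoc, hinv, inv_mul_cancel]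
      · have e' : zs i * s = 1 := congrArg Subtype.val e
        refine hXZ _ (hzs i) ?_
        rw [eq_inv_of_mul_eq_one_left e']
        exact inv_mem hs
    have hle := Nat.card_le_card_of_injective
      (fun p : (i : Fin 3) × {s : G // s ∈ X ∧ zs i * s * (zs i)⁻¹ = s⁻¹} =>
        (⟨⟨zs p.1 * p.2.1, (hmem p.1 p.2).1⟩, (hmem p.1 p.2).2⟩ :
          {t : ↥K // orderOf t = 2 ∧ t ∈ H})) (by
        rintro ⟨i, s, hs, hsi⟩ ⟨j, s', hs', hsj⟩ e
        have e' : zs i * s = zs j * s' :=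
          congrArg (fun t : {t : ↥K // orderOf t = 2 ∧ t ∈ H} => ((t : ↥K) : G)) e
        have h1 : (zs j)⁻¹ * zs i = s' * s⁻¹ := by
          rw [inv_mul_eq_iff_eq_mul, ← mul_assoc, ← e', mul_inv_cancel_right]
        obtain rfl : j = i := hinj (inv_mul_eq_one.1 (hXZ _ (mul_mem (inv_mem (hzs j)) (hzs i))
          (by rw [h1]; exact mul_mem hs' (inv_mem hs))))
        obtain rfl : s = s' := mul_left_cancel e'
        rfl)
    rw [Nat.card_sigma, Fin.sum_univ_three] at hle
    exact hle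
  -- the index
  have hN : N = H.index * NH := card_invol_strongly hse
  have hn1 : H.index ≠ 1 := fun e => hH (index_eq_one.1 e)
  have hnodd : Odd H.index := Odd.of_dvd_nat
    (Nat.not_even_iff_odd.1 fun e => T.not_dvd_index (even_iff_two_dvd.1 e)) (index_dvd_of_le hTH)
  have hn5 : H.index ≤ 5 := by
    have l1 := hlower a ha ha1 b hb hb1 (Ne.symm hba)
    have l2 := hlower b hb hb1 a ha ha1 hba
    rw [comm_of_sq h.eA (h.hZA hb) (h.hZA ha)] at l2
    have l3 := hlower (a * b) (mul_mem ha hb) hc1 a ha ha1 hca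
    rw [show a * b * a = b by
      rw [comm_of_sq h.eA (h.hZA ha) (h.hZA hb), mul_assoc, h.eZ ha, mul_one]] at l3
    have p1 := hπ a
    have p2 := hπ b
    have p3 := hπ (a * b)
    have u1 := hupper a ha ha1
    have u2 := hupper b hb hb1
    have u3 := hupper _ (mul_mem ha hb) hc1
    rw [hN] at u1 u2 u3
    have hs : H.index * (π b * π (a * b) + π a * π (a * b) + π a * π b) ≤ H.index * NH :=
      Nat.mul_le_mul_left _ (by omega)
    by_contra hcon
    have h6 : 6 ≤ H.index := by omega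
    have hs6 := le_trans (Nat.mul_le_mul_right _ h6) hs
    rcases le_total (π a) (π b) with e | e <;> rcases le_total (π a) (π (a * b)) with e' | e' <;>
      rcases le_total (π b) (π (a * b)) with e'' | e'' <;>
      nlinarith [Nat.mul_le_mul e e', Nat.mul_le_mul e e'', Nat.mul_le_mul e' e'',
        Nat.mul_le_mul_left (π a) e, Nat.mul_le_mul_left (π a) e', Nat.mul_le_mul_left (π a) e'',
        Nat.mul_le_mul_left (π b) e, Nat.mul_le_mul_left (π b) e', Nat.mul_le_mul_left (π b) e'',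
        Nat.mul_le_mul_left (π (a * b)) e, Nat.mul_le_mul_left (π (a * b)) e',
        Nat.mul_le_mul_left (π (a * b)) e'']
  -- the action on the cosets
  have hker : ∀ {m : ℕ} (e : ↥K ⧸ H ≃ Fin m),
      (e.permCongrHom.toMonoidHom.comp (MulAction.toPermHom ↥K (↥K ⧸ H))).ker = H.normalCore := by
    intro m e
    rw [normalCore_eq_ker]
    ext k
    rw [MonoidHom.mem_ker, MonoidHom.mem_ker, MonoidHom.comp_apply]
    exact map_eq_one_iff _ e.permCongrHom.injective
  have hsign : ∀ {m : ℕ} (f : ↥K →* Perm (Fin m)) (k : ↥K), Perm.sign (f k) = 1 := fun f k =>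
    Abelianization.commutator_subset_ker (Perm.sign.comp f) (hperf ▸ mem_top k)
  obtain hn | hn : H.index = 3 ∨ H.index = 5 := by
    obtain ⟨r, hr⟩ := hnodd; omega
  · exfalso
    let e : ↥K ⧸ H ≃ Fin 3 := Finite.equivFinOfCardEq (H.index_eq_card.symm.trans hn)
    set f := e.permCongrHom.toMonoidHom.comp (MulAction.toPermHom ↥K (↥K ⧸ H)) with hf
    have htop : commutator ↥K ≤ f.ker := by
      rw [commutator_def, commutator_le]
      intro x _ y _
      rw [MonoidHom.mem_ker, map_commutatorElement, commutatorElement_eq_one_iff_mul_comm]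
      exact Five.comm_three _ _ (hsign f x) (hsign f y)
    rw [hperf, hf, hker e, top_le_iff] at htop
    exact hH (top_le_iff.1 (htop ▸ H.normalCore_le))
  let e : ↥K ⧸ H ≃ Fin 5 := Finite.equivFinOfCardEq (H.index_eq_card.symm.trans hn)
  set f₀ := e.permCongrHom.toMonoidHom.comp (MulAction.toPermHom ↥K (↥K ⧸ H)) with hf₀
  have hkH : f₀.ker ≤ H := (hker e).le.trans H.normalCore_le
  have hodd : Odd (Nat.card f₀.ker) := by
    rw [← Nat.not_even_iff_odd, even_iff_two_dvd]
    intro h2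
    obtain ⟨x, hx⟩ := exists_prime_orderOf_dvd_card' 2 h2
    obtain ⟨t, htH, ht⟩ := se_exists_invol_notMem hse
    obtain ⟨g, hg⟩ := isConj_iff.1 (one_class_of_perfect T hTk hperf (x : ↥K) t
      (by rw [Subgroup.orderOf_coe, hx]) ht)
    exact htH (hkH (hg ▸ (MonoidHom.normal_ker f₀).conj_mem _ x.2 g))
  have hle : f₀.range ≤ alternatingGroup (Fin 5) := by
    rintro _ ⟨k, rfl⟩
    exact Perm.mem_alternatingGroup.2 (hsign f₀ k)
  have hinjT : ∀ t ∈ (T : Subgroup ↥K), f₀ t = 1 → t = 1 := fun t ht ht1 => by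
    rw [← orderOf_eq_one_iff]
    exact Nat.Coprime.eq_one_of_dvd (Nat.coprime_two_left.2
        (Odd.of_dvd_nat hodd (orderOf_dvd_natCard f₀.ker (MonoidHom.mem_ker.2 ht1)))).symm
      (orderOf_dvd_of_pow_eq_one (by rw [pow_two, hTsq t ht]))
  have hrange : f₀.range = alternatingGroup (Fin 5) := by
    have h60 : Nat.card (alternatingGroup (Fin 5)) = 60 := by
      rw [Nat.card_eq_fintype_card]; decide +kernel
    have hd := card_dvd_of_le hle
    rw [h60] at hd
    have h5 : 5 ∣ Nat.card f₀.range := by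
      have := index_dvd_of_le hkH
      rwa [hn, index_ker] at this
    have h4 : 4 ∣ Nat.card f₀.range := by
      have hinj : Function.Injective (f₀.comp (T : Subgroup ↥K).subtype) :=
        (MonoidHom.ker_eq_bot_iff _).1 (eq_bot_iff.2 fun t ht => Subtype.ext (hinjT t t.2 ht))
      rw [← eTZ, Nat.card_congr (MonoidHom.ofInjective hinj).toEquiv]
      exact card_dvd_of_le (by rintro _ ⟨t, rfl⟩; exact ⟨_, rfl⟩)
    obtain ⟨r, hr⟩ : 20 ∣ Nat.card f₀.range := by
      simpa using Nat.Coprime.mul_dvd_of_dvd_of_dvd (by norm_num : Nat.Coprime 4 5) h4 h5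
    have hr3 : r ∣ 3 := (Nat.mul_dvd_mul_iff_left (by norm_num : 0 < 20)).1 (hr ▸ hd)
    rcases (Nat.dvd_prime Nat.prime_three).1 hr3 with rfl | rfl
    · exact (Five.no_twenty _ hle (by rw [hr])).elim
    · exact eq_of_le_of_card_ge hle (by rw [h60, hr])
  -- the standard position
  set za : ↥K := ⟨a, hK.Z_le ha⟩
  set zb : ↥K := ⟨b, hK.Z_le hb⟩
  have hza : za ∈ (T : Subgroup ↥K) := by rw [hT]; exact ha
  have hzb : zb ∈ (T : Subgroup ↥K) := by rw [hT]; exact hb
  obtain ⟨g, hga, hgb⟩ := Five.normal_form (f₀ za) (by rw [← map_mul, hTsq za hza, map_one])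
    (fun e' => ha1 (congrArg Subtype.val (hinjT za hza e'))) (hsign f₀ za)
    (f₀ zb) (by rw [← map_mul, hTsq zb hzb, map_one])
    (fun e' => hb1 (congrArg Subtype.val (hinjT zb hzb e'))) (hsign f₀ zb)
    (by rw [← map_mul, ← map_mul]; exact congrArg f₀ (Subtype.ext (h.cen a ha b (h.hZS hb))))
    (fun e' => hba (by
      have := congrArg Subtype.val (hinjT _ (mul_mem (inv_mem hza) hzb)
        (by rw [map_mul, map_inv, e', inv_mul_cancel]))
      exact (inv_mul_eq_one.1 (this : a⁻¹ * b = 1)).symm))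
  refine ⟨(MulAut.conj g).toMonoidHom.comp f₀, ?_, fun k => ?_, fun σ hσ => ?_,
    za, zb, ha, hb, ?_, ?_⟩
  · have : ((MulAut.conj g).toMonoidHom.comp f₀).ker = f₀.ker := by
      ext k
      rw [MonoidHom.mem_ker, MonoidHom.mem_ker, MonoidHom.comp_apply]
      exact map_eq_one_iff _ (MulAut.conj g).injective
    rwa [this]
  · show Perm.sign (g * f₀ k * g⁻¹) = 1
    rw [map_mul, map_mul, map_inv, hsign f₀ k, mul_one, mul_inv_cancel]
  · have hm : g⁻¹ * σ * g ∈ f₀.range := by
      rw [hrange, Perm.mem_alternatingGroup, map_mul, map_mul, map_inv, hσ, mul_one, inv_mul_cancel]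
    obtain ⟨k, hk⟩ := hm
    exact ⟨k, show g * f₀ k * g⁻¹ = σ by rw [hk]; group⟩
  · show g * f₀ za * g⁻¹ = _
    rw [hga, mul_inv_cancel_right]
  · show g * f₀ zb * g⁻¹ = _
    rw [hgb, mul_inv_cancel_right]

end Shape

end CfsgLib.SylL34
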