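import Cfsg.Agent.Lib.SylLThreeFour.LSPairs

/-!
The counting end of the case of a transitive `A` and a centre-normalizing `B`: with trivial cores of
the central involutions, `A` is normal.
-/

set_option autoImplicit false

namespace CfsgLib.SylL34

open Subgroup CfsgLib.Recog.LThreeFour CfsgLib.Invol

universe u

variable {G : Type u} [Group G] [Finite G] {P : Sylow 2 G} {A B Z : Subgroup G}

theorem Shape.ls_count (h : Shape (P : Subgroup G) A B Z) (hO : Cfsg.oddCore G = ⊥) (hA : LType A)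
    (hB : SType B Z) {v : G} (hv : v ∈ B) (hvZ : v ∉ Z)
    (hns : ¬ Group.IsSolvable ↥(Subgroup.centralizer ({v} : Set G)))
    (hT : ∃ n ∈ Subgroup.normalizer ((P : Subgroup G) : Set G),
      Odd (orderOf n) ∧ ∃ y ∈ B, ¬ Fixes Z n y)
    (hC : ∀ z ∈ Z, z ≠ 1 →
      Subgroup.centralizer ({z} : Set G) ≤ Subgroup.normalizer ((P : Subgroup G) : Set G)) :
    A.Normal := by
  have := twoFact
  obtain ⟨K, hK⟩ := h.symm.exists_sideCore hB hv hvZ hns
  have L : Shape.LSHyp P A B Z v K := ⟨h, hA, hB, hv, hvZ, hns, hT, hC, hK⟩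
  obtain ⟨z, hz, hz1⟩ := L.exists_z
  have hz2 : orderOf z = 2 := invol_of_mul_self (h.eZ hz) hz1
  have hvz : ¬ IsConj v z := fun e => L.not_isConj hz e.symm
  -- the order of the group
  have hpairs := card_pairs_two L.orderOf_v hz2 hvz (c := z) (d := v) (L.not_isConj hz)
    (fun x y w _ _ hw => L.conj_cases hz hz1 hw.1)
  rw [L.card_pairs_z hz hz1, L.card_pairs_v hO hz hz1] at hpairs
  have hv240 := card_class_mul_card_centralizer v
  have hz192 := card_class_mul_card_centralizer z
  rw [L.card_cent_v hO] at hv240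
  rw [L.card_cent_z hO hz hz1] at hz192
  have hG : Nat.card G = 48960 := by
    refine Nat.eq_of_mul_eq_mul_left (Nat.card_pos (α := G)) ?_
    calc Nat.card G * Nat.card G
        = (Nat.card {x : G // IsConj v x} * 240) * (Nat.card {x : G // IsConj z x} * 192) := by
          rw [hv240, hz192]
      _ = (Nat.card {x : G // IsConj v x} * Nat.card {x : G // IsConj z x}) * (240 * 192) := by ring
      _ = ((Nat.card {x : G // IsConj z x} * 192) * 11520) +
            ((Nat.card {x : G // IsConj v x} * 240) * 37440) := by rw [hpairs]; ring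
      _ = Nat.card G * 48960 := by rw [hv240, hz192]; ring
  -- the normalizer of `A`
  have hNA : Nat.card ↥(normalizer (A : Set G)) = 2880 := by
    rw [card_eq_orbit_mul (normalizer (A : Set G)) z,
      inf_eq_right.2 ((hC z hz hz1).trans h.normalizer_le_A), L.card_cent_z hO hz hz1]
    have hset : {y : G | ∃ g ∈ normalizer (A : Set G), g * z * g⁻¹ = y} = (A : Set G) \ {1} := by
      ext y
      constructor
      · rintro ⟨g, hg, rfl⟩
        exact ⟨conj_mem_of_normalizer hg (h.hZA hz), fun e => hz1 (conj_eq_one_iff.1 e)⟩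
      · rintro ⟨hy, hy1⟩
        exact hA z (h.hZA hz) hz1 y hy hy1
    rw [hset, Set.ncard_sdiff_singleton_of_mem (one_mem A), ← Nat.card_coe_set_eq,
      SetLike.coe_sort_coe, h.cardA]
  by_cases hcore : (normalizer (A : Set G)).normalCore = ⊥
  · exact (false_of_order_48960 _ hG hNA hcore).elim
  -- the class of `z` lies in `A`
  set R := (normalizer (A : Set G)).normalCore
  have hRn : R.Normal := normalCore_normal _
  have heven : 2 ∣ Nat.card R := by
    by_contra hd
    exact hcore (le_bot_iff.1 (hO ▸ CfsgLib.Invol.le_oddCore hRn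
      (Nat.odd_iff.2 (Nat.two_dvd_ne_zero.1 hd))))
  obtain ⟨r, hr⟩ := exists_prime_orderOf_dvd_card' 2 heven
  rw [← Subgroup.orderOf_coe] at hr
  obtain ⟨g, -, hg⟩ := exists_conj_into P (M := ⊤) le_top (mem_top (r : G)) (k := 1)
    (by rw [pow_one, pow_two]; exact invol_mul_self hr)
  have hgR : g * r * g⁻¹ ∈ R := hRn.conj_mem _ r.2 g
  have hzR : z ∈ R := by
    have key : ∀ y, y ∈ R → IsConj z y → z ∈ R := fun y hy hc => by
      obtain ⟨c, rfl⟩ := isConj_iff.1 hc
      have := hRn.conj_mem _ hy c⁻¹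
      rwa [show c⁻¹ * (c * z * c⁻¹) * c⁻¹⁻¹ = z by group] at this
    rcases L.invol_cases hz hz1 hg ((orderOf_conj_eq g _).trans hr) with e | ⟨hB', hZ', -⟩
    · exact key _ hgR e.2
    · obtain ⟨a, ha, haZ⟩ := h.exists_A_not_Z
      set b := g * r * g⁻¹
      have hc := h.comm a ha b hB'
      have hc1 : a * b * a⁻¹ * b⁻¹ ≠ 1 := fun e => by
        rw [mul_inv_eq_one, mul_inv_eq_iff_eq_mul] at e
        exact (h.key ha hB' e).elim haZ hZ'
      have hcR : a * b * a⁻¹ * b⁻¹ ∈ R := mul_mem (hRn.conj_mem b hgR a) (inv_mem hgR)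
      obtain ⟨c, -, hc'⟩ := hA z (h.hZA hz) hz1 _ (h.hZA hc) hc1
      exact key _ hcR (isConj_iff.2 ⟨c, hc'⟩)
  have hclass : ∀ d, IsConj z d → d ∈ A := by
    intro d hd
    obtain ⟨c, hc⟩ := isConj_iff.1 hd
    have hd2 : orderOf d = 2 := (orderOf_eq_of_isConj hd).trans hz2
    have hdN : d ∈ normalizer (A : Set G) :=
      normalCore_le _ (hc ▸ hRn.conj_mem z hzR c)
    obtain ⟨k, hk, hkP⟩ := exists_conj_into P h.S_le_normalizer hdN (k := 1)
      (by rw [pow_one, pow_two]; exact invol_mul_self hd2)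
    exact (mem_normalizer_iff.1 hk d).2
      (L.mem_A_of_conj hz hz1 hkP (hd.trans (isConj_iff.2 ⟨k, rfl⟩)))
  refine ⟨fun p hp c => ?_⟩
  by_cases hp1 : p = 1
  · rw [hp1, mul_one, mul_inv_cancel]; exact one_mem A
  obtain ⟨n, -, hn⟩ := hA z (h.hZA hz) hz1 p hp hp1
  exact hclass _ ((isConj_iff.2 ⟨n, hn⟩ : IsConj z p).trans (isConj_iff.2 ⟨c, rfl⟩))

end CfsgLib.SylL34
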