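import Cfsg.Agent.Lib.SylLThreeFour.Local

/-!
Case of a transitive `A` and a centre-normalizing `B` with trivial cores of the central involutions:
the local subgroups of `z` and of an involution `v` of `B` outside the centre.
-/

set_option autoImplicit false

namespace CfsgLib.SylL34

open Subgroup CfsgLib.Recog.LThreeFour CfsgLib.Invol

universe u

section Generic

variable {G : Type u} [Group G]

/-- Orbit and stabiliser of an element under a subgroup acting by conjugation. -/
theorem card_eq_orbit_mul [Finite G] (H : Subgroup G) (x : G) :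
    Nat.card ↥H =
      {y : G | ∃ g ∈ H, g * x * g⁻¹ = y}.ncard * Nat.card ↥(H ⊓ centralizer ({x} : Set G)) := by
  set C := (centralizer ({x} : Set G)).subgroupOf H with hC
  have h1 : {y : G | ∃ g ∈ H, g * x * g⁻¹ = y}.ncard = C.index := by
    rw [← Nat.card_coe_set_eq, Subgroup.index_eq_card]
    have key : ∀ a b : ↥H, (a : G) * x * (a : G)⁻¹ = b * x * (b : G)⁻¹ ↔ a⁻¹ * b ∈ C := by
      intro a b
      rw [hC, mem_subgroupOf, mem_centralizer_singleton_iff]
      push_cast
      constructor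
      · intro e
        calc (a : G)⁻¹ * b * x = (a : G)⁻¹ * ((b : G) * x * (b : G)⁻¹) * b := by group
          _ = x * ((a : G)⁻¹ * b) := by rw [← e]; group
      · intro e
        calc (a : G) * x * (a : G)⁻¹ = a * (x * ((a : G)⁻¹ * b)) * (b : G)⁻¹ := by group
          _ = b * x * (b : G)⁻¹ := by rw [← e]; group
    refine (Nat.card_congr (Equiv.ofBijective
      (Quotient.lift (fun a : ↥H => (⟨(a : G) * x * (a : G)⁻¹, a, a.2, rfl⟩ :
        {y : G | ∃ g ∈ H, g * x * g⁻¹ = y}))
        (fun a b r => Subtype.ext ((key a b).2 (QuotientGroup.leftRel_apply.1 r)))) ⟨?_, ?_⟩)).symm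
    · intro p q
      induction p using QuotientGroup.induction_on with | H a => ?_
      induction q using QuotientGroup.induction_on with | H b => ?_
      intro e
      exact QuotientGroup.eq.2 ((key a b).1 (congrArg Subtype.val e))
    · rintro ⟨y, g, hg, rfl⟩
      exact ⟨QuotientGroup.mk ⟨g, hg⟩, rfl⟩
  have h2 : Nat.card C = Nat.card ↥(H ⊓ centralizer ({x} : Set G)) := by
    rw [hC, ← inf_subgroupOf_left]
    exact Nat.card_congr (subgroupOfEquivOfLe inf_le_left).toEquiv
  rw [h1, ← h2, mul_comm, C.card_mul_index]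

end Generic

namespace Shape

variable {G : Type u} [Group G] [Finite G] {P : Sylow 2 G} {A B Z : Subgroup G}

/-- The standing hypotheses of the case. -/
structure LSHyp (P : Sylow 2 G) (A B Z : Subgroup G) (v : G) (K : Subgroup G) : Prop where
  shape : Shape (P : Subgroup G) A B Z
  hA : LType A
  hB : SType B Z
  hv : v ∈ B
  hvZ : v ∉ Z
  hns : ¬ Group.IsSolvable ↥(Subgroup.centralizer ({v} : Set G))
  hT : ∃ n ∈ Subgroup.normalizer ((P : Subgroup G) : Set G), Odd (orderOf n) ∧
    ∃ y ∈ B, ¬ Fixes Z n y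
  hC : ∀ z ∈ Z, z ≠ 1 →
    Subgroup.centralizer ({z} : Set G) ≤ Subgroup.normalizer ((P : Subgroup G) : Set G)
  core : SideCore B Z v K

namespace LSHyp

variable {v : G} {K : Subgroup G} (L : LSHyp P A B Z v K)
include L

theorem v_ne : v ≠ 1 := fun e => L.hvZ (e ▸ one_mem Z)

theorem orderOf_v : orderOf v = 2 := invol_of_mul_self (L.shape.eB v L.hv) L.v_ne

theorem not_isConj {z : G} (hz : z ∈ Z) : ¬ IsConj z v := fun hc => by
  obtain ⟨g, hg⟩ := isConj_iff.1 hc
  exact L.hvZ (hg ▸ L.shape.symm.conj_mem_Z L.hB hz (hg.symm ▸ L.hv))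

theorem normalizer_Z_le_N : normalizer (Z : Set G) ≤ normalizer ((P : Subgroup G) : Set G) :=
  L.shape.normalizer_Z_le L.hC

/-- An element of the Sylow subgroup fixes the cosets of the centre. -/
theorem fixes_P {s : G} (hs : s ∈ (P : Subgroup G)) {y : G} (hy : y ∈ B) : Fixes Z s y := by
  obtain ⟨b, hb, a, ha, rfl⟩ := L.shape.symm.exists_mul hs
  refine Fixes.mul (L.shape.normalizer_le_Z (le_normalizer (L.shape.hB hb))) ?_ ?_
  · unfold Fixes
    rw [comm_of_sq L.shape.eB hb hy, mul_inv_cancel_right, inv_mul_cancel]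
    exact one_mem _
  · unfold Fixes
    have hc := L.shape.comm a ha y hy
    rw [show y⁻¹ * (a * y * a⁻¹) = y⁻¹ * (a * y * a⁻¹ * y⁻¹) * y by group, mul_assoc,
      L.shape.cen _ hc y (L.shape.hB hy), inv_mul_cancel_left]
    exact hc

/-- An element centralizing `Z`, of odd order, fixing a coset in `B` commutes with the Sylow
subgroup. -/
theorem cent_of_fix {e : G} (hodd : Odd (orderOf e))
    (heN : e ∈ normalizer ((P : Subgroup G) : Set G)) (hcZ : ∀ y ∈ Z, e * y = y * e) {b : G}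
    (hb : b ∈ B) (hbZ : b ∉ Z) (hfix : Fixes Z e b) : e ∈ centralizer ((P : Subgroup G) : Set G) := by
  have h := L.shape
  have heB := h.symm.normalizer_le_A heN
  have heA := h.normalizer_le_A heN
  have heZ := h.normalizer_le_Z heN
  refine mem_centralizer_iff.2 fun s hs => ?_
  obtain ⟨x, hx, y, hy, rfl⟩ := h.exists_mul hs
  have e1 : e * x = x * e := h.cent_of_fixes hodd heA hcZ hx
    (h.symm.fix_other heA hcZ hb hbZ hfix hx)
  have e2 : e * y = y * e := h.symm.cent_of_fixes hodd heB hcZ hy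
    (h.symm.fix_coset hodd heB heZ hb hbZ hfix hy)
  rw [mul_assoc, ← e2, ← mul_assoc, ← e1, mul_assoc]

/-- The elements of `B` outside the centre are conjugates of `v` under the normalizer of the Sylow
subgroup. -/
theorem exists_conj_v {b : G} (hb : b ∈ B) (hbZ : b ∉ Z) :
    ∃ n ∈ normalizer ((P : Subgroup G) : Set G), n * v * n⁻¹ = b := by
  have h := L.shape
  obtain ⟨n, hn, hodd, y, hy, hny⟩ := L.hT
  have hnB := h.symm.normalizer_le_A hn
  have hnZ := h.normalizer_le_Z hn
  have hnv : ¬ Fixes Z n v := fun e => hny (h.symm.fix_coset hodd hnB hnZ L.hv L.hvZ e hy)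
  set w := n * v * n⁻¹ with hw
  have hwB : w ∈ B := conj_mem_of_normalizer hnB L.hv
  have hwZ : w ∉ Z := fun e => L.hvZ (by
    have := conj_mem_of_normalizer (inv_mem hnZ) e
    rwa [show n⁻¹ * w * n⁻¹⁻¹ = v by rw [hw]; group] at this)
  have hvw : v⁻¹ * w ∉ Z := hnv
  -- the three cosets are reached
  have key : ∃ m ∈ normalizer ((P : Subgroup G) : Set G), (m * v * m⁻¹)⁻¹ * b ∈ Z := by
    rcases h.symm.cosets L.hv L.hvZ hwB hwZ hvw hb with e | e | e | e
    · exact absurd e hbZ
    · exact ⟨1, one_mem _, by simpa using e⟩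
    · exact ⟨n, hn, e⟩
    · refine ⟨n ^ 2, pow_mem hn 2, ?_⟩
      have h2 : n ^ 2 * v * (n ^ 2)⁻¹ = n * w * n⁻¹ := by rw [hw, pow_two]; group
      rw [h2]
      have hnw : n * w * n⁻¹ ∈ B := conj_mem_of_normalizer hnB hwB
      rcases h.symm.cosets L.hv L.hvZ hwB hwZ hvw hnw with f | f | f | f
      · refine absurd ?_ hwZ
        have := conj_mem_of_normalizer (inv_mem hnZ) f
        rwa [show n⁻¹ * (n * w * n⁻¹) * n⁻¹⁻¹ = w by group] at this
      · exact absurd (Fixes.of_sq hodd hnZ (show Fixes Z (n ^ 2) v by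
          unfold Fixes; rwa [h2])) hnv
      · exfalso
        refine hnv ?_
        unfold Fixes
        have := conj_mem_of_normalizer (inv_mem hnZ) f
        rwa [hw, show n⁻¹ * ((n * v * n⁻¹)⁻¹ * (n * (n * v * n⁻¹) * n⁻¹)) * n⁻¹⁻¹ =
          v⁻¹ * (n * v * n⁻¹) by group] at this
      · rw [show (n * w * n⁻¹)⁻¹ * b = ((v * w)⁻¹ * (n * w * n⁻¹))⁻¹ * ((v * w)⁻¹ * b) by group]
        exact mul_mem (inv_mem f) e
  obtain ⟨m, hm, hmb⟩ := key
  have hu : m * v * m⁻¹ ∈ B := conj_mem_of_normalizer (h.symm.normalizer_le_A hm) L.hv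
  have huZ : m * v * m⁻¹ ∉ Z := fun e => L.hvZ (by
    have := conj_mem_of_normalizer (inv_mem (h.normalizer_le_Z hm)) e
    rwa [show m⁻¹ * (m * v * m⁻¹) * m⁻¹⁻¹ = v by group] at this)
  obtain ⟨a, ha, hab⟩ := h.symm.exists_move hu huZ hmb
  refine ⟨a * m, mul_mem (le_normalizer (h.hA ha)) hm, ?_⟩
  rw [show a * m * v * (a * m)⁻¹ = a * (m * v * m⁻¹) * a⁻¹ by group, hab, mul_inv_cancel_left]

/-- The involutions of the Sylow subgroup fused to `z` lie in `A`, the others in `B`. -/
theorem invol_cases {z : G} (hz : z ∈ Z) (hz1 : z ≠ 1) {x : G} (hx : x ∈ (P : Subgroup G))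
    (hx2 : orderOf x = 2) : (x ∈ A ∧ IsConj z x) ∨ (x ∈ B ∧ x ∉ Z ∧ IsConj v x) := by
  have h := L.shape
  have hA' : x ∈ A → IsConj z x := fun hxA => by
    obtain ⟨g, -, hg⟩ := L.hA z (h.hZA hz) hz1 x hxA (invol_ne_one hx2)
    exact isConj_iff.2 ⟨g, hg⟩
  by_cases hxA : x ∈ A
  · exact Or.inl ⟨hxA, hA' hxA⟩
  · refine Or.inr ?_
    have hxB := (h.invol x hx (invol_mul_self hx2)).resolve_left hxA
    have hxZ : x ∉ Z := fun e => hxA (h.hZA e)
    obtain ⟨n, -, hn⟩ := L.exists_conj_v hxB hxZ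
    exact ⟨hxB, hxZ, isConj_iff.2 ⟨n, hn⟩⟩

theorem mem_A_of_conj {z : G} (hz : z ∈ Z) (hz1 : z ≠ 1) {x : G} (hx : x ∈ (P : Subgroup G))
    (hc : IsConj z x) : x ∈ A := by
  rcases L.invol_cases hz hz1 hx ((orderOf_eq_of_isConj hc).trans
    (invol_of_mul_self (L.shape.eZ hz) hz1)) with e | ⟨-, -, e⟩
  · exact e.1
  · exact absurd (hc.trans e.symm) (L.not_isConj hz)

/-- Every involution is fused to `z` or to `v`. -/
theorem conj_cases {z : G} (hz : z ∈ Z) (hz1 : z ≠ 1) {w : G} (hw : orderOf w = 2) :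
    IsConj z w ∨ IsConj v w := by
  obtain ⟨g, -, hg⟩ := exists_conj_into P (M := ⊤) le_top (mem_top w) (k := 1)
    (by rw [pow_one, pow_two]; exact invol_mul_self hw)
  have h1 : IsConj (g * w * g⁻¹) w := isConj_iff.2 ⟨g⁻¹, by group⟩
  rcases L.invol_cases hz hz1 hg ((orderOf_eq_of_isConj h1.symm).trans hw) with e | e
  · exact Or.inl (e.2.trans h1)
  · exact Or.inr (e.2.2.trans h1)

/-- Elements of odd order commuting with the Sylow subgroup form a subgroup. -/
theorem exists_odd_centre : ∃ X : Subgroup G, Odd (Nat.card X) ∧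
    ∀ x, x ∈ X ↔ (x ∈ centralizer ((P : Subgroup G) : Set G) ∧ Odd (orderOf x)) := by
  have := twoFact
  have h := L.shape
  set C := centralizer ((P : Subgroup G) : Set G)
  have hZC : Z ≤ C := fun y hy => mem_centralizer_iff.2 fun s hs => (h.cen y hy s hs).symm
  have hp : IsPGroup 2 ↥(Z.subgroupOf C) :=
    (h.isPGroup.to_le h.hZS).of_equiv (subgroupOfEquivOfLe hZC).symm
  obtain ⟨T, hT⟩ := hp.exists_le_sylow
  have hTe : (T : Subgroup C) = Z.subgroupOf C := by
    refine le_antisymm (fun t ht => ?_) hT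
    obtain ⟨k, hk⟩ := T.2 ⟨t, ht⟩
    have hk' : (t : G) ^ 2 ^ k = 1 :=
      congrArg (fun r : ↥(T : Subgroup C) => ((r : C) : G)) hk
    have htP : (t : G) ∈ (P : Subgroup G) := mem_sylow_of_normalizes P
      (mem_normalizer_iff.2 fun s => by
        constructor
        · intro hs
          rwa [← mem_centralizer_iff.1 t.2 s hs, mul_inv_cancel_right]
        · intro hs
          have := mem_centralizer_iff.1 t.2 _ hs
          rw [show (t : G) * s * (t : G)⁻¹ * t = t * s by group] at this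
          have e : (t : G) * s * (t : G)⁻¹ = s := mul_left_cancel this.symm
          rwa [e] at hs) hk'
    refine mem_subgroupOf.2 ?_
    obtain ⟨a, ha, haZ⟩ := h.exists_A_not_Z
    obtain ⟨b, hb, hbZ⟩ := h.symm.exists_A_not_Z
    exact h.mem_Z (h.selfA ha haZ htP (mem_centralizer_iff.1 t.2 a (h.hA ha)).symm)
      (h.symm.selfA hb hbZ htP (mem_centralizer_iff.1 t.2 b (h.hB hb)).symm)
  have hcomm : normalizer ((T : Subgroup C) : Set C) ≤ centralizer ((T : Subgroup C) : Set C) :=
    fun c _ => mem_centralizer_iff.2 fun t ht => Subtype.ext (by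
      have ht' : (t : G) ∈ Z := by
        have := SetLike.mem_coe.1 ht
        rwa [hTe, mem_subgroupOf] at this
      exact mem_centralizer_iff.1 c.2 _ (h.hZS ht'))
  set N := (MonoidHom.transferSylow T hcomm).ker
  have hcp : N.IsComplement' (T : Subgroup C) := MonoidHom.ker_transferSylow_isComplement' T hcomm
  have hodd : Odd (Nat.card N) := by
    rw [← Nat.not_even_iff_odd, even_iff_two_dvd, ← hcp.index_eq_card]
    exact T.not_dvd_index
  have hNT : N.index = 4 := by
    rw [hcp.symm.index_eq_card, hTe, Nat.card_congr (subgroupOfEquivOfLe hZC).toEquiv, h.cardZ]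
  refine ⟨N.map C.subtype, by rwa [card_map_of_injective C.subtype_injective], fun x => ⟨?_, ?_⟩⟩
  · rintro ⟨c, hc, rfl⟩
    exact ⟨c.2, by
      rw [Subgroup.coe_subtype, Subgroup.orderOf_coe]
      exact hodd.of_dvd_nat (Subgroup.orderOf_dvd_natCard N hc)⟩
  · rintro ⟨hxC, hxo⟩
    refine ⟨⟨x, hxC⟩, ?_, rfl⟩
    have h4 : (⟨x, hxC⟩ : C) ^ 4 ∈ N := hNT ▸ N.pow_index_mem _
    obtain ⟨k, hk⟩ := pow_sq_eq (g := (⟨x, hxC⟩ : C)) (by rwa [← Subgroup.orderOf_coe])
    have e : (⟨x, hxC⟩ : C) = ((⟨x, hxC⟩ : C) ^ 4) ^ (k * k) := by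
      conv_lhs => rw [← hk, ← hk]
      simp only [← pow_mul]
      congr 1
      ring
    rw [e]
    exact pow_mem h4 _

/-- An element centralizing `z` and `v` is an element of `B` times an element of odd order
centralizing the Sylow subgroup. -/
theorem cent_pair {z : G} (hz : z ∈ Z) (hz1 : z ≠ 1) {k : G} (hkv : k * v = v * k)
    (hkz : k * z = z * k) :
    ∃ s ∈ B, ∃ e ∈ centralizer ((P : Subgroup G) : Set G), Odd (orderOf e) ∧ k = s * e := by
  have h := L.shape
  obtain ⟨s, hs, e, -, heN, hodd, rfl⟩ := exists_odd_part P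
    (L.hC z hz hz1 (mem_centralizer_singleton_iff.2 hkz))
  have hez : e * z = z * e := by
    refine mul_left_cancel (a := s) ?_
    rw [← mul_assoc, hkz, ← mul_assoc, ← mul_assoc, h.cen z hz s hs]
  have hcZ : ∀ y ∈ Z, e * y = y * e := fun y hy => h.normalizer_fix_Z heN hz hz1 hez hy
  have hfix : Fixes Z e v := by
    have hse : Fixes Z (s * e) v := by
      unfold Fixes
      rw [hkv, mul_inv_cancel_right, inv_mul_cancel]
      exact one_mem _
    have hsi : s⁻¹ ∈ (P : Subgroup G) := inv_mem hs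
    have := Fixes.mul (h.normalizer_le_Z (le_normalizer hsi)) (L.fixes_P hsi L.hv) hse
    rwa [inv_mul_cancel_left] at this
  have heP := L.cent_of_fix hodd heN hcZ L.hv L.hvZ hfix
  have hev : e * v = v * e := (mem_centralizer_iff.1 heP v (h.hB L.hv)).symm
  refine ⟨s, h.symm.selfA L.hv L.hvZ hs ?_, e, heP, hodd, rfl⟩
  refine mul_right_cancel (b := e) ?_
  rw [mul_assoc, ← hev, ← mul_assoc, hkv, ← mul_assoc]

/-- The centre is not trivial. -/
theorem exists_z : ∃ z ∈ Z, z ≠ 1 := by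
  obtain ⟨z, hz⟩ := Subgroup.ne_bot_iff_exists_ne_one.1 (fun e : Z = ⊥ => by
    have := L.shape.cardZ; rw [e, Subgroup.card_bot] at this; omega)
  exact ⟨z, z.2, fun e => hz (Subtype.ext e)⟩

end LSHyp

end Shape

end CfsgLib.SylL34
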