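import Cfsg.Agent.Lib.SylLThreeFour.LSStruct
import Cfsg.Agent.Lib.SylLThreeFour.Count

/-!
Case of a transitive `A` and a centre-normalizing `B` with trivial cores: `|C(v)| = 240`, and the
pairs (conjugate of `v`, conjugate of `z`) with centre `z`, respectively `v`.
-/

set_option autoImplicit false

namespace CfsgLib.SylL34

open Subgroup CfsgLib.Recog.LThreeFour CfsgLib.Invol

universe u

namespace Shape.LSHyp

variable {G : Type u} [Group G] [Finite G] {P : Sylow 2 G} {A B Z : Subgroup G} {v : G}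
  {K : Subgroup G} (L : LSHyp P A B Z v K)
include L

/-- In the perfect core a central involution has centralizer `Z`. -/
theorem core_cent_Z (hO : Cfsg.oddCore G = ⊥) {z : G} (hz : z ∈ Z) (hz1 : z ≠ 1) :
    centralizer ({(⟨z, L.core.Z_le hz⟩ : ↥K)} : Set ↥K) = Z.subgroupOf K := by
  ext k
  rw [mem_centralizer_singleton_iff, mem_subgroupOf]
  constructor
  · intro hk
    exact L.core.inter ▸ mem_inf.2 ⟨k.2, L.cent_pair_mem hO hz hz1
      (mem_centralizer_singleton_iff.1 (L.core.le k.2)) (congrArg Subtype.val hk)⟩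
  · exact fun hk => Subtype.ext (L.shape.cen z hz _ (L.shape.hZS hk)).symm

/-- The perfect core has order 60, fifteen involutions and Klein-group centralizers. -/
theorem core_facts (hO : Cfsg.oddCore G = ⊥) {z : G} (hz : z ∈ Z) (hz1 : z ≠ 1) :
    Nat.card ↥K = 60 ∧ Nat.card {x : ↥K // orderOf x = 2} = 15 ∧
      Nat.card ↥((normalizer (Z : Set G)).subgroupOf K) = 12 := by
  obtain ⟨T, hT⟩ := L.core.sylow
  obtain ⟨h1, h2, h3, -⟩ := L.core_data hz hz1 hT
  rw [L.core_cent_Z hO hz hz1, Nat.card_congr (subgroupOfEquivOfLe L.core.Z_le).toEquiv,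
    L.shape.cardZ] at h1 h3
  exact ⟨h1, h2, h3⟩

/-- `|C(v)| = 240`, and the perfect core has index four. -/
theorem card_cent_v (hO : Cfsg.oddCore G = ⊥) :
    Nat.card ↥(centralizer ({v} : Set G)) = 240 := by
  have := twoFact
  have h := L.shape
  obtain ⟨z, hz, hz1⟩ := L.exists_z
  obtain ⟨hK60, -, hH12⟩ := L.core_facts hO hz hz1
  set C := centralizer ({v} : Set G)
  set M := normalizer (Z : Set G) ⊓ C with hM
  have hMz : M ⊓ centralizer ({z} : Set G) = B := by
    refine le_antisymm (fun g hg => ?_) fun b hb => ?_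
    · obtain ⟨hgM, hgz⟩ := mem_inf.1 hg
      exact L.cent_pair_mem hO hz hz1 (mem_centralizer_singleton_iff.1 (mem_inf.1 hgM).2)
        (mem_centralizer_singleton_iff.1 hgz)
    · exact mem_inf.2 ⟨mem_inf.2 ⟨h.normalizer_le_Z (le_normalizer (h.hB hb)), L.mem_cent_v hb⟩,
        mem_centralizer_singleton_iff.2 (h.cen z hz b (h.hB hb)).symm⟩
  have hM48 : Nat.card ↥M = 48 := by
    rw [L.card_eq_three_mul inf_le_left hz hz1 ?_ ?_, hMz, h.cardB]
    · obtain ⟨e, heB, hev, -, hmove⟩ := h.symm.exists_moving L.hB L.hv L.hvZ L.hns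
      exact ⟨e, mem_inf.2 ⟨L.hB heB, mem_centralizer_singleton_iff.2 hev⟩,
        fun e' => hmove z hz hz1 (mul_inv_eq_iff_eq_mul.1 e')⟩
    · intro hd
      rw [hMz, h.cardB] at hd
      obtain ⟨T, hT⟩ := h.symm.sylow_cent_A L.hB L.hv L.hvZ
      have h32 : 2 ^ 5 ∣ Nat.card ↥C :=
        (show 2 ^ 5 = 2 * 16 by norm_num) ▸ hd.trans (card_dvd_of_le inf_le_right)
      have := T.pow_dvd_card_of_pow_dvd_card h32
      rw [hT, Nat.card_congr (subgroupOfEquivOfLe (h.symm.A_le_cent L.hB L.hv L.hvZ)).toEquiv,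
        h.cardB] at this
      norm_num at this
  -- the product `C(v) = K M`
  set K' := K.subgroupOf C
  set M' := M.subgroupOf C
  haveI : K'.Normal := ⟨fun k hk g =>
    conj_mem_of_normalizer (g := (g : G)) (L.core.normalizes g.2) (x := (k : G)) hk⟩
  have hsup : M' ⊔ K' = ⊤ := by
    refine eq_top_iff.2 fun g _ => ?_
    have h1 : ((g : ↥C) : G) ∈ K ⊔ M := L.cent_v_le g.2
    have h2 : (M' ⊔ K').map C.subtype = K ⊔ M := by
      rw [Subgroup.map_sup, subgroupOf_map_subtype, subgroupOf_map_subtype,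
        inf_eq_left.2 L.core.le, inf_eq_left.2 (inf_le_right : M ≤ C), sup_comm]
    rw [← h2] at h1
    obtain ⟨y, hy, e⟩ := h1
    exact (Subtype.ext e : y = g) ▸ hy
  have hrel : K'.relIndex M' = K'.index := by
    rw [← relIndex_sup_right (H := M') (K := K'), hsup, relIndex_top_right]
  have hinf : Nat.card ↥(K' ⊓ M') = 12 := by
    rw [← hH12]
    have e : K' ⊓ M' = (K ⊓ normalizer (Z : Set G)).subgroupOf C := by
      ext g
      simp only [K', M', hM, mem_inf, mem_subgroupOf]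
      exact ⟨fun ⟨a, b, _⟩ => ⟨a, b⟩, fun ⟨a, b⟩ => ⟨a, b, g.2⟩⟩
    rw [e, Nat.card_congr (subgroupOfEquivOfLe (inf_le_left.trans L.core.le)).toEquiv,
      ← card_map_of_injective (f := K.subtype) (K := (normalizer (Z : Set G)).subgroupOf K)
        K.subtype_injective, subgroupOf_map_subtype, inf_comm]
  have h2 : Nat.card ↥(K' ⊓ M') * K'.relIndex M' = Nat.card ↥M' := by
    rw [← inf_relIndex_right, relIndex, ← card_mul_index ((K' ⊓ M').subgroupOf M'),
      Nat.card_congr (subgroupOfEquivOfLe (inf_le_right : K' ⊓ M' ≤ M')).toEquiv]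
  rw [hinf, hrel, Nat.card_congr (subgroupOfEquivOfLe (inf_le_right : M ≤ C)).toEquiv, hM48] at h2
  have h3 := K'.card_mul_index
  rw [Nat.card_congr (subgroupOfEquivOfLe L.core.le).toEquiv, hK60] at h3
  rw [← h3, show K'.index = 4 by omega]

/-- An involution centralizing `z` lies in the Sylow subgroup. -/
theorem mem_P_of_cent {z : G} (hz : z ∈ Z) (hz1 : z ≠ 1) {x : G} (hx : orderOf x = 2)
    (hc : x * z = z * x) : x ∈ (P : Subgroup G) :=
  mem_sylow_of_normalizes P (L.hC z hz hz1 (mem_centralizer_singleton_iff.2 hc)) (k := 1)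
    (by rw [pow_one, pow_two]; exact invol_mul_self hx)

/-- The pairs with centre `z`. -/
theorem card_pairs_z {z : G} (hz : z ∈ Z) (hz1 : z ≠ 1) : Nat.card (CentrePairs v z z) = 48 := by
  classical
  have h := L.shape
  have hz2 : orderOf z = 2 := invol_of_mul_self (h.eZ hz) hz1
  -- the commutator pairing
  have hmem : ∀ b ∈ B, ∀ a ∈ A, b * a * b⁻¹ * a⁻¹ ∈ Z := fun b hb a ha => h.symm.comm b hb a ha
  let ψ : ↥B → (↥A →* ↥Z) := fun b =>
    { toFun := fun a => ⟨(b : G) * a * (b : G)⁻¹ * (a : G)⁻¹, hmem b b.2 a a.2⟩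
      map_one' := Subtype.ext (by simp)
      map_mul' := fun a c => Subtype.ext (by
        push_cast
        calc (b : G) * (a * c) * (b : G)⁻¹ * ((a : G) * c)⁻¹
            = ((b : G) * a * (b : G)⁻¹ * (a : G)⁻¹) *
              ((a : G) * ((b : G) * c * (b : G)⁻¹ * (c : G)⁻¹) * (a : G)⁻¹) := by group
          _ = _ := by
              rw [← h.cen _ (hmem b b.2 c c.2) a (h.hA a.2), mul_inv_cancel_right]) }
  have hker : ∀ b : ↥B, (b : G) ∉ Z → (ψ b).ker = Z.subgroupOf A := by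
    intro b hbZ
    ext a
    rw [MonoidHom.mem_ker, mem_subgroupOf]
    constructor
    · intro e
      have e' : (b : G) * a = a * b := by
        have e0 : (b : G) * a * (b : G)⁻¹ * (a : G)⁻¹ = 1 := congrArg Subtype.val e
        rw [mul_inv_eq_one, mul_inv_eq_iff_eq_mul] at e0
        exact e0
      exact (h.key a.2 b.2 e'.symm).resolve_right hbZ
    · intro ha
      refine Subtype.ext ?_
      change (b : G) * a * (b : G)⁻¹ * (a : G)⁻¹ = 1
      rw [← h.cen _ ha b (h.hB b.2), mul_inv_cancel_right, mul_inv_cancel]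
  have hfib : ∀ b : ↥B, (b : G) ∉ Z → Nat.card {a : ↥A // ψ b a = ⟨z, hz⟩} = 4 := by
    intro b hbZ
    have hk4 : Nat.card (ψ b).ker = 4 := by
      rw [hker b hbZ, Nat.card_congr (subgroupOfEquivOfLe h.hZA).toEquiv, h.cardZ]
    have hr : (ψ b).range = ⊤ := by
      refine eq_top_of_le_card _ ?_
      have := (ψ b).ker.card_mul_index
      rw [Subgroup.index_ker, hk4, h.cardA] at this
      rw [h.cardZ]
      omega
    obtain ⟨a₀, ha₀⟩ : ∃ a, ψ b a = ⟨z, hz⟩ := MonoidHom.range_eq_top.1 hr ⟨z, hz⟩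
    rw [← hk4]
    exact (Nat.card_congr
      { toFun := fun k : (ψ b).ker => (⟨a₀ * k, by
          rw [map_mul, MonoidHom.mem_ker.1 k.2, mul_one, ha₀]⟩ : {a : ↥A // ψ b a = ⟨z, hz⟩})
        invFun := fun a => ⟨a₀⁻¹ * a.1, by
          rw [MonoidHom.mem_ker, map_mul, map_inv, a.2, ha₀, inv_mul_cancel]⟩
        left_inv := fun k => Subtype.ext (inv_mul_cancel_left _ _)
        right_inv := fun a => Subtype.ext (mul_inv_cancel_left _ _) }).symm
  -- the identification
  let S := {b : ↥B // (b : G) ∉ Z}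
  let I := (b : S) × {a : ↥A // ψ b.1 a = ⟨z, hz⟩}
  have hout : ∀ (b : S) (a : {a : ↥A // ψ b.1 a = ⟨z, hz⟩}),
      IsConj v ((b.1 : ↥B) : G) ∧ IsConj z ((a.1 : ↥A) : G) ∧
        Centre z (((b.1 : ↥B) : G), ((a.1 : ↥A) : G)) := by
    intro b a
    obtain ⟨n, -, hn⟩ := L.exists_conj_v b.1.2 b.2
    have e : ((b.1 : ↥B) : G) * a.1 * ((b.1 : ↥B) : G)⁻¹ * ((a.1 : ↥A) : G)⁻¹ = z :=
      congrArg Subtype.val a.2
    have ha1 : ((a.1 : ↥A) : G) ≠ 1 := fun e1 => hz1 (by rw [← e, e1]; group)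
    obtain ⟨g, -, hg⟩ := L.hA z (h.hZA hz) hz1 _ a.1.2 ha1
    refine ⟨isConj_iff.2 ⟨n, hn⟩, isConj_iff.2 ⟨g, hg⟩, hz2, 2, ?_⟩
    show (((b.1 : ↥B) : G) * a.1) ^ 2 = z
    conv_rhs => rw [← e]
    rw [inv_eq_of_mul_eq_one_right (h.eB _ b.1.2), inv_eq_of_mul_eq_one_right (h.eA _ a.1.2),
      pow_two]
    group
  have hcard : Nat.card I = 48 := by
    haveI : Fintype S := Fintype.ofFinite _
    rw [Nat.card_sigma, Finset.sum_congr rfl (fun b _ => hfib b.1 b.2), Finset.sum_const,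
      Finset.card_univ, smul_eq_mul, ← Nat.card_eq_fintype_card]
    have : Nat.card S = 12 := by
      rw [← Nat.card_congr (Equiv.subtypeSubtypeEquivSubtypeInter (fun x : G => x ∈ B)
        (fun x => x ∉ Z)).symm]
      show Nat.card ↥((B : Set G) \ (Z : Set G)) = 12
      rw [Nat.card_coe_set_eq, Set.ncard_sdiff (fun y hy => h.hZB hy) (Set.toFinite _),
        ← Nat.card_coe_set_eq, ← Nat.card_coe_set_eq, SetLike.coe_sort_coe, SetLike.coe_sort_coe,
        h.cardB, h.cardZ]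
    rw [this]
  rw [← hcard]
  refine (Nat.card_eq_of_bijective (fun i : I =>
    (⟨(⟨_, (hout i.1 i.2).1⟩, ⟨_, (hout i.1 i.2).2.1⟩), (hout i.1 i.2).2.2⟩ :
      CentrePairs v z z)) ⟨?_, ?_⟩).symm
  · rintro ⟨b, a⟩ ⟨b', a'⟩ e
    have e1 : ((b.1 : ↥B) : G) = b'.1 := congrArg (fun q : CentrePairs v z z => (q.1.1 : G)) e
    have e2 : ((a.1 : ↥A) : G) = a'.1 := congrArg (fun q : CentrePairs v z z => (q.1.2 : G)) e
    obtain rfl : b = b' := Subtype.ext (Subtype.ext e1)
    obtain rfl : a = a' := Subtype.ext (Subtype.ext e2)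
    rfl
  · rintro ⟨⟨⟨x, hx⟩, ⟨y, hy⟩⟩, hp⟩
    have hx2 : orderOf x = 2 := (orderOf_eq_of_isConj hx).trans L.orderOf_v
    have hy2 : orderOf y = 2 := (orderOf_eq_of_isConj hy).trans hz2
    have hxP := L.mem_P_of_cent hz hz1 hx2 (hp.commute_left hx2 hy2).eq.symm
    have hyP := L.mem_P_of_cent hz hz1 hy2 (hp.commute_right hx2 hy2).eq.symm
    have hyA := L.mem_A_of_conj hz hz1 hyP hy
    obtain ⟨hxB, hxZ⟩ : x ∈ B ∧ x ∉ Z := by
      rcases L.invol_cases hz hz1 hxP hx2 with e | e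
      · exact absurd (e.2.trans hx.symm) (L.not_isConj hz)
      · exact ⟨e.1, e.2.1⟩
    have hc : x * y * x⁻¹ * y⁻¹ ∈ Z := hmem x hxB y hyA
    have hsq : (x * y) ^ 2 = x * y * x⁻¹ * y⁻¹ := by
      rw [inv_eq_of_mul_eq_one_right (h.eB x hxB), inv_eq_of_mul_eq_one_right (h.eA y hyA), pow_two]
      group
    have hval : x * y * x⁻¹ * y⁻¹ = z := by
      obtain ⟨-, k, hk⟩ := hp
      have h4 : ((x * y) ^ 2) ^ 2 = 1 := by rw [hsq, pow_two]; exact h.eZ hc
      change (x * y) ^ k = z at hk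
      rcases Nat.even_or_odd k with ⟨m, hm⟩ | ⟨m, hm⟩
      · rw [hm, ← two_mul, pow_mul, hsq] at hk
        rcases Nat.even_or_odd m with ⟨t, ht⟩ | ⟨t, ht⟩
        · rw [ht, ← two_mul, pow_mul, ← hsq, h4, one_pow] at hk
          exact absurd hk.symm hz1
        · rwa [ht, pow_succ, pow_mul, ← hsq, h4, one_pow, one_mul, hsq] at hk
      · exfalso
        rw [hm, pow_succ, pow_mul, hsq] at hk
        have hxy : x * y ∈ Z := by
          have := mul_mem (inv_mem (pow_mem hc m)) hz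
          rwa [← hk, inv_mul_cancel_left] at this
        refine hxZ (h.mem_Z ?_ hxB)
        simpa using mul_mem (h.hZA hxy) (inv_mem hyA)
    exact ⟨⟨⟨⟨x, hxB⟩, hxZ⟩, ⟨⟨y, hyA⟩, Subtype.ext hval⟩⟩, rfl⟩

/-- The pairs with centre `v`. -/
theorem card_pairs_v (hO : Cfsg.oddCore G = ⊥) {z : G} (hz : z ∈ Z) (hz1 : z ≠ 1) :
    Nat.card (CentrePairs v z v) = 195 := by
  classical
  have := twoFact
  have h := L.shape
  obtain ⟨T, hT⟩ := L.core.sylow
  obtain ⟨-, hI15, -⟩ := L.core_facts hO hz hz1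
  have hone := one_class_of_perfect T (L.isKleinFour_K hT) L.core.perfect
  set zK : ↥K := ⟨z, L.core.Z_le hz⟩
  have hzK2 : orderOf zK = 2 := by
    rw [← Subgroup.orderOf_coe]; exact invol_of_mul_self (h.eZ hz) hz1
  have hK4 : ∀ k : ↥K, orderOf k = 2 → Nat.card (centralizer ({k} : Set ↥K)) = 4 ∧
      ∀ c ∈ centralizer ({k} : Set ↥K), c * c = 1 ∧
        ∀ d ∈ centralizer ({k} : Set ↥K), c * d = d * c := by
    intro k hk
    obtain ⟨g, rfl⟩ := isConj_iff.1 (hone zK k hzK2 hk)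
    have hcj : centralizer ({g * zK * g⁻¹} : Set ↥K) =
        (Z.subgroupOf K).map (MulAut.conj g).toMonoidHom := by
      rw [← L.core_cent_Z hO hz hz1]
      exact cj_centralizer g zK
    rw [hcj]
    refine ⟨by rw [card_map_of_injective (MulAut.conj g).injective,
      Nat.card_congr (subgroupOfEquivOfLe L.core.Z_le).toEquiv, h.cardZ], ?_⟩
    rintro _ ⟨c, hc, rfl⟩
    refine ⟨by rw [← map_mul, show c * c = 1 from Subtype.ext (h.eZ hc), map_one], ?_⟩
    rintro _ ⟨d, hd, rfl⟩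
    rw [← map_mul, ← map_mul, show c * d = d * c from Subtype.ext (h.cen _ hc _ (h.hZS hd))]
  -- the pairs in the core
  let J := {x : ↥K // orderOf x = 2}
  let I := (d : J) × {k : J // Odd (orderOf ((k : ↥K) * d))}
  have hfib : ∀ d : J, Nat.card {k : J // Odd (orderOf ((k : ↥K) * d))} = 13 := by
    intro d
    obtain ⟨h4, habel⟩ := hK4 d d.2
    have hset : {k : J | ¬ Odd (orderOf ((k : ↥K) * d))} =
        {k : J | (k : ↥K) ∈ centralizer ({(d : ↥K)} : Set ↥K) ∧ k ≠ d} := by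
      ext k
      simp only [Set.mem_ofPred_eq]
      constructor
      · intro ho
        refine ⟨?_, fun e => ho (by rw [e, invol_mul_self d.2, orderOf_one]; exact odd_one)⟩
        have hev : Even (orderOf ((k : ↥K) * d)) := Nat.not_odd_iff_even.1 ho
        have hw := orderOf_pow_half hev
        have hc : Centre (((k : ↥K) * d) ^ (orderOf ((k : ↥K) * d) / 2)) ((k : ↥K), (d : ↥K)) :=
          ⟨hw, _, rfl⟩
        obtain ⟨-, hab⟩ := hK4 _ hw
        refine mem_centralizer_singleton_iff.2 ((hab _ ?_).2 _ ?_)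
        · exact mem_centralizer_singleton_iff.2 (hc.commute_left k.2 d.2).eq.symm
        · exact mem_centralizer_singleton_iff.2 (hc.commute_right k.2 d.2).eq.symm
      · rintro ⟨hc, hne⟩ ho
        have hsq : ((k : ↥K) * d) ^ 2 = 1 := by
          rw [pow_two, show (k : ↥K) * d * (k * d) = k * ((d : ↥K) * k) * d by group,
            ← mem_centralizer_singleton_iff.1 hc, show (k : ↥K) * (k * d) * d = (k * k) * (d * d) by
            group, invol_mul_self k.2, invol_mul_self d.2, one_mul]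
        rcases (Nat.dvd_prime Nat.prime_two).1 (orderOf_dvd_of_pow_eq_one hsq) with e | e
        · refine hne (Subtype.ext ?_)
          rw [orderOf_eq_one_iff, mul_eq_one_iff_eq_inv, invol_inv d.2] at e
          exact e
        · rw [e] at ho; exact absurd ho (by decide)
    have h2 : {k : J | (k : ↥K) ∈ centralizer ({(d : ↥K)} : Set ↥K) ∧ k ≠ d}.ncard = 2 := by
      rw [← Set.ncard_image_of_injective _ Subtype.val_injective]
      have e : ((fun k : J => (k : ↥K)) '' {k : J | (k : ↥K) ∈ centralizer ({(d : ↥K)} : Set ↥K) ∧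
          k ≠ d}) = ((centralizer ({(d : ↥K)} : Set ↥K) : Set ↥K) \ {1}) \ {(d : ↥K)} := by
        ext c
        constructor
        · rintro ⟨k, ⟨hk, hne⟩, rfl⟩
          exact ⟨⟨hk, invol_ne_one k.2⟩, fun e => hne (Subtype.ext e)⟩
        · rintro ⟨⟨hc, hc1⟩, hcd⟩
          exact ⟨⟨c, invol_of_mul_self (habel c hc).1 hc1⟩,
            ⟨hc, fun e => hcd (congrArg Subtype.val e)⟩, rfl⟩
      rw [e, Set.ncard_sdiff_singleton_of_mem, Set.ncard_sdiff_singleton_of_mem (one_mem _),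
        ← Nat.card_coe_set_eq, SetLike.coe_sort_coe, h4]
      exact ⟨mem_centralizer_singleton_iff.2 rfl, invol_ne_one d.2⟩
    have hsum := Set.ncard_add_ncard_compl {k : J | Odd (orderOf ((k : ↥K) * d))}
    rw [Set.compl_ofPred, hset, h2, hI15, ← Nat.card_coe_set_eq] at hsum
    exact Nat.add_right_cancel (m := 2) hsum
  have hcard : Nat.card I = 195 := by
    haveI : Fintype J := Fintype.ofFinite _
    rw [Nat.card_sigma, Finset.sum_congr rfl (fun d _ => hfib d), Finset.sum_const,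
      Finset.card_univ, smul_eq_mul, ← Nat.card_eq_fintype_card, hI15]
  rw [← hcard]
  have hconjK : ∀ k : J, IsConj z ((k : ↥K) : G) ∧ IsConj v (v * ((k : ↥K) : G)) := by
    intro k
    obtain ⟨g, hg⟩ := isConj_iff.1 (hone zK k hzK2 k.2)
    have hg' : (g : G) * z * (g : G)⁻¹ = ((k : ↥K) : G) := congrArg Subtype.val hg
    obtain ⟨n, -, hn⟩ := L.exists_conj_v (mul_mem L.hv (h.hZB hz))
      (fun e => L.hvZ ((mul_mem_cancel_right hz).1 e))
    have hgv : (g : G) * v = v * g := mem_centralizer_singleton_iff.1 (L.core.le g.2)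
    refine ⟨isConj_iff.2 ⟨g, hg'⟩, isConj_iff.2 ⟨(g : G) * n, ?_⟩⟩
    rw [show (g : G) * n * v * ((g : G) * n)⁻¹ = (g : G) * (n * v * n⁻¹) * (g : G)⁻¹ by group, hn,
      ← hg', show (g : G) * (v * z) * (g : G)⁻¹ = ((g : G) * v) * z * (g : G)⁻¹ by group, hgv]
    group
  have hcen : ∀ i : I, Centre v (v * ((i.2.1 : ↥K) : G), ((i.1 : ↥K) : G)) := by
    intro i
    refine ⟨L.orderOf_v, orderOf ((i.2.1 : ↥K) * (i.1 : ↥K)), ?_⟩
    show (v * ((i.2.1 : ↥K) : G) * ((i.1 : ↥K) : G)) ^ _ = v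
    have hc : Commute v (((i.2.1 : ↥K) * (i.1 : ↥K) : ↥K) : G) :=
      (mem_centralizer_singleton_iff.1 (L.core.le ((i.2.1 : ↥K) * (i.1 : ↥K)).2)).symm
    rw [mul_assoc, ← Subgroup.coe_mul, hc.mul_pow, ← Subgroup.coe_pow, pow_orderOf_eq_one,
      Subgroup.coe_one, mul_one]
    obtain ⟨m, hm⟩ := i.2.2
    rw [hm, pow_succ, pow_mul, pow_two, h.eB v L.hv, one_pow, one_mul]
  refine (Nat.card_eq_of_bijective (fun i : I =>
    (⟨(⟨_, (hconjK i.2.1).2⟩, ⟨_, (hconjK i.1).1⟩), hcen i⟩ : CentrePairs v z v)) ⟨?_, ?_⟩).symm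
  · rintro ⟨d, k⟩ ⟨d', k'⟩ e
    have e1 : v * ((k.1 : ↥K) : G) = v * ((k'.1 : ↥K) : G) :=
      congrArg (fun q : CentrePairs v z v => (q.1.1 : G)) e
    have e2 : ((d : ↥K) : G) = d' := congrArg (fun q : CentrePairs v z v => (q.1.2 : G)) e
    obtain rfl : d = d' := Subtype.ext (Subtype.ext e2)
    obtain rfl : k = k' := Subtype.ext (Subtype.ext (Subtype.ext (mul_left_cancel e1)))
    rfl
  · rintro ⟨⟨⟨x, hx⟩, ⟨y, hy⟩⟩, hp⟩
    have hx2 : orderOf x = 2 := (orderOf_eq_of_isConj hx).trans L.orderOf_v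
    have hy2 : orderOf y = 2 :=
      (orderOf_eq_of_isConj hy).trans (invol_of_mul_self (h.eZ hz) hz1)
    have hxv : x * v = v * x := (hp.commute_left hx2 hy2).eq.symm
    have hyv : y * v = v * y := (hp.commute_right hx2 hy2).eq.symm
    have hyK : y ∈ K := h.symm.mem_core_of_conj L.hB L.hv L.hvZ L.core hz hy hyv
    set yK : J := ⟨⟨y, hyK⟩, by rw [← Subgroup.orderOf_coe]; exact hy2⟩
    have hvK : v ∉ K := fun e => L.hvZ (L.core.inter ▸ mem_inf.2 ⟨e, L.hv⟩)
    have hxn : x ∈ normalizer (K : Set G) :=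
      L.core.normalizes (mem_centralizer_singleton_iff.2 hxv)
    -- `x` is in the coset of `v`
    obtain ⟨-, k, hk⟩ := hp
    change (x * y) ^ k = v at hk
    have hstep : ∀ j : ℕ, ∃ r ∈ K, (x * y) ^ j = x ^ j * r := by
      intro j
      induction j with
      | zero => exact ⟨1, one_mem K, by simp⟩
      | succ j ih =>
        obtain ⟨r, hr, e⟩ := ih
        refine ⟨x⁻¹ * r * x * y, mul_mem ?_ hyK, ?_⟩
        · have := conj_mem_of_normalizer (inv_mem hxn) hr
          rwa [inv_inv] at this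
        · rw [pow_succ, e, pow_succ]; group
    obtain ⟨r, hr, hkr⟩ := hstep k
    rw [hk] at hkr
    have hodd : Odd k := by
      rcases Nat.even_or_odd k with ⟨m, hm⟩ | ho
      · exfalso
        rw [hm, ← two_mul, pow_mul, pow_two, invol_mul_self hx2, one_pow, one_mul] at hkr
        exact hvK (hkr ▸ hr)
      · exact ho
    obtain ⟨m, hm⟩ := hodd
    rw [hm, pow_succ, pow_mul, pow_two, invol_mul_self hx2, one_pow, one_mul] at hkr
    have hr2 : r * r = 1 := by
      have e1 : x⁻¹ * v = r := by rw [hkr]; group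
      rw [← e1, invol_inv hx2, show x * v * (x * v) = x * (v * x) * v by group, ← hxv,
        show x * (x * v) * v = (x * x) * (v * v) by group, invol_mul_self hx2, h.eB v L.hv, one_mul]
    have hvr : v * r = x := by rw [hkr, mul_assoc, hr2, mul_one]
    have hrv : r * v = v * r := mem_centralizer_singleton_iff.1 (L.core.le hr)
    have hr1 : r ≠ 1 := fun e => by
      rw [e, mul_one] at hvr
      have hsq : (x * y) * (x * y) = 1 := by
        rw [← hvr, show v * y * (v * y) = v * (y * v) * y by group, hyv,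
          show v * (v * y) * y = (v * v) * (y * y) by group, h.eB v L.hv, invol_mul_self hy2, one_mul]
      rw [hm, pow_succ, pow_mul, pow_two, hsq, one_pow, one_mul, ← hvr] at hk
      exact invol_ne_one hy2 (mul_eq_left.1 hk)
    set rK : J := ⟨⟨r, hr⟩, invol_of_mul_self (Subtype.ext hr2) (fun e => hr1 (congrArg Subtype.val e))⟩
    have hrodd : Odd (orderOf ((rK : ↥K) * yK)) := by
      have hc : Commute v (r * y) :=
        (mem_centralizer_singleton_iff.1 (L.core.le (mul_mem hr hyK))).symm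
      have e0 := hk
      rw [← hvr, mul_assoc, hc.mul_pow, hm, pow_succ v, pow_mul v, pow_two v, h.eB v L.hv, one_pow,
        one_mul, mul_eq_left] at e0
      refine Odd.of_dvd_nat (Nat.odd_iff.2 (by omega : (2 * m + 1) % 2 = 1))
        (orderOf_dvd_of_pow_eq_one (Subtype.ext ?_))
      push_cast
      exact e0
    exact ⟨⟨yK, ⟨rK, hrodd⟩⟩, Subtype.ext (Prod.ext (Subtype.ext hvr) (Subtype.ext rfl))⟩

end Shape.LSHyp

end CfsgLib.SylL34
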