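import Cfsg.Agent.Lib.SylLThreeFour.LSLocal

/-!
Orders in the case of a transitive `A` and a centre-normalizing `B` with trivial cores: no element of
odd order centralizes the Sylow subgroup, `|C(z)| = 192`, `|C(v)| = 240` and the perfect core of
`C(v)` has order 60.
-/

set_option autoImplicit false

namespace CfsgLib.SylL34

open Subgroup CfsgLib.Recog.LThreeFour CfsgLib.Invol

universe u

namespace Shape.LSHyp

variable {G : Type u} [Group G] [Finite G] {P : Sylow 2 G} {A B Z : Subgroup G} {v : G}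
  {K : Subgroup G} (L : LSHyp P A B Z v K)
include L

theorem ncard_Z_sdiff : ((Z : Set G) \ {1}).ncard = 3 := by
  rw [Set.ncard_sdiff_singleton_of_mem (one_mem Z), ← Nat.card_coe_set_eq, SetLike.coe_sort_coe,
    L.shape.cardZ]

/-- A subgroup normalizing `Z` and moving `z`, whose 2-part fixes it, is transitive on the
involutions of `Z`. -/
theorem card_eq_three_mul {H : Subgroup G} (hH : H ≤ normalizer (Z : Set G)) {z : G} (hz : z ∈ Z)
    (hz1 : z ≠ 1) (hmove : ∃ g ∈ H, g * z * g⁻¹ ≠ z)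
    (hodd : ¬ 2 * Nat.card ↥(H ⊓ centralizer ({z} : Set G)) ∣ Nat.card ↥H) :
    Nat.card ↥H = 3 * Nat.card ↥(H ⊓ centralizer ({z} : Set G)) := by
  have h := card_eq_orbit_mul H z
  set S := {y : G | ∃ g ∈ H, g * z * g⁻¹ = y}
  have hsub : S ⊆ (Z : Set G) \ {1} := by
    rintro _ ⟨g, hg, rfl⟩
    exact ⟨conj_mem_of_normalizer (hH hg) hz, fun e => hz1 (conj_eq_one_iff.1 e)⟩
  have h3 : S.ncard ≤ 3 := L.ncard_Z_sdiff ▸ Set.ncard_le_ncard hsub (Set.toFinite _)
  have h2 : 1 < S.ncard := by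
    rw [Set.one_lt_ncard_iff (Set.toFinite _)]
    obtain ⟨g, hg, hgz⟩ := hmove
    exact ⟨_, z, ⟨g, hg, rfl⟩, ⟨1, one_mem _, by simp⟩, hgz⟩
  have hne : S.ncard ≠ 2 := fun e => hodd (by rw [h, e])
  rw [h, show S.ncard = 3 by omega]

theorem sylow_K_card {T : Sylow 2 ↥K} (hT : (T : Subgroup ↥K) = Z.subgroupOf K) :
    Nat.card ↥(T : Subgroup ↥K) = 4 := by
  rw [hT, Nat.card_congr (subgroupOfEquivOfLe L.core.Z_le).toEquiv, L.shape.cardZ]

theorem isKleinFour_K {T : Sylow 2 ↥K} (hT : (T : Subgroup ↥K) = Z.subgroupOf K) :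
    IsKleinFour ↥(T : Subgroup ↥K) := by
  refine ⟨L.sylow_K_card hT, ?_⟩
  have hnt : Nontrivial ↥(T : Subgroup ↥K) := by
    rw [← Finite.one_lt_card_iff_nontrivial, L.sylow_K_card hT]; norm_num
  refine (Nat.prime_two.eq_one_or_self_of_dvd _ ?_).resolve_left
    (fun e => not_subsingleton ↥(T : Subgroup ↥K) (Monoid.exp_eq_one_iff.1 e))
  rw [Monoid.exponent_dvd_iff_forall_pow_eq_one]
  intro t
  have ht : ((t : ↥K) : G) ∈ Z := by
    have := SetLike.ext_iff.1 hT (t : ↥K)
    exact mem_subgroupOf.1 (this.1 t.2)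
  exact Subtype.ext (Subtype.ext (by push_cast; rw [pow_two]; exact L.shape.eZ ht))

/-- The centralizer of `v` is generated by its perfect core and the normalizer of the Sylow
subgroup. -/
theorem cent_v_le : centralizer ({v} : Set G) ≤
    K ⊔ (normalizer (Z : Set G) ⊓ centralizer ({v} : Set G)) :=
  L.shape.symm.cent_le_core_sup L.hB L.hv L.hvZ L.core

/-- The action of the perfect core on the five cosets of the normalizer of `Z`. -/
theorem core_data {z : G} (hz : z ∈ Z) (hz1 : z ≠ 1) {T : Sylow 2 ↥K}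
    (hT : (T : Subgroup ↥K) = Z.subgroupOf K) :
    Nat.card ↥K = 15 * Nat.card (centralizer ({(⟨z, L.core.Z_le hz⟩ : ↥K)} : Set ↥K)) ∧
    Nat.card {x : ↥K // orderOf x = 2} = 15 ∧
    Nat.card ↥((normalizer (Z : Set G)).subgroupOf K) =
      3 * Nat.card (centralizer ({(⟨z, L.core.Z_le hz⟩ : ↥K)} : Set ↥K)) ∧
    (∀ y ∈ (T : Subgroup ↥K), ∀ k : ↥K, k⁻¹ * y * k ∈ (normalizer (Z : Set G)).subgroupOf K →
      k ∈ (normalizer (Z : Set G)).subgroupOf K ∨ y = 1) := by
  classical
  have := twoFact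
  have h := L.shape
  have hperf := L.core.perfect
  have hone := one_class_of_perfect T (L.isKleinFour_K hT) hperf
  set zK : ↥K := ⟨z, L.core.Z_le hz⟩
  have hzK2 : orderOf zK = 2 := by
    rw [← Subgroup.orderOf_coe]; exact invol_of_mul_self (h.eZ hz) hz1
  set H : Subgroup ↥K := (normalizer (Z : Set G)).subgroupOf K with hH
  have hk1 : (centralizer ((T : Subgroup ↥K) : Set ↥K)).relIndex (centralizer ({zK} : Set ↥K)) = 1 := by
    refine relIndex_eq_one.2 fun k hk => mem_centralizer_iff.2 fun t ht => Subtype.ext ?_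
    obtain ⟨s, hs, e, he, -, hse⟩ := L.cent_pair hz hz1
      (mem_centralizer_singleton_iff.1 (L.core.le k.2))
      (congrArg Subtype.val (mem_centralizer_singleton_iff.1 hk))
    have htZ : (t : G) ∈ Z := by
      have := SetLike.mem_coe.1 ht
      rw [hT] at this
      exact this
    show (t : G) * k = k * t
    rw [hse, ← mul_assoc, h.cen _ htZ s (h.hB hs), mul_assoc, mul_assoc,
      mem_centralizer_iff.1 he _ (h.hZS htZ)]
  obtain ⟨hlow, hup⟩ := four_sylow_invol_bounds T (L.isKleinFour_K hT) hperf zK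
    (by rw [hT]; exact hz) hzK2 1 hk1.symm
  have hclass : Nat.card {x : ↥K // orderOf x = 2} * Nat.card (centralizer ({zK} : Set ↥K)) =
      Nat.card ↥K := by
    rw [← card_class_mul_card_centralizer zK]
    congr 1
    exact Nat.card_congr (Equiv.subtypeEquivRight fun x =>
      ⟨fun hx => hone zK x hzK2 hx, fun hx => (orderOf_eq_of_isConj hx).trans hzK2⟩)
  -- the index of `H`
  have hCH : centralizer ({zK} : Set ↥K) ≤ H := fun k hk => by
    rw [hH, mem_subgroupOf]
    exact h.normalizer_le_Z (L.hC z hz hz1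
      (mem_centralizer_singleton_iff.2 (congrArg Subtype.val (mem_centralizer_singleton_iff.1 hk))))
  have hTC : (T : Subgroup ↥K) ≤ centralizer ({zK} : Set ↥K) := fun t ht => by
    rw [hT] at ht
    exact mem_centralizer_singleton_iff.2 (Subtype.ext (h.cen z hz _ (h.hZS ht)).symm)
  have hHcard : Nat.card ↥(H.map K.subtype) =
      3 * Nat.card ↥(H.map K.subtype ⊓ centralizer ({z} : Set G)) := by
    refine L.card_eq_three_mul (by rintro _ ⟨k, hk, rfl⟩; exact hk) hz hz1 ?_ ?_
    · obtain ⟨y, hy, hy1, hyz⟩ : ∃ y ∈ Z, y ≠ 1 ∧ y ≠ z := by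
        by_contra hn
        push Not at hn
        have hsub : (Z : Set G) \ {1} ⊆ {z} := fun y hy => hn y hy.1 hy.2
        have := Set.ncard_le_ncard hsub (Set.toFinite _)
        rw [L.ncard_Z_sdiff, Set.ncard_singleton] at this
        omega
      have hy2 : orderOf (⟨y, L.core.Z_le hy⟩ : ↥K) = 2 := by
        rw [← Subgroup.orderOf_coe]; exact invol_of_mul_self (h.eZ hy) hy1
      obtain ⟨g, hg⟩ := isConj_iff.1 (hone zK _ hzK2 hy2)
      obtain ⟨n, hn, hne⟩ := exists_normalizer_conj T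
        (fun a ha b hb => by
          rw [hT] at ha
          rw [hT] at hb
          exact Subtype.ext (h.cen _ ha _ (h.hZS hb)))
        (x := zK) (g := g) (by rw [hT]; exact hz) (by rw [hg, hT]; exact hy)
      refine ⟨(n : G), ⟨n, ?_, rfl⟩, fun e => hyz ?_⟩
      · rw [SetLike.mem_coe, hH, mem_subgroupOf, mem_normalizer_iff]
        intro t
        constructor
        · intro ht
          have := (mem_normalizer_iff.1 hn ⟨t, L.core.Z_le ht⟩).1 (by rw [hT]; exact ht)
          rwa [hT] at this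
        · intro ht
          have htK : t ∈ K := by
            have := mul_mem (mul_mem (inv_mem n.2) (L.core.Z_le ht)) n.2
            simpa [mul_assoc] using this
          have := (mem_normalizer_iff.1 hn ⟨t, htK⟩).2 (by rw [hT]; exact ht)
          rwa [hT] at this
      · rw [← e]
        exact (congrArg Subtype.val (hne.trans hg)).symm
    · intro hd
      have h4 : 4 ∣ Nat.card ↥(H.map K.subtype ⊓ centralizer ({z} : Set G)) := by
        rw [← h.cardZ]
        exact card_dvd_of_le fun y hy => mem_inf.2 ⟨⟨⟨y, L.core.Z_le hy⟩,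
          hCH (mem_centralizer_singleton_iff.2 (Subtype.ext (h.cen y hy z (h.hZS hz)))), rfl⟩,
          mem_centralizer_singleton_iff.2 (h.cen y hy z (h.hZS hz))⟩
      have h8 : 2 ^ 3 ∣ Nat.card ↥K :=
        ((show 2 ^ 3 = 2 * 4 by norm_num) ▸ (Nat.mul_dvd_mul_left 2 h4).trans hd).trans
          (card_dvd_of_le (map_subtype_le H))
      have := T.pow_dvd_card_of_pow_dvd_card h8
      rw [L.sylow_K_card hT] at this
      norm_num at this
  have hcz : Nat.card ↥(H.map K.subtype ⊓ centralizer ({z} : Set G)) =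
      Nat.card (centralizer ({zK} : Set ↥K)) := by
    rw [← card_map_of_injective (f := K.subtype) (K := centralizer ({zK} : Set ↥K)) K.subtype_injective]
    refine congrArg (fun Q : Subgroup G => Nat.card ↥Q) ?_
    ext x
    constructor
    · intro hx
      obtain ⟨⟨k, hk, rfl⟩, hkz⟩ := mem_inf.1 hx
      exact ⟨k, mem_centralizer_singleton_iff.2
        (Subtype.ext (mem_centralizer_singleton_iff.1 hkz)), rfl⟩
    · rintro ⟨k, hk, rfl⟩
      exact mem_inf.2 ⟨⟨k, hCH hk, rfl⟩,
        mem_centralizer_singleton_iff.2 (congrArg Subtype.val (mem_centralizer_singleton_iff.1 hk))⟩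
  rw [hcz, card_map_of_injective K.subtype_injective] at hHcard
  have hI : Nat.card {x : ↥K // orderOf x = 2} = 3 * H.index := by
    refine Nat.eq_of_mul_eq_mul_right (Nat.card_pos (α := centralizer ({zK} : Set ↥K))) ?_
    rw [hclass, ← H.card_mul_index, hHcard]
    ring
  have hn : H.index ≤ 5 ∧ 2 < H.index := ⟨by omega, by omega⟩
  -- involutions of `H` lie in `Z`
  have hHinv : ∀ t ∈ H, orderOf t = 2 → (t : G) ∈ Z := by
    intro t ht ht2
    have ht2' : (t : G) * t = 1 := congrArg Subtype.val (invol_mul_self ht2)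
    have htP : (t : G) ∈ (P : Subgroup G) := mem_sylow_of_normalizes P (L.normalizer_Z_le_N ht)
      (k := 1) (by rw [pow_one, pow_two, ht2'])
    have htB : (t : G) ∈ B := h.symm.selfA L.hv L.hvZ htP
      (mem_centralizer_singleton_iff.1 (L.core.le t.2))
    exact L.core.inter ▸ mem_inf.2 ⟨t.2, htB⟩
  -- `Z` is semiregular on the other cosets of `H`
  have hsemi : ∀ y ∈ (T : Subgroup ↥K), ∀ k : ↥K, k⁻¹ * y * k ∈ H → k ∈ H ∨ y = 1 := by
    intro y hy k hk
    refine or_iff_not_imp_right.2 fun hy1 => ?_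
    rw [hT, mem_subgroupOf] at hy
    have hy1' : (y : G) ≠ 1 := fun e => hy1 (Subtype.ext e)
    have hy2 : orderOf (k⁻¹ * y * k) = 2 := by
      rw [orderOf_conj_inv_eq, ← Subgroup.orderOf_coe]; exact invol_of_mul_self (h.eZ hy) hy1'
    have hmem : (k : G)⁻¹ * y * k ∈ Z := by simpa using hHinv _ hk hy2
    obtain ⟨n, hn, e⟩ := h.conj_Z hy (g := (k : G)⁻¹) (by rwa [inv_inv])
    rw [inv_inv] at e
    have hc : (k : G) * n ∈ normalizer ((P : Subgroup G) : Set G) := by
      refine L.hC _ hy hy1' (mem_centralizer_singleton_iff.2 ?_)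
      calc (k : G) * n * y = k * (n * y * n⁻¹) * n := by group
        _ = y * (k * n) := by rw [e]; group
    have hkN : (k : G) ∈ normalizer ((P : Subgroup G) : Set G) := by
      have := mul_mem hc (inv_mem hn)
      rwa [mul_inv_cancel_right] at this
    rw [hH, mem_subgroupOf]
    exact h.normalizer_le_Z hkN
  -- the number of cosets
  have hindex : H.index = 5 := by
    obtain ⟨g, hg⟩ : ∃ g : ↥K, g ∉ H := by
      by_contra hall
      push Not at hall
      have : H.index = 1 := Subgroup.index_eq_one.2 (eq_top_iff.2 fun k _ => hall k)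
      omega
    let ψ : Option ↥(T : Subgroup ↥K) → ↥K ⧸ H := fun o => match o with
      | none => QuotientGroup.mk 1
      | some y => QuotientGroup.mk ((y : ↥K) * g)
    have hinj : Function.Injective ψ := by
      have hH1 : ∀ y : ↥(T : Subgroup ↥K), ((y : ↥K) * g) ∉ H := fun y hyg =>
        hg ((H.mul_mem_cancel_left (hCH (hTC y.2))).1 hyg)
      rintro (_ | p) (_ | q) e <;> simp only [ψ, QuotientGroup.eq] at e
      · rfl
      · simp at e; exact absurd e (hH1 q)
      · simp at e; exact absurd (by simpa using inv_mem e) (hH1 p)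
      · have e' : g⁻¹ * ((p : ↥K)⁻¹ * q) * g ∈ H := by
          rw [_root_.mul_inv_rev] at e; simpa [mul_assoc] using e
        have hpq : (p : ↥K) = q :=
          inv_mul_eq_one.1 ((hsemi _ (mul_mem (inv_mem p.2) q.2) g e').resolve_left hg)
        rw [show p = q from Subtype.ext hpq]
    have := Nat.card_le_card_of_injective ψ hinj
    rw [Finite.card_option, L.sylow_K_card hT, ← Subgroup.index_eq_card] at this
    omega
  exact ⟨by rw [← hclass, hI, hindex], by rw [hI, hindex], hHcard, hsemi⟩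

/-- The perfect core normalizes the elements of odd order centralizing the Sylow subgroup. -/
theorem core_le_normalizer {X : Subgroup G}
    (hX : ∀ x, x ∈ X ↔ (x ∈ centralizer ((P : Subgroup G) : Set G) ∧ Odd (orderOf x))) :
    ∀ k ∈ K, ∀ x ∈ X, k * x * k⁻¹ ∈ X := by
  classical
  have := twoFact
  have h := L.shape
  obtain ⟨z, hz, hz1⟩ := L.exists_z
  obtain ⟨T, hT⟩ := L.core.sylow
  have hperf := L.core.perfect
  have hone := one_class_of_perfect T (L.isKleinFour_K hT) hperf
  obtain ⟨hKc, -, hHc, hsemi⟩ := L.core_data hz hz1 hT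
  set zK : ↥K := ⟨z, L.core.Z_le hz⟩
  have hzK2 : orderOf zK = 2 := by
    rw [← Subgroup.orderOf_coe]; exact invol_of_mul_self (h.eZ hz) hz1
  set H : Subgroup ↥K := (normalizer (Z : Set G)).subgroupOf K with hH
  have hn : H.index = 5 := by
    refine Nat.eq_of_mul_eq_mul_left (Nat.card_pos (α := ↥H)) ?_
    rw [H.card_mul_index, hKc, hHc]
    ring
  have hCH : centralizer ({zK} : Set ↥K) ≤ H := fun k hk => by
    rw [hH, mem_subgroupOf]
    exact h.normalizer_le_Z (L.hC z hz hz1
      (mem_centralizer_singleton_iff.2 (congrArg Subtype.val (mem_centralizer_singleton_iff.1 hk))))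
  have hTC : (T : Subgroup ↥K) ≤ centralizer ({zK} : Set ↥K) := fun t ht => by
    rw [hT] at ht
    exact mem_centralizer_singleton_iff.2 (Subtype.ext (h.cen z hz _ (h.hZS ht)).symm)
  -- the kernel of the action on the cosets
  have hcore : ∀ r ∈ H.normalCore, (r : G) ∈ X := by
    have hRZ : ∀ y ∈ (T : Subgroup ↥K), y ∈ H.normalCore → y = 1 := by
      intro y hy hyR
      obtain ⟨k, hk⟩ : ∃ k : ↥K, k ∉ H := by
        by_contra hall
        push Not at hall
        have : H.index = 1 := Subgroup.index_eq_one.2 (eq_top_iff.2 fun k _ => hall k)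
        omega
      refine (hsemi y hy k ?_).resolve_left hk
      have := normalCore_le H ((normalCore_normal H).conj_mem y hyR k⁻¹)
      rwa [inv_inv] at this
    intro r hr
    have hodd : Odd (Nat.card H.normalCore) := by
      rw [← Nat.not_even_iff_odd, even_iff_two_dvd]
      intro h2
      obtain ⟨t, ht⟩ := exists_prime_orderOf_dvd_card' 2 h2
      rw [← Subgroup.orderOf_coe] at ht
      obtain ⟨g, hg⟩ := isConj_iff.1 (hone _ zK ht hzK2)
      exact invol_ne_one hzK2 (hRZ zK (by rw [hT]; exact hz)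
        (hg ▸ (normalCore_normal H).conj_mem _ t.2 g))
    have hrH := normalCore_le H hr
    have hrz : r * zK = zK * r := by
      have h1 : r * zK * r⁻¹ * zK⁻¹ ∈ (T : Subgroup ↥K) := by
        rw [hT, mem_subgroupOf]
        push_cast
        exact mul_mem (conj_mem_of_normalizer hrH hz) (inv_mem hz)
      have h2 : r * zK * r⁻¹ * zK⁻¹ ∈ H.normalCore := by
        rw [show r * zK * r⁻¹ * zK⁻¹ = r * (zK * r⁻¹ * zK⁻¹) by group]
        exact mul_mem hr ((normalCore_normal H).conj_mem _ (inv_mem hr) zK)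
      exact mul_inv_eq_iff_eq_mul.1 (mul_inv_eq_one.1 (hRZ _ h1 h2))
    obtain ⟨s, hs, e, he, heo, hre⟩ := L.cent_pair hz hz1
      (mem_centralizer_singleton_iff.1 (L.core.le r.2)) (congrArg Subtype.val hrz)
    have hro : Odd (orderOf (r : G)) := by
      rw [Subgroup.orderOf_coe]
      exact hodd.of_dvd_nat (Subgroup.orderOf_dvd_natCard _ hr)
    have hse : Commute s e := mem_centralizer_iff.1 he s (h.hB hs)
    obtain ⟨m, hm⟩ := hro.mul heo
    have hN : (r : G) ^ (orderOf (r : G) * orderOf e) = 1 := by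
      rw [pow_mul, pow_orderOf_eq_one, one_pow]
    rw [hm] at hN
    have he1 : e ^ (2 * m + 1) = 1 := by rw [← hm, pow_mul', pow_orderOf_eq_one, one_pow]
    rw [hre, hse.mul_pow, he1, mul_one, pow_succ, pow_mul, pow_two, h.eB s hs, one_pow,
      one_mul] at hN
    rw [hre, hN, one_mul]
    exact (hX e).2 ⟨he, heo⟩
  -- elements of `X` fix every coset
  intro k hk x hx
  obtain ⟨hxP, hxo⟩ := (hX x).1 hx
  have hxv : x * v = v * x := (mem_centralizer_iff.1 hxP v (h.hB L.hv)).symm
  have hxn : x ∈ normalizer (K : Set G) :=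
    L.core.normalizes (mem_centralizer_singleton_iff.2 hxv)
  have hxZ : ∀ y ∈ Z, x * y = y * x := fun y hy => (mem_centralizer_iff.1 hxP y (h.hZS hy)).symm
  have hxNZ : x ∈ normalizer (Z : Set G) := mem_normalizer_iff.2 fun y => by
    constructor
    · intro hy; rwa [hxZ y hy, mul_inv_cancel_right]
    · intro hy
      have := hxZ _ hy
      rw [show x * (x * y * x⁻¹) = x * x * y * x⁻¹ by group,
        show x * y * x⁻¹ * x = x * y by group, mul_inv_eq_iff_eq_mul] at this
      have e : x * y = y * x := mul_left_cancel (a := x) (by rw [← mul_assoc, this]; group)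
      rwa [e, mul_inv_cancel_right] at hy
  let τ : ↥K → ↥K := fun g => ⟨x * g * x⁻¹, conj_mem_of_normalizer hxn g.2⟩
  have hτH : ∀ g : ↥K, g ∈ H → τ g ∈ H := fun g hg => by
    rw [hH, mem_subgroupOf] at hg ⊢
    exact mul_mem (mul_mem hxNZ hg) (inv_mem hxNZ)
  have hτm : ∀ a b : ↥K, τ (a * b) = τ a * τ b := fun a b => Subtype.ext (by
    simp only [τ]; push_cast; group)
  have hτi : ∀ a : ↥K, τ a⁻¹ = (τ a)⁻¹ := fun a => Subtype.ext (by
    simp only [τ]; push_cast; group)
  have hτT : ∀ y ∈ (T : Subgroup ↥K), τ y = y := fun y hy => Subtype.ext (by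
    rw [hT, mem_subgroupOf] at hy
    exact mul_inv_eq_iff_eq_mul.2 (hxZ _ hy))
  have hfix : ∀ g : ↥K, g⁻¹ * τ g ∈ H := by
    intro g
    by_cases hg : g ∈ H
    · exact mul_mem (inv_mem hg) (hτH g hg)
    -- the cosets other than `H`
    have horb : ∀ f : ↥K, f ∉ H → ∃ y ∈ (T : Subgroup ↥K), (y * g)⁻¹ * f ∈ H := by
      intro f hf
      by_contra hn'
      push Not at hn'
      let ψ : Option (Option ↥(T : Subgroup ↥K)) → ↥K ⧸ H := fun o => match o with
        | none => QuotientGroup.mk 1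
        | some none => QuotientGroup.mk f
        | some (some y) => QuotientGroup.mk ((y : ↥K) * g)
      have hinj : Function.Injective ψ := by
        have hH1 : ∀ y : ↥(T : Subgroup ↥K), ((y : ↥K) * g) ∉ H := fun y hyg => by
          have hyH : (y : ↥K) ∈ H := hCH (hTC y.2)
          exact hg ((H.mul_mem_cancel_left hyH).1 hyg)
        rintro (_ | _ | p) (_ | _ | q) e <;> simp only [ψ, QuotientGroup.eq] at e
        · rfl
        · simp at e; exact absurd e hf
        · simp at e; exact absurd e (hH1 q)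
        · simp at e; exact absurd e hf
        · rfl
        · exact absurd (by simpa using inv_mem e) (hn' q q.2)
        · simp at e; exact absurd (by simpa using inv_mem e) (hH1 p)
        · exact absurd e (hn' p p.2)
        · have e' : g⁻¹ * ((p : ↥K)⁻¹ * q) * g ∈ H := by
            rw [_root_.mul_inv_rev] at e; simpa [mul_assoc] using e
          have hpq : (p : ↥K) = q :=
            inv_mul_eq_one.1 ((hsemi _ (mul_mem (inv_mem p.2) q.2) g e').resolve_left hg)
          rw [show p = q from Subtype.ext hpq]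
      have := Nat.card_le_card_of_injective ψ hinj
      rw [Finite.card_option, Finite.card_option, L.sylow_K_card hT, ← Subgroup.index_eq_card]
        at this
      omega
    have hτg : τ g ∉ H := fun e => hg (by
      rw [hH, mem_subgroupOf] at e ⊢
      have := mul_mem (mul_mem (inv_mem hxNZ) e) hxNZ
      simpa [τ, mul_assoc] using this)
    obtain ⟨y, hy, hye⟩ := horb _ hτg
    have hpow : ∀ j : ℕ, (y ^ j * g)⁻¹ * τ^[j] g ∈ H := by
      intro j
      induction j with
      | zero => simp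
      | succ j ih =>
        rw [Function.iterate_succ_apply']
        have h1 := hτH _ ih
        rw [hτm, hτi, hτm, hτT _ (pow_mem hy j)] at h1
        rw [show (y ^ (j + 1) * g)⁻¹ * τ (τ^[j] g) =
          ((y * g)⁻¹ * τ g) * ((y ^ j * τ g)⁻¹ * τ (τ^[j] g)) by rw [pow_succ]; group]
        exact mul_mem hye h1
    have hiter : ∀ (j : ℕ) (f : ↥K), ((τ^[j] f : ↥K) : G) = x ^ j * f * (x ^ j)⁻¹ := by
      intro j f
      induction j with
      | zero => simp
      | succ j ih =>
        rw [Function.iterate_succ_apply']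
        change x * ((τ^[j] f : ↥K) : G) * x⁻¹ = _
        rw [ih, pow_succ']; group
    have hx1 : τ^[orderOf x] g = g := Subtype.ext (by
      rw [hiter, pow_orderOf_eq_one, one_mul, inv_one, mul_one])
    have h1 := hpow (orderOf x)
    rw [hx1, _root_.mul_inv_rev] at h1
    have hy1 : (y ^ orderOf x)⁻¹ = 1 :=
      (hsemi _ (inv_mem (pow_mem hy _)) g h1).resolve_left hg
    obtain ⟨m, hm⟩ := hxo
    have hy2 : y * y = 1 := by
      rw [hT, mem_subgroupOf] at hy; exact Subtype.ext (h.eZ hy)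
    rw [inv_eq_one, hm, pow_succ, pow_mul, pow_two, hy2, one_pow, one_mul] at hy1
    rwa [hy1, one_mul] at hye
  -- commutators lie in the kernel
  set kK : ↥K := ⟨k, hk⟩
  have hmemR : τ kK * kK⁻¹ ∈ H.normalCore := by
    intro f
    have h1 : f * τ f⁻¹ ∈ H := by
      have := hfix f⁻¹; rwa [inv_inv] at this
    have h3 : (f * kK)⁻¹ ⁻¹ * τ (f * kK)⁻¹ ∈ H := hfix (f * kK)⁻¹
    rw [inv_inv, hτi, hτm, _root_.mul_inv_rev] at h3
    rw [hτi] at h1
    rw [show f * (τ kK * kK⁻¹) * f⁻¹ =
      (f * (τ f)⁻¹) * (f * kK * ((τ kK)⁻¹ * (τ f)⁻¹))⁻¹ by group]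
    exact mul_mem h1 (inv_mem h3)
  have hfin := hcore _ hmemR
  have hval : ((τ kK * kK⁻¹ : ↥K) : G) = x * k * x⁻¹ * k⁻¹ := by simp [τ, kK]
  rw [hval] at hfin
  rw [show k * x * k⁻¹ = (x * k * x⁻¹ * k⁻¹)⁻¹ * x * (1 : G) by group, mul_one]
  · exact mul_mem (inv_mem hfin) hx

/-- No element of odd order centralizes the Sylow subgroup. -/
theorem cent_P_trivial (hO : Cfsg.oddCore G = ⊥) {e : G}
    (he : e ∈ centralizer ((P : Subgroup G) : Set G)) (heo : Odd (orderOf e)) : e = 1 := by
  classical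
  have h := L.shape
  obtain ⟨X, hXo, hX⟩ := L.exists_odd_centre
  obtain ⟨z, hz, hz1⟩ := L.exists_z
  have hNX : normalizer ((P : Subgroup G) : Set G) ≤ normalizer (X : Set G) := fun g hg =>
    mem_normalizer_fintype (S := (X : Set G)) fun x hx => by
      obtain ⟨hxP, hxo⟩ := (hX x).1 hx
      refine (hX _).2 ⟨mem_centralizer_iff.2 fun s hs => ?_, by rwa [orderOf_conj_eq]⟩
      have hs' := conj_mem_of_normalizer (inv_mem hg) (SetLike.mem_coe.1 hs)
      have := mem_centralizer_iff.1 hxP _ hs'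
      rw [inv_inv] at this
      calc s * (g * x * g⁻¹) = g * ((g⁻¹ * s * g) * x) * g⁻¹ := by group
        _ = g * (x * (g⁻¹ * s * g)) * g⁻¹ := by rw [this]
        _ = g * x * g⁻¹ * s := by group
  have hCz : ∀ y ∈ Z, y ≠ 1 → centralizer ({y} : Set G) ≤ normalizer (X : Set G) :=
    fun y hy hy1 => (L.hC y hy hy1).trans hNX
  have hNA : normalizer (A : Set G) ≤ normalizer (X : Set G) := fun g hg =>
    mem_normalizer_fintype (S := (X : Set G)) fun x hx => by
      obtain ⟨hxP, hxo⟩ := (hX x).1 hx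
      have hcA : ∀ p ∈ A, g * x * g⁻¹ * p = p * (g * x * g⁻¹) := fun p hp => by
        have hp' := conj_mem_of_normalizer (inv_mem hg) hp
        have := mem_centralizer_iff.1 hxP _ (h.hA hp')
        rw [inv_inv] at this
        calc g * x * g⁻¹ * p = g * (x * (g⁻¹ * p * g)) * g⁻¹ := by group
          _ = g * ((g⁻¹ * p * g) * x) * g⁻¹ := by rw [this]
          _ = p * (g * x * g⁻¹) := by group
      have hodd : Odd (orderOf (g * x * g⁻¹)) := by rwa [orderOf_conj_eq]
      have hN : g * x * g⁻¹ ∈ normalizer ((P : Subgroup G) : Set G) :=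
        L.hC z hz hz1 (mem_centralizer_singleton_iff.2 (hcA z (h.hZA hz)))
      obtain ⟨b, hb, hbZ⟩ := h.symm.exists_A_not_Z
      obtain ⟨p, hp, hpZ⟩ := h.exists_A_not_Z
      refine (hX _).2 ⟨L.cent_of_fix hodd hN (fun y hy => hcA y (h.hZA hy)) hb hbZ
        (h.fix_other (h.symm.normalizer_le_A hN) (fun y hy => hcA y (h.hZA hy)) hp hpZ ?_ hb), hodd⟩
      unfold Fixes
      rw [hcA p hp, mul_inv_cancel_right, inv_mul_cancel]
      exact one_mem _
  have hCv : centralizer ({v} : Set G) ≤ normalizer (X : Set G) := L.cent_v_le.trans <| sup_le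
    (fun k hk => mem_normalizer_fintype (S := (X : Set G)) fun x hx =>
      L.core_le_normalizer hX k hk x hx)
    (inf_le_left.trans (L.normalizer_Z_le_N.trans hNX))
  have htop : normalizer (X : Set G) = ⊤ := by
    refine eq_top_of_two_classes P _ hNX (fun y hy hy2 => ?_)
      (invol_of_mul_self (h.eZ hz) hz1) L.orderOf_v (L.not_isConj hz)
    have key : ∀ a ∈ normalizer (X : Set G), ∀ p : G,
        centralizer ({p} : Set G) ≤ normalizer (X : Set G) →
        centralizer ({a * p * a⁻¹} : Set G) ≤ normalizer (X : Set G) := fun a ha p hp c hc => by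
      have h1 : a⁻¹ * c * a ∈ centralizer ({p} : Set G) := mem_centralizer_singleton_iff.2 (by
        calc a⁻¹ * c * a * p = a⁻¹ * (c * (a * p * a⁻¹)) * a := by group
          _ = a⁻¹ * (a * p * a⁻¹ * c) * a := by rw [mem_centralizer_singleton_iff.1 hc]
          _ = p * (a⁻¹ * c * a) := by group)
      have := mul_mem (mul_mem ha (hp h1)) (inv_mem ha)
      rwa [show a * (a⁻¹ * c * a) * a⁻¹ = c by group] at this
    rcases L.invol_cases hz hz1 hy hy2 with ⟨hyA, -⟩ | ⟨hyB, hyZ, -⟩
    · obtain ⟨a, ha, rfl⟩ := L.hA z (h.hZA hz) hz1 y hyA (invol_ne_one hy2)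
      exact key a (hNA ha) z (hCz z hz hz1)
    · obtain ⟨a, ha, rfl⟩ := L.exists_conj_v hyB hyZ
      exact key a (hNX ha) v hCv
  have := (hX e).2 ⟨he, heo⟩
  rwa [eq_bot_of_normalizer_top hO hXo htop, mem_bot] at this

/-- An element centralizing `z` and `v` lies in `B`. -/
theorem cent_pair_mem (hO : Cfsg.oddCore G = ⊥) {z : G} (hz : z ∈ Z) (hz1 : z ≠ 1) {k : G}
    (hkv : k * v = v * k) (hkz : k * z = z * k) : k ∈ B := by
  obtain ⟨s, hs, e, he, heo, rfl⟩ := L.cent_pair hz hz1 hkv hkz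
  rw [L.cent_P_trivial hO he heo, mul_one]
  exact hs

theorem mem_cent_v {b : G} (hb : b ∈ B) : b ∈ centralizer ({v} : Set G) :=
  mem_centralizer_singleton_iff.2 (comm_of_sq L.shape.eB hb L.hv)

theorem card_cent_pair (hO : Cfsg.oddCore G = ⊥) {z : G} (hz : z ∈ Z) (hz1 : z ≠ 1) :
    centralizer ({z} : Set G) ⊓ centralizer ({v} : Set G) = B := by
  refine le_antisymm (fun k hk => L.cent_pair_mem hO hz hz1
    (mem_centralizer_singleton_iff.1 (mem_inf.1 hk).2)
    (mem_centralizer_singleton_iff.1 (mem_inf.1 hk).1)) fun b hb => mem_inf.2 ⟨?_, L.mem_cent_v hb⟩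
  exact mem_centralizer_singleton_iff.2 (L.shape.cen z hz b (L.shape.hB hb)).symm

/-- `|C(z)| = 192`. -/
theorem card_cent_z (hO : Cfsg.oddCore G = ⊥) {z : G} (hz : z ∈ Z) (hz1 : z ≠ 1) :
    Nat.card ↥(centralizer ({z} : Set G)) = 192 := by
  classical
  have h := L.shape
  obtain ⟨r, hr, hrodd, hrfix, hrmove⟩ :=
    h.symm.exists_trivial_moving L.hB L.hv L.hvZ L.hns
  have hrZ := h.normalizer_le_Z hr
  have hset : {y : G | ∃ g ∈ centralizer ({z} : Set G), g * v * g⁻¹ = y} =
      (B : Set G) \ (Z : Set G) := by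
    ext b
    constructor
    · rintro ⟨g, hg, rfl⟩
      have hgN := L.hC z hz hz1 hg
      refine ⟨conj_mem_of_normalizer (h.symm.normalizer_le_A hgN) L.hv, fun e => L.hvZ ?_⟩
      have := conj_mem_of_normalizer (inv_mem (h.normalizer_le_Z hgN)) (SetLike.mem_coe.1 e)
      rwa [show g⁻¹ * (g * v * g⁻¹) * g⁻¹⁻¹ = v by group] at this
    · rintro ⟨hb, hbZ⟩
      obtain ⟨n, hn, hnb⟩ := L.exists_conj_v hb hbZ
      -- carry the image of `z` back, fixing the cosets
      have hy : n * z * n⁻¹ ∈ Z := conj_mem_of_normalizer (h.normalizer_le_Z hn) hz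
      set y := n * z * n⁻¹ with hydef
      have hy1 : y ≠ 1 := fun e => hz1 (conj_eq_one_iff.1 e)
      have hfixpow : ∀ j : ℕ, ∀ p ∈ B, Fixes Z (r ^ j) p := fun j p hp =>
        Fixes.pow hrZ (hrfix p hp) j
      obtain ⟨j, hj⟩ : ∃ j : ℕ, r ^ j * y * (r ^ j)⁻¹ = z := by
        have hmem : ∀ j : ℕ, r ^ j * y * (r ^ j)⁻¹ ∈ (Z : Set G) \ {1} := fun j =>
          ⟨conj_mem_of_normalizer (pow_mem hrZ j) hy, fun e => hy1 (conj_eq_one_iff.1 e)⟩
        have hne : ∀ w ∈ Z, w ≠ 1 → r * w * r⁻¹ ≠ w ∧ r ^ 2 * w * (r ^ 2)⁻¹ ≠ w := fun w hw hw1 =>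
          ⟨fun e => hrmove w hw hw1 (mul_inv_eq_iff_eq_mul.1 e), fun e => hrmove w hw hw1 (by
            obtain ⟨k, hk⟩ := pow_sq_eq hrodd
            have hc : Commute (r ^ 2) w := mul_inv_eq_iff_eq_mul.1 e
            have := hc.pow_left k
            rwa [hk] at this)⟩
        have e2 : r * (r * y * r⁻¹) * r⁻¹ = r ^ 2 * y * (r ^ 2)⁻¹ := by rw [pow_two]; group
        have hm1 := hmem 1
        rw [pow_one] at hm1
        have h21 : r ^ 2 * y * (r ^ 2)⁻¹ ≠ r * y * r⁻¹ := fun e =>
          (hne _ hm1.1 hm1.2).1 (e2.trans e)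
        have hsub : ({y, r * y * r⁻¹, r ^ 2 * y * (r ^ 2)⁻¹} : Set G) ⊆ (Z : Set G) \ {1} := by
          rintro w (rfl | rfl | rfl)
          exacts [⟨hy, hy1⟩, hm1, hmem 2]
        have h3 : ({y, r * y * r⁻¹, r ^ 2 * y * (r ^ 2)⁻¹} : Set G).ncard = 3 := by
          rw [Set.ncard_insert_of_notMem (by
            simp [Ne.symm (hne y hy hy1).1, Ne.symm (hne y hy hy1).2]), Set.ncard_pair h21.symm]
        have heq := Set.eq_of_subset_of_ncard_le hsub (by rw [h3, L.ncard_Z_sdiff]) (Set.toFinite _)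
        have hzmem : z ∈ ({y, r * y * r⁻¹, r ^ 2 * y * (r ^ 2)⁻¹} : Set G) := by
          rw [heq]; exact ⟨hz, hz1⟩
        rcases hzmem with e | e | e
        · exact ⟨0, by simp [e]⟩
        · exact ⟨1, by rw [pow_one]; exact e.symm⟩
        · exact ⟨2, e.symm⟩
      set c := r ^ j * n with hc
      have hcN : c ∈ normalizer ((P : Subgroup G) : Set G) := mul_mem (pow_mem hr j) hn
      have hu : c * v * c⁻¹ ∈ B := conj_mem_of_normalizer (h.symm.normalizer_le_A hcN) L.hv
      have huZ : c * v * c⁻¹ ∉ Z := fun e => L.hvZ (by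
        have := conj_mem_of_normalizer (inv_mem (h.normalizer_le_Z hcN)) e
        rwa [show c⁻¹ * (c * v * c⁻¹) * c⁻¹⁻¹ = v by group] at this)
      have hub : (c * v * c⁻¹)⁻¹ * b ∈ Z := by
        have e : c * v * c⁻¹ = r ^ j * b * (r ^ j)⁻¹ := by rw [hc, ← hnb]; group
        have hf : b⁻¹ * (r ^ j * b * (r ^ j)⁻¹) ∈ Z := hfixpow j b hb
        rw [e, show (r ^ j * b * (r ^ j)⁻¹)⁻¹ * b = (b⁻¹ * (r ^ j * b * (r ^ j)⁻¹))⁻¹ by group]
        exact inv_mem hf
      obtain ⟨a, ha, hab⟩ := h.symm.exists_move hu huZ hub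
      refine ⟨a * c, mem_centralizer_singleton_iff.2 ?_, ?_⟩
      · have hcz : c * z = z * c := by
          refine mul_inv_eq_iff_eq_mul.1 ?_
          rw [hc, show r ^ j * n * z * (r ^ j * n)⁻¹ = r ^ j * (n * z * n⁻¹) * (r ^ j)⁻¹ by group]
          exact hj
        rw [mul_assoc, hcz, ← mul_assoc, ← h.cen z hz a (h.hA ha), mul_assoc]
      · rw [show a * c * v * (a * c)⁻¹ = a * (c * v * c⁻¹) * a⁻¹ by group, hab, mul_inv_cancel_left]
  have e := card_eq_orbit_mul (centralizer ({z} : Set G)) v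
  rw [hset, L.card_cent_pair hO hz hz1, h.cardB,
    Set.ncard_sdiff (fun y hy => h.hZB hy) (Set.toFinite _), ← Nat.card_coe_set_eq,
    ← Nat.card_coe_set_eq, SetLike.coe_sort_coe, SetLike.coe_sort_coe, h.cardB, h.cardZ] at e
  exact e

end Shape.LSHyp

end CfsgLib.SylL34
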