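import Cfsg.Agent.Lib.SylLThreeFour.LSParts
import Cfsg.Agent.Lib.SylLThreeFour.EmbedNormal

/-!
A normal subgroup `A` with a transitive action: self-centralizing, small centralizers, and the
embedding.
-/

set_option autoImplicit false

namespace CfsgLib.SylL34

open Subgroup CfsgLib.Recog.LThreeFour

universe u v

variable {G : Type u} [Group G] [Finite G]

/-- A 2-subgroup that is the trace of a Sylow subgroup on a normal subgroup is a Sylow subgroup
of it. -/
theorem exists_sylow_of_trace (P : Sylow 2 G) {N A : Subgroup G} (hN : N.Normal)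
    (hAP : A ≤ (P : Subgroup G)) (hAN : A ≤ N)
    (htr : ∀ x ∈ (P : Subgroup G), x ∈ N → x ∈ A) :
    ∃ T : Sylow 2 N, (T : Subgroup N) = A.subgroupOf N := by
  have := twoFact
  obtain ⟨T, hT⟩ := ((P.2.to_le hAP).of_equiv (subgroupOfEquivOfLe hAN).symm).exists_le_sylow
  refine ⟨T, (eq_of_le_of_card_ge hT ?_).symm⟩
  obtain ⟨Q, hQ⟩ := (T.2.map N.subtype).exists_le_sylow
  obtain ⟨c, hc⟩ := MulAction.exists_smul_eq G Q P
  refine Nat.card_le_card_of_injective (fun t : (T : Subgroup N) =>
    (⟨⟨c * (t : N) * c⁻¹, hN.conj_mem _ t.1.2 c⟩, htr _ (by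
      rw [← hc]; exact mem_cj_of c (hQ ⟨t, t.2, rfl⟩)) (hN.conj_mem _ t.1.2 c)⟩ :
      ↥(A.subgroupOf N))) fun t t' e => Subtype.ext (Subtype.ext ?_)
  have e' : c * ((t : N) : G) * c⁻¹ = c * ((t' : N) : G) * c⁻¹ :=
    congrArg (fun v : ↥(A.subgroupOf N) => ((v : N) : G)) e
  simpa using e'

namespace Shape

variable {P : Sylow 2 G} {A B Z : Subgroup G} (h : Shape (P : Subgroup G) A B Z)
include h

theorem centralizer_A_le (hO : Cfsg.oddCore G = ⊥) (hAn : A.Normal) :
    centralizer (A : Set G) ≤ A := by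
  have := twoFact
  set C := centralizer (A : Set G)
  haveI hCn : C.Normal := inferInstance
  have hAC : A ≤ C := fun a ha => mem_centralizer_iff.2 fun x hx => comm_of_sq h.eA hx ha
  obtain ⟨u, hu, huZ⟩ := h.exists_A_not_Z
  obtain ⟨T, hT⟩ := exists_sylow_of_trace P hCn h.hA hAC fun x hx hxC =>
    h.selfA hu huZ hx (mem_centralizer_iff.1 hxC u hu).symm
  have hOC : Cfsg.oddCore C = ⊥ := by
    have := CfsgLib.Solvable.map_pPrimeCore_le 2 C
    rw [show Cfsg.pPrimeCore 2 G = ⊥ from hO, le_bot_iff,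
      map_eq_bot_iff_of_injective _ C.subtype_injective] at this
    exact this
  have hle := CfsgLib.Fusion.le_of_central_of_odd hOC (Z := A.subgroupOf C) (M := ⊤) inferInstance
    le_top (fun a ha => mem_center_iff.2 fun c => Subtype.ext
      (mem_centralizer_iff.1 c.2 a ha).symm) (by
      rw [relIndex_top_right, ← hT, ← Nat.not_even_iff_odd, even_iff_two_dvd]
      exact T.not_dvd_index)
  exact fun c hc => mem_subgroupOf.1 (hle (mem_top (⟨c, hc⟩ : C)))

/-- A normal transitive `A` makes the cores of the centralizers trivial. -/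
theorem cent_Z_le_of_normal (hO : Cfsg.oddCore G = ⊥) (hA : LType A) (hAn : A.Normal) {z : G}
    (hz : z ∈ Z) (hz1 : z ≠ 1) :
    centralizer ({z} : Set G) ≤ normalizer ((P : Subgroup G) : Set G) := by
  obtain ⟨hodd, -, -⟩ := h.closure_eq fun a ha ha1 => h.cent_L_solvable hA ha ha1
  have htop : normalizer (coreClosure A : Set G) = ⊤ := top_le_iff.1
    (normalizer_eq_top_iff.2 hAn ▸ normalizer_le_coreClosure A)
  have hW := eq_bot_of_normalizer_top hO hodd htop
  exact h.cent_Z_le_of hz hz1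
    ((hW ▸ core_le_coreClosure (h.hZA hz) hz1 : Cfsg.centralizerPPrimeCore 2 z ≤ ⊥).trans bot_le)
    le_rfl

theorem embed_of_LType_normal (hO : Cfsg.oddCore G = ⊥) (hA : LType A) (hAn : A.Normal)
    {F : Type v} [Field F] [Fintype F] (hF : Fintype.card F = 4) :
    ∃ f : G →* GL (Fin 3) F ⧸ Subgroup.center (GL (Fin 3) F), Function.Injective f :=
  embed_of_A_normal h hAn (h.centralizer_A_le hO hAn) hA
    (fun _ hz hz1 => h.cent_Z_le_of_normal hO hA hAn hz hz1) hF

end Shape

end CfsgLib.SylL34
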