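import Cfsg.Agent.Lib.SylLThreeFour.Central
import Cfsg.Agent.Lib.SylLThreeFour.Side
import Cfsg.Agent.Lib.SylLThreeFour.FourSylow
import Cfsg.Agent.Lib.SylLThreeFour.Count

/-!
When both elementary abelian subgroups of order 16 have normalizers normalizing the centre and the
normalizer of the Sylow subgroup moves the cosets of the centre, the centralizers of the involutions
outside the centre are solvable: a count of commuting and of centred pairs of involutions.
-/

set_option autoImplicit false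

namespace CfsgLib.SylL34

open Subgroup CfsgLib.Invol CfsgLib.Recog.LThreeFour

universe u

variable {G : Type u} [Group G]

/-- The members of the class of `c` commuting with `a`. -/
abbrev CommClass (c a : G) : Type u := {x : G // IsConj c x ∧ Commute x a}

theorem card_commClass_conj (c a g : G) :
    Nat.card (CommClass c (g * a * g⁻¹)) = Nat.card (CommClass c a) := by
  refine Nat.card_congr
    ((MulAut.conj g⁻¹).toEquiv.subtypeEquiv fun x => ?_)
  constructor
  · rintro ⟨h1, h2⟩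
    refine ⟨h1.trans (isConj_iff.2 ⟨g⁻¹, by simp⟩), ?_⟩
    have := h2.map (MulAut.conj g⁻¹).toMonoidHom
    simpa [mul_assoc] using this
  · rintro ⟨h1, h2⟩
    refine ⟨h1.trans (isConj_iff.2 ⟨g, by simp [mul_assoc]⟩), ?_⟩
    have := h2.map (MulAut.conj g).toMonoidHom
    simpa [mul_assoc] using this

/-- Double count of the commuting pairs of two classes. -/
theorem card_commClass_mul [Finite G] (a c : G) :
    Nat.card {x : G // IsConj a x} * Nat.card (CommClass c a) =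
      Nat.card {x : G // IsConj c x} * Nat.card (CommClass a c) := by
  have key : ∀ a c : G, Nat.card {x : G // IsConj a x} * Nat.card (CommClass c a) =
      Nat.card {p : {x : G // IsConj a x} × {x : G // IsConj c x} //
        Commute (p.2 : G) (p.1 : G)} := by
    intro a c
    haveI : Fintype {x : G // IsConj a x} := Fintype.ofFinite _
    refine Eq.symm ((Nat.card_congr (Equiv.subtypeProdEquivSigmaSubtype
      fun (x : {x : G // IsConj a x}) (y : {x : G // IsConj c x}) => Commute (y : G) (x : G))).trans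
      ?_)
    rw [Nat.card_sigma, Finset.sum_congr rfl fun x _ => ?_, Finset.sum_const, Finset.card_univ,
      ← Nat.card_eq_fintype_card, smul_eq_mul]
    obtain ⟨g, hg⟩ := isConj_iff.1 x.2
    rw [← card_commClass_conj c a g, hg]
    exact Nat.card_congr (Equiv.subtypeSubtypeEquivSubtypeInter (IsConj c)
      fun y => Commute y (x : G))
  rw [key a c, key c a]
  refine Nat.card_congr ((Equiv.prodComm _ _).subtypeEquiv fun p => ?_)
  exact Commute.symm_iff

theorem core_conj {z g x : G} (hg : g * z = z * g) (hx : x ∈ Cfsg.centralizerPPrimeCore 2 z) :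
    g * x * g⁻¹ ∈ Cfsg.centralizerPPrimeCore 2 z := by
  haveI : (Cfsg.oddCore ↥(centralizer ({z} : Set G))).Normal :=
    CfsgLib.Solvable.pPrimeCore_normal 2 _
  obtain ⟨y, hy, rfl⟩ := hx
  exact ⟨⟨g, mem_centralizer_singleton_iff.2 hg⟩ * y * ⟨g, mem_centralizer_singleton_iff.2 hg⟩⁻¹,
    Subgroup.Normal.conj_mem (H := Cfsg.oddCore ↥(centralizer ({z} : Set G))) inferInstance y hy _,
    rfl⟩

theorem core_odd [Finite G] {z x : G} (hx : x ∈ Cfsg.centralizerPPrimeCore 2 z) :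
    Odd (orderOf x) := by
  obtain ⟨y, hy, rfl⟩ := hx
  rw [coe_subtype, orderOf_coe]
  exact Odd.of_dvd_nat (odd_card_oddCore ↥(centralizer ({z} : Set G)))
    (Subgroup.orderOf_dvd_natCard _ hy)

theorem core_commute {z x : G} (hx : x ∈ Cfsg.centralizerPPrimeCore 2 z) : x * z = z * x := by
  obtain ⟨y, -, rfl⟩ := hx
  exact mem_centralizer_singleton_iff.1 y.2

/-- A product in a coset of a subgroup normalized by the second factor. -/
theorem exists_mul_pow {N : Subgroup G} {o p : G} (ho : o ∈ N) (hp : ∀ x ∈ N, p * x * p⁻¹ ∈ N) :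
    ∀ k : ℕ, ∃ o' ∈ N, (o * p) ^ k = o' * p ^ k
  | 0 => ⟨1, one_mem _, by simp⟩
  | k + 1 => by
    obtain ⟨o', ho', he⟩ := exists_mul_pow ho hp k
    refine ⟨o * (p * o' * p⁻¹), mul_mem ho (hp o' ho'), ?_⟩
    rw [pow_succ', he, pow_succ']
    group

/-- The normalizer of the Sylow subgroup is transitive on the elements of `A` outside `Z` by
elements centralizing `Z`. -/
def Tr (S A Z : Subgroup G) : Prop :=
  ∀ a ∈ A, a ∉ Z → ∀ a' ∈ A, a' ∉ Z → ∃ g ∈ normalizer (S : Set G),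
    (∀ z ∈ Z, g * z = z * g) ∧ g * a * g⁻¹ = a'

/-- All involutions of `Z` are conjugate. -/
def TrZ (Z : Subgroup G) : Prop := ∀ z ∈ Z, z ≠ 1 → ∀ z' ∈ Z, z' ≠ 1 → IsConj z z'

theorem Tr.isConj {S A Z : Subgroup G} (hT : Tr S A Z) {a a' : G} (ha : a ∈ A) (haZ : a ∉ Z)
    (ha' : a' ∈ A) (ha'Z : a' ∉ Z) : IsConj a a' := by
  obtain ⟨g, -, -, hg⟩ := hT a ha haZ a' ha' ha'Z
  exact isConj_iff.2 ⟨g, hg⟩

namespace Shape

variable [Finite G] {P : Sylow 2 G} {A B Z : Subgroup G} (h : Shape (P : Subgroup G) A B Z)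
include h

theorem Z_cases_SS {z y w : G} (hz : z ∈ Z) (hy : y ∈ Z) (hw : w ∈ Z) (hz1 : z ≠ 1) (hy1 : y ≠ 1)
    (hyz : y ≠ z) : w = 1 ∨ w = z ∨ w = y ∨ w = z * y := by
  classical
  haveI : Fintype Z := Fintype.ofFinite _
  have hzy1 : z * y ≠ 1 := fun e => hyz (by rw [← h.eZ hz] at e; exact mul_left_cancel e)
  let s : Finset Z := {1, ⟨z, hz⟩, ⟨y, hy⟩, ⟨z * y, mul_mem hz hy⟩}
  have hs : s.card = 4 := by
    rw [Finset.card_eq_four.2]
    exact ⟨_, _, _, _, by simp [Subtype.ext_iff, Ne.symm hz1], by simp [Subtype.ext_iff, Ne.symm hy1],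
      by simp [Subtype.ext_iff, Ne.symm hzy1], by simp [Subtype.ext_iff, Ne.symm hyz],
      by simp [Subtype.ext_iff, hy1],
      by simp [Subtype.ext_iff, hz1], rfl⟩
  have hu : s = Finset.univ :=
    Finset.eq_univ_of_card s (by rw [hs, ← Nat.card_eq_fintype_card, h.cardZ])
  have hm : (⟨w, hw⟩ : Z) ∈ s := by rw [hu]; exact Finset.mem_univ _
  simpa [s, Subtype.ext_iff] using hm

theorem exists_Z_ne_one_SS : ∃ z ∈ Z, z ≠ 1 := by
  refine (Subgroup.bot_or_exists_ne_one Z).resolve_left fun e => ?_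
  have := h.cardZ
  rw [e, card_bot] at this
  omega

omit h in
theorem trZ_of_moving (h : Shape (P : Subgroup G) A B Z) {R : G}
    (hR : R ∈ normalizer ((P : Subgroup G) : Set G)) (hodd : Odd (orderOf R))
    (hmov : ∀ z ∈ Z, z ≠ 1 → R * z ≠ z * R) :
    ∀ z ∈ Z, z ≠ 1 → ∀ z' ∈ Z, z' ≠ 1 → ∃ i : ℕ, R ^ i * z * (R ^ i)⁻¹ = z' := by
  intro z hz hz1 z' hz' hz'1
  have hRZ := h.normalizer_le_Z hR
  set y := R * z * R⁻¹ with hy
  have hyZ : y ∈ Z := conj_mem_of_normalizer hRZ hz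
  have hy1 : y ≠ 1 := fun e => hz1 (conj_eq_one_iff.1 e)
  have hyz : y ≠ z := fun e => hmov z hz hz1 (mul_inv_eq_iff_eq_mul.1 e)
  have h2 : R ^ 2 * z * (R ^ 2)⁻¹ = R * y * R⁻¹ := by rw [hy, pow_two]; group
  have hw : R * y * R⁻¹ = z * y := by
    rcases h.Z_cases_SS hz hyZ (conj_mem_of_normalizer hRZ hyZ) hz1 hy1 hyz with e | e | e | e
    · exact absurd (conj_eq_one_iff.1 e) hy1
    · exfalso
      rw [← h2] at e
      have h3 : Commute (R ^ 2) z := mul_inv_eq_iff_eq_mul.1 e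
      obtain ⟨k, hk⟩ := pow_sq_eq hodd
      have h4 := h3.pow_left k
      rw [hk] at h4
      exact hmov z hz hz1 h4
    · exact absurd (mul_inv_eq_iff_eq_mul.1 e) (hmov y hyZ hy1)
    · exact e
  rcases h.Z_cases_SS hz hyZ hz' hz1 hy1 hyz with e | e | e | e
  · exact absurd e hz'1
  · exact ⟨0, by simp [e]⟩
  · exact ⟨1, by simp [e, hy]⟩
  · exact ⟨2, by rw [h2, hw, e]⟩

/-- An odd element centralizing `Z` and moving every coset gives transitivity. -/
theorem tr_of_fpf {e : G} (he : e ∈ normalizer ((P : Subgroup G) : Set G)) (hodd : Odd (orderOf e))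
    (hcZ : ∀ z ∈ Z, e * z = z * e) (hmov : ∀ a ∈ A, a ∉ Z → ¬ Fixes Z e a) :
    Tr (P : Subgroup G) A Z := by
  intro a ha haZ a' ha' ha'Z
  have heA := h.normalizer_le_A he
  have heZ := h.normalizer_le_Z he
  have hnotZ : ∀ {g x : G}, g ∈ normalizer (Z : Set G) → x ∉ Z → g * x * g⁻¹ ∉ Z :=
    fun {g x} hg hx hm => hx ((mem_normalizer_iff.1 hg x).2 hm)
  -- it suffices to reach the coset
  suffices hcos : ∃ i : ℕ, (e ^ i * a * (e ^ i)⁻¹)⁻¹ * a' ∈ Z by
    obtain ⟨i, hi⟩ := hcos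
    set x := e ^ i * a * (e ^ i)⁻¹ with hxdef
    obtain ⟨b, hb, hbe⟩ := h.exists_move (u := x) (conj_mem_of_normalizer (pow_mem heA i) ha)
      (hnotZ (pow_mem heZ i) haZ) hi
    refine ⟨b * e ^ i, mul_mem (le_normalizer (h.hB hb)) (pow_mem he i), fun z hz => ?_, ?_⟩
    · have h1 : Commute (e ^ i) z := Commute.pow_left (hcZ z hz) i
      exact ((Commute.symm (h.cen z hz b (h.hB hb))).mul_left h1).eq
    · rw [show b * e ^ i * a * (b * e ^ i)⁻¹ = b * x * b⁻¹ by rw [hxdef]; group, hbe,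
        mul_inv_cancel_left]
  set y := e * a * e⁻¹ with hy
  have hyA : y ∈ A := conj_mem_of_normalizer heA ha
  have hyZ : y ∉ Z := hnotZ heZ haZ
  have hay : a⁻¹ * y ∉ Z := hmov a ha haZ
  rcases h.cosets ha haZ hyA hyZ hay ha' with c | c | c | c
  · exact absurd c ha'Z
  · exact ⟨0, by simpa using c⟩
  · exact ⟨1, by simpa [hy] using c⟩
  · refine ⟨2, ?_⟩
    set y2 := e ^ 2 * a * (e ^ 2)⁻¹ with hy2
    have hy2A : y2 ∈ A := conj_mem_of_normalizer (pow_mem heA 2) ha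
    rcases h.cosets ha haZ hyA hyZ hay hy2A with d | d | d | d
    · exact absurd d (hnotZ (pow_mem heZ 2) haZ)
    · exact absurd (Fixes.of_sq hodd heZ (show Fixes Z (e ^ 2) a from d)) (hmov a ha haZ)
    · refine absurd (show Fixes Z e y from ?_) (hmov y hyA hyZ)
      unfold Fixes
      rwa [show e * y * e⁻¹ = y2 by rw [hy2, hy, pow_two]; group]
    · rw [show y2⁻¹ * a' = ((a * y)⁻¹ * y2)⁻¹ * ((a * y)⁻¹ * a') by group]
      exact mul_mem (inv_mem d) c

/-- The transitivity forced by an element moving the cosets. -/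
theorem exists_trans (hA : SType A Z) {u : G} (hu : u ∈ A) (huZ : u ∉ Z)
    (hns : ¬ Group.IsSolvable ↥(centralizer ({u} : Set G)))
    (hT : ∃ n ∈ normalizer ((P : Subgroup G) : Set G), Odd (orderOf n) ∧ ∃ y ∈ A, ¬ Fixes Z n y) :
    Tr (P : Subgroup G) A Z ∧ Tr (P : Subgroup G) B Z ∧ TrZ Z := by
  obtain ⟨R, hR, hRodd, hRfix, hRmov⟩ := h.exists_trivial_moving hA hu huZ hns
  obtain ⟨n, hn, hnodd, y, hy, hny⟩ := hT
  have hnfix : ∀ a ∈ A, a ∉ Z → ¬ Fixes Z n a := fun a ha haZ hf =>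
    hny (h.fix_coset hnodd (h.normalizer_le_A hn) (h.normalizer_le_Z hn) ha haZ hf hy)
  have hTZ := h.trZ_of_moving hR hRodd hRmov
  obtain ⟨z, hz, hz1⟩ := h.exists_Z_ne_one_SS
  obtain ⟨i, hi⟩ := hTZ (n * z * n⁻¹) (conj_mem_of_normalizer (h.normalizer_le_Z hn) hz)
    (fun e => hz1 (conj_eq_one_iff.1 e)) z hz hz1
  set m := R ^ i * n with hm
  have hmN : m ∈ normalizer ((P : Subgroup G) : Set G) := mul_mem (pow_mem hR i) hn
  have hmz : m * z = z * m := by
    rw [← mul_inv_eq_iff_eq_mul]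
    calc R ^ i * n * z * (R ^ i * n)⁻¹ = R ^ i * (n * z * n⁻¹) * (R ^ i)⁻¹ := by group
      _ = z := hi
  obtain ⟨s, hs, e, -, heN, heodd, hme⟩ := exists_odd_part P hmN
  have hmZ : ∀ x ∈ Z, m * x = x * m := fun x hx => h.normalizer_fix_Z hmN hz hz1 hmz hx
  have heZ : ∀ x ∈ Z, e * x = x * e := fun x hx => by
    refine mul_left_cancel (a := s) ?_
    rw [← mul_assoc, ← mul_assoc, ← hme, hmZ x hx, ← h.cen x hx s hs, mul_assoc x s e, hme]
  have hmov : ∀ a ∈ A, a ∉ Z → ¬ Fixes Z e a := by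
    intro a ha haZ hf
    refine hnfix a ha haZ ?_
    have hs1 : Fixes Z s a := by
      obtain ⟨a₁, ha₁, b₁, hb₁, rfl⟩ := h.exists_mul hs
      unfold Fixes
      have hc := inv_mem (h.comm a ha b₁ hb₁)
      have e2 : b₁ * a * b₁⁻¹ = (a * b₁ * a⁻¹ * b₁⁻¹)⁻¹ * a := by group
      rw [show a⁻¹ * (a₁ * b₁ * a * (a₁ * b₁)⁻¹) = a⁻¹ * (a₁ * (b₁ * a * b₁⁻¹) * a₁⁻¹) by group,
        e2, comm_of_sq h.eA ha₁ (mul_mem (h.hZA hc) ha), mul_inv_cancel_right,
        h.cen _ hc a (h.hA ha), inv_mul_cancel_left]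
      exact hc
    have hm1 : Fixes Z m a := by
      rw [hme]
      exact Fixes.mul (h.normalizer_le_Z (le_normalizer hs)) hs1 hf
    have hx := conj_mem_of_normalizer (h.normalizer_le_A hn) ha
    have hr : Fixes Z (R ^ i) (n * a * n⁻¹) :=
      Fixes.pow (h.normalizer_le_Z hR) (hRfix _ hx) i
    unfold Fixes at hm1 hr ⊢
    rw [show a⁻¹ * (n * a * n⁻¹) = (a⁻¹ * (m * a * m⁻¹)) *
      ((n * a * n⁻¹)⁻¹ * (R ^ i * (n * a * n⁻¹) * (R ^ i)⁻¹))⁻¹ by rw [hm]; group]
    exact mul_mem hm1 (inv_mem hr)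
  refine ⟨h.tr_of_fpf heN heodd heZ hmov, h.symm.tr_of_fpf heN heodd heZ ?_, fun z hz hz1 z' hz' hz'1 => ?_⟩
  · intro b hb hbZ hf
    obtain ⟨a, ha, haZ⟩ := h.exists_A_not_Z
    exact hmov a ha haZ (h.symm.fix_other (h.normalizer_le_A heN) heZ hb hbZ hf ha)
  · obtain ⟨j, hj⟩ := hTZ z hz hz1 z' hz' hz'1
    exact isConj_iff.2 ⟨_, hj⟩

theorem core_inf {z w : G} (hw : w ∈ (P : Subgroup G))
    (hwO : w ∈ Cfsg.centralizerPPrimeCore 2 z) : w = 1 := by
  obtain ⟨k, hk⟩ := IsPGroup.iff_orderOf.1 P.2 ⟨w, hw⟩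
  rw [Subgroup.orderOf_mk] at hk
  rcases k with _ | k
  · exact orderOf_eq_one_iff.1 (by rw [hk, pow_zero])
  · have ho := core_odd hwO
    rw [hk] at ho
    exact absurd ho (Nat.not_odd_iff_even.2 ⟨2 ^ k, by rw [pow_succ]; ring⟩)

/-- An involution commuting with a central one is congruent to one of the Sylow subgroup. -/
theorem exists_bar {z x : G} (hz : z ∈ Z) (hz1 : z ≠ 1) (hx : orderOf x = 2)
    (hxz : x * z = z * x) :
    ∃ s ∈ (P : Subgroup G), orderOf s = 2 ∧ IsConj x s ∧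
      x * s ∈ Cfsg.centralizerPPrimeCore 2 z := by
  have := twoFact
  have hnn := h.cent_Z_sylow_normal hz hz1
  set C := centralizer ({z} : Set G)
  set O := Cfsg.oddCore C with hO
  haveI : O.Normal := CfsgLib.Solvable.pPrimeCore_normal 2 C
  let T : Sylow 2 C := P.subtype (h.le_cent_Z hz)
  let T' : Sylow 2 (C ⧸ O) := T.mapSurjective (QuotientGroup.mk'_surjective O)
  set x' : C := ⟨x, mem_centralizer_singleton_iff.2 hxz⟩ with hx'
  have hx2 : x' * x' = 1 := Subtype.ext (invol_mul_self hx)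
  have h2 : IsPGroup 2 ↥(zpowers (QuotientGroup.mk' O x')) := IsPGroup.of_card_dvd_pow (n := 1) (by
    rw [Nat.card_zpowers]
    exact orderOf_dvd_of_pow_eq_one (by rw [pow_one, pow_two, ← map_mul, hx2, map_one]))
  obtain ⟨g, hg⟩ := exists_conj_mem_sylow T' h2
  have hmem : QuotientGroup.mk' O x' ∈ (T : Subgroup C).map (QuotientGroup.mk' O) := by
    have := hnn.conj_mem _ (hg _ (mem_zpowers _)) g⁻¹
    rwa [show g⁻¹ * (g * QuotientGroup.mk' O x' * g⁻¹) * g⁻¹⁻¹ = QuotientGroup.mk' O x' by group]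
      at this
  obtain ⟨s, hs, hse⟩ := hmem
  have hsP : (s : G) ∈ (P : Subgroup G) := hs
  have hxs : x * (s : G) ∈ Cfsg.centralizerPPrimeCore 2 z := by
    refine ⟨x' * s, (QuotientGroup.eq_one_iff (N := O) _).1 ?_, rfl⟩
    show QuotientGroup.mk' O (x' * s) = 1
    rw [map_mul, hse, ← map_mul, hx2, map_one]
  have hssO : (s : G) * s ∈ Cfsg.centralizerPPrimeCore 2 z := by
    refine ⟨s * s, (QuotientGroup.eq_one_iff (N := O) _).1 ?_, rfl⟩
    show QuotientGroup.mk' O (s * s) = 1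
    rw [map_mul, hse, ← map_mul, hx2, map_one]
  have hs1 : (s : G) ≠ 1 := fun e => by
    rw [e, mul_one] at hxs
    have := core_odd hxs
    rw [hx] at this
    exact absurd this (by decide)
  have hs2 : orderOf (s : G) = 2 :=
    invol_of_mul_self (h.core_inf (mul_mem hsP hsP) hssO) hs1
  exact ⟨s, hsP, hs2, isConj_of_odd hx hs2 (core_odd hxs), hxs⟩

theorem bar_unique {z x s t : G} (hs : s ∈ (P : Subgroup G)) (ht : t ∈ (P : Subgroup G))
    (hxs : x * s ∈ Cfsg.centralizerPPrimeCore 2 z) (hxt : x * t ∈ Cfsg.centralizerPPrimeCore 2 z) :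
    s = t := by
  refine inv_mul_eq_one.1 (h.core_inf (z := z) (mul_mem (inv_mem hs) ht) ?_)
  rw [show s⁻¹ * t = (x * s)⁻¹ * (x * t) by group]
  exact mul_mem (inv_mem hxs) hxt

/-- Elements of `A` outside `Z` are not conjugate to elements of `Z`. -/
theorem not_conj_Z (hA : SType A Z) {a z : G} (ha : a ∈ A) (haZ : a ∉ Z) (hz : z ∈ Z) :
    ¬ IsConj a z := by
  intro hc
  obtain ⟨g, hg⟩ := isConj_iff.1 hc
  obtain ⟨n, hn, he⟩ := h.conj_normalizer ha (g := g) (by rw [hg]; exact h.hZA hz)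
  rw [hg] at he
  exact haZ ((mem_normalizer_iff.1 (hA hn) a).2 (by rw [he]; exact hz))

/-- An involution commuting with `a` is conjugate into `A` in the centralizer. -/
theorem conj_into (hA : SType A Z) {a x : G} (ha : a ∈ A) (haZ : a ∉ Z) (hx : x * x = 1)
    (hxa : Commute x a) : ∃ c : G, c * a = a * c ∧ c * x * c⁻¹ ∈ A := by
  have := twoFact
  obtain ⟨T, hT⟩ : ∃ T : Sylow 2 ↥(centralizer ({a} : Set G)),
      (T : Subgroup ↥(centralizer ({a} : Set G))) = A.subgroupOf (centralizer ({a} : Set G)) :=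
    h.sylow_cent_A hA ha haZ
  set x' : ↥(centralizer ({a} : Set G)) := ⟨x, mem_centralizer_singleton_iff.2 hxa.eq⟩
  obtain ⟨c, hc⟩ := exists_conj_mem_sylow T (H := zpowers x') (IsPGroup.of_card_dvd_pow (n := 1) (by
    rw [Nat.card_zpowers]
    exact orderOf_dvd_of_pow_eq_one (Subtype.ext (by simpa [pow_two] using hx))))
  have : c * x' * c⁻¹ ∈ (T : Subgroup ↥(centralizer ({a} : Set G))) := hc x' (mem_zpowers _)
  rw [hT] at this
  exact ⟨c, mem_centralizer_singleton_iff.1 c.2, this⟩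

/-- Elements outside `Z` of the two subgroups are not conjugate. -/
theorem not_conj_other (hB : SType B Z) {a b : G} (ha : a ∈ A) (hb : b ∈ B) (hbZ : b ∉ Z) :
    ¬ IsConj a b := by
  intro hconj
  have := twoFact
  obtain ⟨g, hg⟩ := isConj_iff.1 hconj
  obtain ⟨T, hT⟩ : ∃ T : Sylow 2 ↥(centralizer ({b} : Set G)),
      (T : Subgroup ↥(centralizer ({b} : Set G))) = B.subgroupOf (centralizer ({b} : Set G)) :=
    h.symm.sylow_cent_A hB hb hbZ
  have hle : cj g A ≤ centralizer ({b} : Set G) := by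
    rw [← hg, cj_centralizer]
    exact cj_mono fun x hx => mem_centralizer_singleton_iff.2 (comm_of_sq h.eA hx ha)
  obtain ⟨c, hc⟩ := exists_conj_mem_sylow T
    (H := (cj g A).subgroupOf (centralizer ({b} : Set G)))
    (((h.isPGroup.to_le h.hA).map (MulAut.conj g).toMonoidHom :
      IsPGroup 2 (cj g A)).of_equiv (subgroupOfEquivOfLe hle).symm)
  refine h.not_conj_B ((c : G) * g) (eq_of_le_of_card_ge (fun x hx => ?_)
    (by rw [card_cj, h.cardA, h.cardB]))
  rw [cj_mul] at hx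
  have hy := mem_cj.1 hx
  have : c * ⟨_, hle hy⟩ * c⁻¹ ∈ (T : Subgroup ↥(centralizer ({b} : Set G))) :=
    hc ⟨_, hle hy⟩ hy
  rw [hT] at this
  have h2 : (c : G) * ((c : G)⁻¹ * x * c) * (c : G)⁻¹ ∈ B := this
  rwa [show (c : G) * ((c : G)⁻¹ * x * c) * (c : G)⁻¹ = x by group] at h2

/-- The Sylow subgroup meets the class of an element of `A` outside `Z` in `A`. -/
theorem mem_of_conj (hA : SType A Z) (hB : SType B Z) {a x : G} (ha : a ∈ A) (haZ : a ∉ Z)
    (hx : x ∈ (P : Subgroup G)) (hc : IsConj a x) : x ∈ A ∧ x ∉ Z := by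
  have hx2 : x * x = 1 := by
    obtain ⟨g, rfl⟩ := isConj_iff.1 hc
    rw [show g * a * g⁻¹ * (g * a * g⁻¹) = g * (a * a) * g⁻¹ by group, h.eA a ha]; group
  have hxZ : x ∉ Z := fun e => h.not_conj_Z hA ha haZ e hc
  exact ⟨(h.invol x hx hx2).resolve_right fun e => h.not_conj_other hB ha e hxZ hc, hxZ⟩

/-- The Sylow subgroup meets the class of an involution of `Z` in `Z`. -/
theorem mem_Z_of_conj (hA : SType A Z) (hB : SType B Z) {z x : G} (hz : z ∈ Z)
    (hx : x ∈ (P : Subgroup G)) (hc : IsConj z x) : x ∈ Z := by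
  have hx2 : x * x = 1 := by
    obtain ⟨g, rfl⟩ := isConj_iff.1 hc
    rw [show g * z * g⁻¹ * (g * z * g⁻¹) = g * (z * z) * g⁻¹ by group, h.eZ hz]; group
  by_contra hxZ
  rcases h.invol x hx hx2 with e | e
  · exact h.not_conj_Z hA e hxZ hz hc.symm
  · exact h.symm.not_conj_Z hB e hxZ hz hc.symm

/-- Conjugates of elements outside `Z` of the two subgroups do not commute. -/
theorem no_comm (hA : SType A Z) (hB : SType B Z) {a b x y : G} (ha : a ∈ A) (haZ : a ∉ Z)
    (hb : b ∈ B) (hbZ : b ∉ Z) (hx : IsConj a x) (hy : IsConj b y) : ¬ Commute x y := by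
  intro hxy
  obtain ⟨g, rfl⟩ := isConj_iff.1 hy
  have hcom : Commute (g⁻¹ * x * g) b := by
    have := hxy.map (MulAut.conj g⁻¹).toMonoidHom
    simpa [mul_assoc] using this
  have hconj : IsConj a (g⁻¹ * x * g) := hx.trans (isConj_iff.2 ⟨g⁻¹, by group⟩)
  have h2 : g⁻¹ * x * g * (g⁻¹ * x * g) = 1 := by
    obtain ⟨k, hk⟩ := isConj_iff.1 hconj
    rw [← hk, show k * a * k⁻¹ * (k * a * k⁻¹) = k * (a * a) * k⁻¹ by group, h.eA a ha]; group
  obtain ⟨c, -, hc⟩ := h.symm.conj_into hB hb hbZ h2 hcom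
  obtain ⟨h3, h4⟩ := h.mem_of_conj hA hB ha haZ (h.hB hc)
    (hconj.trans (isConj_iff.2 ⟨c, rfl⟩))
  exact h4 (h.mem_Z h3 hc)

/-- The three classes of involutions. -/
theorem class_cases (hTA : Tr (P : Subgroup G) A Z) (hTB : Tr (P : Subgroup G) B Z) (hTZ : TrZ Z)
    {a b z w : G} (ha : a ∈ A) (haZ : a ∉ Z) (hb : b ∈ B) (hbZ : b ∉ Z) (hz : z ∈ Z) (hz1 : z ≠ 1)
    (hw : orderOf w = 2) : IsConj a w ∨ IsConj b w ∨ IsConj z w := by
  have := twoFact
  obtain ⟨g, hg⟩ := exists_conj_invol_mem_sylow P hw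
  have hc : IsConj (g * w * g⁻¹) w := (isConj_iff.2 ⟨g, rfl⟩ : IsConj w (g * w * g⁻¹)).symm
  have h2 := (orderOf_conj_eq g w).trans hw
  by_cases hZ : g * w * g⁻¹ ∈ Z
  · exact Or.inr (Or.inr ((hTZ z hz hz1 _ hZ (invol_ne_one h2)).trans hc))
  rcases h.invol _ hg (invol_mul_self h2) with e | e
  · exact Or.inl ((hTA.isConj ha haZ e hZ).trans hc)
  · exact Or.inr (Or.inl ((hTB.isConj hb hbZ e hZ).trans hc))

/-- Powers of the product of elements outside `Z` of the two subgroups. -/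
theorem pow_mul_cases {s t : G} (hs : s ∈ A) (hsZ : s ∉ Z) (ht : t ∈ B) (htZ : t ∉ Z) :
    s * t * (s * t) ∈ Z ∧ s * t * (s * t) ≠ 1 ∧
      ∀ k : ℕ, ((s * t) ^ k = 1 ∨ (s * t) ^ k = s * t * (s * t)) ∨
        ((s * t) ^ k ∉ Z ∧ (s * t) ^ k * (s * t) ^ k ≠ 1) := by
  have hst : s * t ∈ (P : Subgroup G) := mul_mem (h.hA hs) (h.hB ht)
  have hnZ : s * t ∉ Z := fun e => hsZ (h.mem_Z hs (by
    simpa using mul_mem (h.hZB e) (inv_mem ht)))
  have hc : s * t * (s * t) ∈ Z := h.sq_mem hst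
  have hne : s * t * (s * t) ≠ 1 := fun e => by
    rcases h.invol _ hst e with e' | e'
    · exact htZ (h.mem_Z (by simpa using mul_mem (inv_mem hs) e') ht)
    · exact hsZ (h.mem_Z hs (by simpa using mul_mem e' (inv_mem ht)))
  refine ⟨hc, hne, fun k => ?_⟩
  have hpow : ∀ j : ℕ, (s * t) ^ (2 * j) = 1 ∨ (s * t) ^ (2 * j) = s * t * (s * t) := by
    intro j
    rw [pow_mul, pow_two]
    rcases j.even_or_odd with ⟨i, rfl⟩ | ⟨i, rfl⟩
    · refine Or.inl ?_
      rw [← two_mul, pow_mul, pow_two, h.eZ hc, one_pow]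
    · refine Or.inr ?_
      rw [pow_succ, pow_mul, pow_two (s * t * (s * t)), h.eZ hc, one_pow, one_mul]
  rcases k.even_or_odd with ⟨j, rfl⟩ | ⟨j, rfl⟩
  · exact Or.inl (by rw [← two_mul]; exact hpow j)
  · refine Or.inr ?_
    have hm : (s * t) ^ (2 * j) ∈ Z := by
      rcases hpow j with e | e <;> rw [e]
      · exact one_mem _
      · exact hc
    rw [pow_succ]
    refine ⟨fun e => hnZ ((mul_mem_cancel_left hm).1 e), ?_⟩
    rw [mul_assoc, ← mul_assoc (s * t), ← h.cen _ hm _ hst, mul_assoc ((s * t) ^ (2 * j)),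
      ← mul_assoc, h.eZ hm, one_mul]
    exact hne

/-- A centre of a pair of involutions modulo the odd core of the centralizer of `z`. -/
theorem centre_bar {z x y w s t : G} (hz : z ∈ Z) (hs : s ∈ (P : Subgroup G))
    (ht : t ∈ (P : Subgroup G)) (hs2 : s * s = 1) (ht2 : t * t = 1)
    (hxs : x * s ∈ Cfsg.centralizerPPrimeCore 2 z) (hyt : y * t ∈ Cfsg.centralizerPPrimeCore 2 z)
    (hw : Centre w (x, y)) :
    ∃ k : ℕ, w * ((s * t) ^ k)⁻¹ ∈ Cfsg.centralizerPPrimeCore 2 z ∧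
      (s * t) ^ k * (s * t) ^ k = 1 := by
  obtain ⟨hw2, k, hk⟩ := hw
  have hnorm : ∀ {p : G}, p ∈ (P : Subgroup G) → ∀ v ∈ Cfsg.centralizerPPrimeCore 2 z,
      p * v * p⁻¹ ∈ Cfsg.centralizerPPrimeCore 2 z :=
    fun {p} hp v hv => core_conj (h.cen z hz p hp).symm hv
  obtain ⟨o', ho', he⟩ := exists_mul_pow (N := Cfsg.centralizerPPrimeCore 2 z)
    (mul_mem hxs (hnorm hs _ hyt)) (hnorm (mul_mem hs ht)) k
  rw [show x * s * (s * (y * t) * s⁻¹) * (s * t) = x * (s * s) * y * (t * t) by group,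
    hs2, ht2, mul_one, mul_one] at he
  replace he : w = o' * (s * t) ^ k := hk.symm.trans he
  refine ⟨k, by rw [he, mul_inv_cancel_right]; exact ho', ?_⟩
  set p := (s * t) ^ k with hp
  have hpP : p ∈ (P : Subgroup G) := pow_mem (mul_mem hs ht) k
  refine h.core_inf (z := z) (mul_mem hpP hpP) ?_
  have h1 := invol_mul_self hw2
  rw [he, show o' * p * (o' * p) = o' * (p * o' * p⁻¹) * (p * p) by group] at h1
  rw [eq_inv_of_mul_eq_one_right h1]
  exact inv_mem (mul_mem ho' (hnorm hpP o' ho'))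

/-- The pairs with centre `z` among the classes of the two subgroups. -/
theorem centre_Z_iff (hA : SType A Z) (hB : SType B Z) {a b z x y s t : G} (ha : a ∈ A)
    (haZ : a ∉ Z) (hb : b ∈ B) (hbZ : b ∉ Z) (hz : z ∈ Z) (hz1 : z ≠ 1)
    (hx : IsConj a x) (hy : IsConj b y) (hxz : Commute x z) (hyz : Commute y z) (hs : s ∈ A)
    (hsZ : s ∉ Z) (ht : t ∈ B) (htZ : t ∉ Z) (hxs : x * s ∈ Cfsg.centralizerPPrimeCore 2 z)
    (hyt : y * t ∈ Cfsg.centralizerPPrimeCore 2 z) :
    Centre z (x, y) ↔ s * t * (s * t) = z := by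
  obtain ⟨hc, hne, hpow⟩ := h.pow_mul_cases hs hsZ ht htZ
  constructor
  · intro hw
    obtain ⟨k, hk, hk2⟩ := h.centre_bar hz (h.hA hs) (h.hB ht) (h.eA s hs) (h.eB t ht) hxs hyt hw
    have hzp : (s * t) ^ k = z := by
      have := h.core_inf (z := z) (mul_mem (h.hZS hz) (inv_mem (pow_mem (mul_mem (h.hA hs) (h.hB ht)) k))) hk
      exact (mul_inv_eq_one.1 this).symm
    rcases hpow k with (e | e) | ⟨-, e⟩
    · exact absurd (hzp ▸ e) hz1
    · exact e.symm.trans hzp
    · exact absurd hk2 e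
  · intro hst
    have hx2 : orderOf x = 2 := (orderOf_eq_of_isConj hx).trans
      (invol_of_mul_self (h.eA a ha) fun e => haZ (e ▸ one_mem _))
    have hy2 : orderOf y = 2 := (orderOf_eq_of_isConj hy).trans
      (invol_of_mul_self (h.eB b hb) fun e => hbZ (e ▸ one_mem _))
    have hnc : ¬ IsConj x y := fun e =>
      h.not_conj_other hB ha hb hbZ (hx.trans (e.trans hy.symm))
    obtain ⟨w, hw⟩ := exists_centre hx2 hy2 hnc
    obtain ⟨k, hk, hk2⟩ := h.centre_bar hz (h.hA hs) (h.hB ht) (h.eA s hs) (h.eB t ht) hxs hyt hw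
    have hwz : Commute w z := by
      obtain ⟨j, hj⟩ := hw.2
      exact hj ▸ (hxz.mul_left hyz).pow_left j
    rcases hpow k with (e | e) | ⟨-, e⟩
    · rw [e, inv_one, mul_one] at hk
      have := core_odd hk
      rw [hw.1] at this
      exact absurd this (by decide)
    · rw [e, hst, inv_eq_of_mul_eq_one_right (h.eZ hz)] at hk
      have h1 : w * z * (w * z) = 1 := by
        rw [mul_assoc w z, ← mul_assoc z w z, ← hwz.eq, mul_assoc w z z, h.eZ hz, mul_one,
          invol_mul_self hw.1]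
      have h2 := eq_one_of_sq_of_odd h1 (core_odd hk)
      rwa [eq_inv_of_mul_eq_one_left h2, inv_eq_of_mul_eq_one_right (h.eZ hz)] at hw
    · exact absurd hk2 e

/-- The members of the class of `b` congruent to a member of a set. -/
theorem card_bar_set (hTB : Tr (P : Subgroup G) B Z) {b z : G} (hb : b ∈ B) (hbZ : b ∉ Z)
    (hz : z ∈ Z) (S : Set G) (hS : ∀ t ∈ S, t ∈ B ∧ t ∉ Z) :
    Nat.card {y : G // IsConj b y ∧ Commute y z ∧
        ∃ t ∈ S, y * t ∈ Cfsg.centralizerPPrimeCore 2 z} =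
      S.ncard *
        Nat.card {y : G // IsConj b y ∧ Commute y z ∧ y * b ∈ Cfsg.centralizerPPrimeCore 2 z} := by
  haveI : Fintype ↥S := Fintype.ofFinite _
  let F : G → Type u :=
    fun t => {y : G // IsConj b y ∧ Commute y z ∧ y * t ∈ Cfsg.centralizerPPrimeCore 2 z}
  have hF : ∀ t : ↥S, Nat.card (F t) = Nat.card (F b) := by
    intro t
    obtain ⟨g, -, hgZ, hg⟩ := hTB t (hS t t.2).1 (hS t t.2).2 b hb hbZ
    have hgz : g * z = z * g := hgZ z hz
    refine Nat.card_congr ((MulAut.conj g).toEquiv.subtypeEquiv fun y => ?_)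
    show _ ↔ IsConj b (g * y * g⁻¹) ∧ Commute (g * y * g⁻¹) z ∧ g * y * g⁻¹ * b ∈ _
    constructor
    · rintro ⟨h1, h2, h3⟩
      refine ⟨h1.trans (isConj_iff.2 ⟨g, rfl⟩), ?_, ?_⟩
      · have := h2.map (MulAut.conj g).toMonoidHom
        simpa [mul_inv_eq_iff_eq_mul.2 hgz] using this
      · rw [← hg, show g * y * g⁻¹ * (g * (t : G) * g⁻¹) = g * (y * t) * g⁻¹ by group]
        exact core_conj hgz h3
    · rintro ⟨h1, h2, h3⟩
      have hgz' : g⁻¹ * z = z * g⁻¹ := (Commute.inv_left (show Commute g z from hgz)).eq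
      refine ⟨h1.trans (isConj_iff.2 ⟨g⁻¹, by group⟩), ?_, ?_⟩
      · have := h2.map (MulAut.conj g⁻¹).toMonoidHom
        simpa [mul_assoc, ← hgz] using this
      · rw [← hg, show g * y * g⁻¹ * (g * (t : G) * g⁻¹) = g * (y * t) * g⁻¹ by group] at h3
        simpa [mul_assoc] using core_conj hgz' h3
  have e : Nat.card {y : G // IsConj b y ∧ Commute y z ∧
      ∃ t ∈ S, y * t ∈ Cfsg.centralizerPPrimeCore 2 z} = Nat.card ((t : ↥S) × F t) := by
    refine (Nat.card_eq_of_bijective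
      (fun q : (t : ↥S) × F t => ⟨q.2.1, q.2.2.1, q.2.2.2.1, q.1, q.1.2, q.2.2.2.2⟩) ⟨?_, ?_⟩).symm
    · rintro ⟨t, y, hy⟩ ⟨t', y', hy'⟩ e
      obtain rfl : y = y' := congrArg Subtype.val e
      obtain rfl : t = t' := Subtype.ext (h.bar_unique (h.hB (hS t t.2).1) (h.hB (hS t' t'.2).1)
        hy.2.2 hy'.2.2)
      rfl
    · rintro ⟨y, h1, h2, t, ht, h3⟩
      exact ⟨⟨⟨t, ht⟩, y, h1, h2, h3⟩, rfl⟩
  rw [e, Nat.card_sigma, Finset.sum_congr rfl fun t _ => hF t, Finset.sum_const, Finset.card_univ,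
    ← Nat.card_eq_fintype_card, Nat.card_coe_set_eq, smul_eq_mul]

/-- The number of pairs with centre `z`. -/
theorem card_centre_Z (hA : SType A Z) (hB : SType B Z) (hTB : Tr (P : Subgroup G) B Z)
    {a b z : G} (ha : a ∈ A) (haZ : a ∉ Z) (hb : b ∈ B) (hbZ : b ∉ Z) (hz : z ∈ Z) (hz1 : z ≠ 1) :
    3 * Nat.card (CentrePairs a b z) =
      Nat.card (CommClass a z) * Nat.card (CommClass b z) := by
  classical
  haveI : Fintype (CommClass a z) := Fintype.ofFinite _
  have ha2 : orderOf a = 2 := invol_of_mul_self (h.eA a ha) fun e => haZ (e ▸ one_mem _)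
  have hb2 : orderOf b = 2 := invol_of_mul_self (h.eB b hb) fun e => hbZ (e ▸ one_mem _)
  have hbarB : ∀ y : G, IsConj b y → Commute y z →
      ∃ t, (t ∈ B ∧ t ∉ Z) ∧ y * t ∈ Cfsg.centralizerPPrimeCore 2 z := by
    intro y hy hyz
    obtain ⟨t, ht, -, htc, hyt⟩ := h.exists_bar hz hz1 ((orderOf_eq_of_isConj hy).trans hb2) hyz.eq
    exact ⟨t, h.symm.mem_of_conj hB hA hb hbZ ht (hy.trans htc), hyt⟩
  set f := Nat.card {y : G // IsConj b y ∧ Commute y z ∧ y * b ∈ Cfsg.centralizerPPrimeCore 2 z}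
  have hV : Nat.card (CommClass b z) = 12 * f := by
    have e := h.card_bar_set hTB hb hbZ hz {t : G | t ∈ B ∧ t ∉ Z} fun t ht => ht
    have h12 : ({t : G | t ∈ B ∧ t ∉ Z} : Set G).ncard = 12 := by
      rw [show ({t : G | t ∈ B ∧ t ∉ Z} : Set G) = (B : Set G) \ (Z : Set G) from rfl,
        Set.ncard_sdiff (SetLike.coe_subset_coe.2 h.hZB), ← Nat.card_coe_set_eq,
        ← Nat.card_coe_set_eq, SetLike.coe_sort_coe, SetLike.coe_sort_coe, h.cardB, h.cardZ]
    rw [h12] at e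
    rw [← e]
    refine Nat.card_congr (Equiv.subtypeEquivRight fun y => ?_)
    exact ⟨fun hy => ⟨hy.1, hy.2, hbarB y hy.1 hy.2⟩, fun hy => ⟨hy.1, hy.2.1⟩⟩
  choose bar hbarP _ hbarC hbarO using fun x : CommClass a z =>
    h.exists_bar hz hz1 ((orderOf_eq_of_isConj x.2.1).trans ha2) x.2.2.eq
  have hbarA : ∀ x, bar x ∈ A ∧ bar x ∉ Z := fun x =>
    h.mem_of_conj hA hB ha haZ (hbarP x) (x.2.1.trans (hbarC x))
  let S : CommClass a z → Set G :=
    fun x => {t | (t ∈ B ∧ t ∉ Z) ∧ bar x * t * (bar x * t) = z}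
  have h4 : ∀ x, (S x).ncard = 4 := by
    intro x
    obtain ⟨hsA, hsZ⟩ := hbarA x
    set s := bar x
    have hsi : s⁻¹ = s := inv_eq_of_mul_eq_one_right (h.eA s hsA)
    have hf : ∀ t ∈ B, s * t * (s * t) = s⁻¹ * (t * s * t⁻¹) := fun t ht => by
      rw [inv_eq_of_mul_eq_one_right (h.eB t ht), hsi]; group
    obtain ⟨b₀, hb₀, hb₀e⟩ := h.exists_move hsA hsZ hz
    have hb₀f : s⁻¹ * (b₀ * s * b₀⁻¹) = z := by rw [hb₀e, inv_mul_cancel_left]
    have hS : S x = (fun c => b₀ * c) '' (Z : Set G) := by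
      ext t
      constructor
      · rintro ⟨⟨ht, -⟩, hte⟩
        rw [hf t ht] at hte
        refine ⟨b₀⁻¹ * t, ?_, mul_inv_cancel_left _ _⟩
        have e : t * s * t⁻¹ = b₀ * s * b₀⁻¹ := mul_left_cancel (hte.trans hb₀f.symm)
        refine SetLike.mem_coe.2 ((h.key hsA (mul_mem (inv_mem hb₀) ht) ?_).resolve_left hsZ)
        calc s * (b₀⁻¹ * t) = b₀⁻¹ * (b₀ * s * b₀⁻¹) * t := by group
          _ = b₀⁻¹ * (t * s * t⁻¹) * t := by rw [e]
          _ = b₀⁻¹ * t * s := by group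
      · rintro ⟨c, hc, rfl⟩
        have hb₀c : b₀ * c ∈ B := mul_mem hb₀ (h.hZB hc)
        refine ⟨⟨hb₀c, fun e => ?_⟩, ?_⟩
        · have hb₀Z : b₀ ∈ Z := (mul_mem_cancel_right hc).1 e
          rw [h.cen b₀ hb₀Z s (h.hA hsA), mul_inv_cancel_right, inv_mul_cancel] at hb₀f
          exact hz1 hb₀f.symm
        · show s * (b₀ * c) * (s * (b₀ * c)) = z
          rw [hf _ hb₀c]
          refine Eq.trans ?_ hb₀f
          rw [show b₀ * c * s * (b₀ * c)⁻¹ = b₀ * (c * s) * c⁻¹ * b₀⁻¹ by group,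
            h.cen c hc s (h.hA hsA)]
          group
    rw [hS, Set.ncard_image_of_injective _ (mul_right_injective b₀), ← Nat.card_coe_set_eq,
      SetLike.coe_sort_coe, h.cardZ]
  have hpairs : Nat.card (CentrePairs a b z) = Nat.card ((x : CommClass a z) ×
      {y : G // IsConj b y ∧ Commute y z ∧ ∃ t ∈ S x, y * t ∈ Cfsg.centralizerPPrimeCore 2 z}) := by
    have hcz : ∀ p : CentrePairs a b z, Commute (p.1.1 : G) z := fun p =>
      (p.2.commute_left ((orderOf_eq_of_isConj p.1.1.2).trans ha2)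
        ((orderOf_eq_of_isConj p.1.2.2).trans hb2)).symm
    have hcz2 : ∀ p : CentrePairs a b z, Commute (p.1.2 : G) z := fun p =>
      (p.2.commute_right ((orderOf_eq_of_isConj p.1.1.2).trans ha2)
        ((orderOf_eq_of_isConj p.1.2.2).trans hb2)).symm
    refine Nat.card_congr
      { toFun := fun p => ⟨⟨p.1.1, p.1.1.2, hcz p⟩, p.1.2, p.1.2.2, hcz2 p, ?_⟩
        invFun := fun q => ⟨(⟨q.1, q.1.2.1⟩, ⟨q.2, q.2.2.1⟩), ?_⟩
        left_inv := fun p => rfl
        right_inv := fun q => rfl }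
    · obtain ⟨t, ht, hyt⟩ := hbarB p.1.2 p.1.2.2 (hcz2 p)
      exact ⟨t, ⟨ht, (h.centre_Z_iff hA hB ha haZ hb hbZ hz hz1 p.1.1.2 p.1.2.2 (hcz p) (hcz2 p)
        (hbarA ⟨p.1.1, p.1.1.2, hcz p⟩).1 (hbarA ⟨p.1.1, p.1.1.2, hcz p⟩).2 ht.1 ht.2
        (hbarO ⟨p.1.1, p.1.1.2, hcz p⟩) hyt).1 p.2⟩, hyt⟩
    · obtain ⟨t, ⟨ht, hte⟩, hyt⟩ := q.2.2.2.2
      exact (h.centre_Z_iff hA hB ha haZ hb hbZ hz hz1 q.1.2.1 q.2.2.1 q.1.2.2 q.2.2.2.1
        (hbarA q.1).1 (hbarA q.1).2 ht.1 ht.2 (hbarO q.1) hyt).2 hte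
  rw [hpairs, Nat.card_sigma, Finset.sum_congr rfl fun x _ => (by
    rw [h.card_bar_set hTB hb hbZ hz (S x) (fun t ht => ht.1), h4 x] :
    Nat.card {y : G // IsConj b y ∧ Commute y z ∧ ∃ t ∈ S x,
      y * t ∈ Cfsg.centralizerPPrimeCore 2 z} = 4 * f), Finset.sum_const, Finset.card_univ,
    ← Nat.card_eq_fintype_card, smul_eq_mul, hV]
  ring

/-- The number of central involutions is determined by those in the two centralizers. -/
theorem three_mul_card (hA : SType A Z) (hB : SType B Z) (hTA : Tr (P : Subgroup G) A Z)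
    (hTB : Tr (P : Subgroup G) B Z) (hTZ : TrZ Z) {a b z : G} (ha : a ∈ A) (haZ : a ∉ Z)
    (hb : b ∈ B) (hbZ : b ∉ Z) (hz : z ∈ Z) (hz1 : z ≠ 1) :
    3 * Nat.card {x : G // IsConj z x} =
      Nat.card (CommClass z a) * Nat.card (CommClass z b) := by
  have ha2 : orderOf a = 2 := invol_of_mul_self (h.eA a ha) fun e => haZ (e ▸ one_mem _)
  have hb2 : orderOf b = 2 := invol_of_mul_self (h.eB b hb) fun e => hbZ (e ▸ one_mem _)
  have h1 := card_pairs_one (c := z) ha2 hb2 (h.not_conj_other hB ha hb hbZ)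
    (fun x y w hx hy hw => by
      have hx2 := (orderOf_eq_of_isConj hx).trans ha2
      have hy2 := (orderOf_eq_of_isConj hy).trans hb2
      rcases h.class_cases hTA hTB hTZ ha haZ hb hbZ hz hz1 hw.1 with e | e | e
      · exact absurd (hw.commute_right hx2 hy2) (h.no_comm hA hB ha haZ hb hbZ e hy)
      · exact absurd (hw.commute_left hx2 hy2).symm (h.no_comm hA hB ha haZ hb hbZ hx e)
      · exact e)
  have h2 := h.card_centre_Z hA hB hTB ha haZ hb hbZ hz hz1
  have h3 := card_commClass_mul a z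
  have h4 := card_commClass_mul b z
  haveI : Nonempty {x : G // IsConj a x} := ⟨⟨a, IsConj.refl a⟩⟩
  haveI : Nonempty {x : G // IsConj b x} := ⟨⟨b, IsConj.refl b⟩⟩
  have hU := Nat.card_pos (α := {x : G // IsConj a x})
  have hV := Nat.card_pos (α := {x : G // IsConj b x})
  set U := Nat.card {x : G // IsConj a x}
  set V := Nat.card {x : G // IsConj b x}
  set D := Nat.card {x : G // IsConj z x}
  set Na := Nat.card (CommClass z a)
  set Nb := Nat.card (CommClass z b)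
  set Ua := Nat.card (CommClass a z)
  set Vb := Nat.card (CommClass b z)
  set Q := Nat.card (CentrePairs a b z)
  refine Nat.eq_of_mul_eq_mul_left (Nat.mul_pos hU hV) ?_
  calc U * V * (3 * D) = D * D * (3 * Q) := by rw [h1]; ring
    _ = (D * Ua) * (D * Vb) := by rw [h2]; ring
    _ = (U * Na) * (V * Nb) := by rw [h3, h4]
    _ = U * V * (Na * Nb) := by ring

/-- The pairs in the classes of `a` and `z` all have centre in the class of `a`. -/
theorem card_centre_A (hA : SType A Z) (hB : SType B Z) (hTA : Tr (P : Subgroup G) A Z)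
    (hTB : Tr (P : Subgroup G) B Z) (hTZ : TrZ Z) {a b z : G} (ha : a ∈ A) (haZ : a ∉ Z)
    (hb : b ∈ B) (hbZ : b ∉ Z) (hz : z ∈ Z) (hz1 : z ≠ 1) :
    Nat.card (CentrePairs a z a) = Nat.card {x : G // IsConj z x} := by
  have ha2 : orderOf a = 2 := invol_of_mul_self (h.eA a ha) fun e => haZ (e ▸ one_mem _)
  have hz2 : orderOf z = 2 := invol_of_mul_self (h.eZ hz) hz1
  have h1 := card_pairs_one (c := a) ha2 hz2 (h.not_conj_Z hA ha haZ hz)
    (fun x y w hx hy hw => by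
      have hx2 := (orderOf_eq_of_isConj hx).trans ha2
      have hy2 := (orderOf_eq_of_isConj hy).trans hz2
      rcases h.class_cases hTA hTB hTZ ha haZ hb hbZ hz hz1 hw.1 with e | e | e
      · exact e
      · exact absurd (hw.commute_left hx2 hy2).symm (h.no_comm hA hB ha haZ hb hbZ hx e)
      exfalso
      obtain ⟨g, hg⟩ := isConj_iff.1 e.symm
      have hw' := hw.conj g
      rw [hg] at hw'
      have hx' : IsConj a (g * x * g⁻¹) := hx.trans (isConj_iff.2 ⟨g, rfl⟩)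
      have hy' : IsConj z (g * y * g⁻¹) := hy.trans (isConj_iff.2 ⟨g, rfl⟩)
      have hx2' := (orderOf_eq_of_isConj hx').trans ha2
      have hy2' := (orderOf_eq_of_isConj hy').trans hz2
      obtain ⟨s, hsP, -, hsc, hxs⟩ :=
        h.exists_bar hz hz1 hx2' (hw'.commute_left hx2' hy2').symm.eq
      obtain ⟨t, htP, -, htc, hyt⟩ :=
        h.exists_bar hz hz1 hy2' (hw'.commute_right hx2' hy2').symm.eq
      obtain ⟨hsA, hsZ⟩ := h.mem_of_conj hA hB ha haZ hsP (hx'.trans hsc)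
      have htZ := h.mem_Z_of_conj hA hB hz htP (hy'.trans htc)
      obtain ⟨k, hk, -⟩ :=
        h.centre_bar hz hsP htP (h.eA s hsA) (h.eZ htZ) hxs hyt hw'
      have hst : s * t ∈ A := mul_mem hsA (h.hZA htZ)
      have hzp : (s * t) ^ k = z :=
        (mul_inv_eq_one.1 (h.core_inf (z := z)
          (mul_mem (h.hZS hz) (inv_mem (h.hA (pow_mem hst k)))) hk)).symm
      rcases k.even_or_odd with ⟨j, rfl⟩ | ⟨j, rfl⟩
      · rw [← two_mul, pow_mul, pow_two, h.eA _ hst, one_pow] at hzp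
        exact hz1 hzp.symm
      · rw [pow_succ, pow_mul, pow_two, h.eA _ hst, one_pow, one_mul] at hzp
        exact hsZ ((mul_mem_cancel_right htZ).1 (hzp ▸ hz)))
  haveI : Nonempty {x : G // IsConj a x} := ⟨⟨a, IsConj.refl a⟩⟩
  exact (Nat.eq_of_mul_eq_mul_left Nat.card_pos h1).symm

/-- Pairs of central involutions with product of odd order in the centralizer of `a`. -/
theorem odd_pairs_le (hA : SType A Z) (hB : SType B Z) (hTA : Tr (P : Subgroup G) A Z)
    (hTB : Tr (P : Subgroup G) B Z) (hTZ : TrZ Z) {a b z : G} (ha : a ∈ A) (haZ : a ∉ Z)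
    (hb : b ∈ B) (hbZ : b ∉ Z) (hz : z ∈ Z) (hz1 : z ≠ 1) :
    Nat.card {p : CommClass z a × CommClass z a // Odd (orderOf ((p.1 : G) * p.2))} ≤
      Nat.card {x : G // IsConj z x} := by
  rw [← h.card_centre_A hA hB hTA hTB hTZ ha haZ hb hbZ hz hz1]
  have hz2 : orderOf z = 2 := invol_of_mul_self (h.eZ hz) hz1
  have ha2 : orderOf a = 2 := invol_of_mul_self (h.eA a ha) fun e => haZ (e ▸ one_mem _)
  have hU : ∀ y : CommClass z a, IsConj a (a * y) := by
    rintro ⟨y, hyc, hya⟩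
    have hy2 := invol_mul_self ((orderOf_eq_of_isConj hyc).trans hz2)
    obtain ⟨c, hca, hcy⟩ := h.conj_into hA ha haZ hy2 hya
    have hcZ : c * y * c⁻¹ ∈ Z :=
      h.mem_Z_of_conj hA hB hz (h.hA hcy) (hyc.trans (isConj_iff.2 ⟨c, rfl⟩))
    refine (hTA.isConj ha haZ (mul_mem ha (h.hZA hcZ))
      (fun e => haZ ((mul_mem_cancel_right hcZ).1 e))).trans (isConj_iff.2 ⟨c⁻¹, ?_⟩)
    rw [← mul_assoc a (c * y), ← mul_assoc a c y, ← hca]
    group
  refine Nat.card_le_card_of_injective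
    (fun p => ⟨(⟨a * p.1.2, hU p.1.2⟩, ⟨p.1.1, p.1.1.2.1⟩), ha2,
      orderOf ((p.1.1 : G) * p.1.2), ?_⟩) ?_
  · have hx2 := (orderOf_eq_of_isConj p.1.1.2.1).trans hz2
    have hy2 := (orderOf_eq_of_isConj p.1.2.2.1).trans hz2
    obtain ⟨m, hm⟩ := p.2
    show (a * (p.1.2 : G) * p.1.1) ^ orderOf ((p.1.1 : G) * p.1.2) = a
    rw [mul_assoc, (show Commute a ((p.1.2 : G) * p.1.1) from
      p.1.2.2.2.symm.mul_right p.1.1.2.2.symm).mul_pow, ← orderOf_mul_symm hx2 hy2,
      pow_orderOf_eq_one, orderOf_mul_symm hx2 hy2, mul_one, hm, pow_succ, pow_mul, pow_two,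
      invol_mul_self ha2, one_pow, one_mul]
  · rintro ⟨⟨⟨x, hx⟩, ⟨y, hy⟩⟩, hp⟩ ⟨⟨⟨x', hx'⟩, ⟨y', hy'⟩⟩, hp'⟩ e
    obtain rfl : x = x' := congrArg (fun q : CentrePairs a z a => (q.1.2 : G)) e
    obtain rfl : y = y' := mul_left_cancel (congrArg (fun q : CentrePairs a z a => (q.1.1 : G)) e)
    rfl

/-- Involutions of a core commuting with a given one. -/
theorem card_core_comm_le {w : G} {K : Subgroup G} (hK : SideCore A Z w K) {z x : G} (hz : z ∈ Z)
    (hz1 : z ≠ 1) (hxK : x ∈ K) (hx : orderOf x = 2) :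
    Nat.card {t : G // t ∈ K ∧ orderOf t = 2 ∧ Commute t x ∧ t ≠ x} ≤
      2 * (centralizer (Z : Set G)).relIndex (centralizer ({z} : Set G) ⊓ K) := by
  classical
  have := twoFact
  obtain ⟨T, hT⟩ := hK.sylow
  have hklein : IsKleinFour (T : Subgroup ↥K) := by
    have hc : Nat.card (T : Subgroup ↥K) = 4 := by
      rw [hT, Nat.card_congr (subgroupOfEquivOfLe hK.Z_le).toEquiv, h.cardZ]
    refine ⟨hc, ?_⟩
    haveI : Nontrivial (T : Subgroup ↥K) := Finite.one_lt_card_iff_nontrivial.1 (by omega)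
    refine (Monoid.exponent_eq_prime_iff Nat.prime_two).2 fun t ht => invol_of_mul_self (Subtype.ext ?_) ht
    have htZ : ((t : ↥K) : G) ∈ Z := mem_subgroupOf.1 (hT ▸ t.2)
    exact Subtype.ext (h.eZ htZ)
  -- reduce to `z`
  obtain ⟨g, hg⟩ := isConj_iff.1 (one_class_of_perfect T hklein hK.perfect
    ⟨z, hK.Z_le hz⟩ ⟨x, hxK⟩
    (by rw [Subgroup.orderOf_mk]; exact invol_of_mul_self (h.eZ hz) hz1)
    (by rw [Subgroup.orderOf_mk]; exact hx))
  have hgx : (g : G) * z * (g : G)⁻¹ = x := congrArg Subtype.val hg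
  refine le_trans (Nat.card_le_card_of_injective
    (β := {t : G // t ∈ K ∧ orderOf t = 2 ∧ Commute t z ∧ t ≠ z})
    (fun t => ⟨(g : G)⁻¹ * t * g, mul_mem (mul_mem (inv_mem g.2) t.2.1) g.2,
      (orderOf_conj_inv_eq _ _).trans t.2.2.1, ?_, ?_⟩) ?_) ?_
  · have := t.2.2.2.1.map (MulAut.conj (g : G)⁻¹).toMonoidHom
    simpa [← hgx, mul_assoc] using this
  · intro e
    exact t.2.2.2.2 (((by rw [← e]; group) : (t : G) = (g : G) * z * (g : G)⁻¹).trans hgx)
  · intro t t' e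
    exact Subtype.ext (by simpa using congrArg Subtype.val e)
  -- the Sylow subgroup of the centralizer of `z` in the core
  set z' : ↥K := ⟨z, hK.Z_le hz⟩
  have hTC : (T : Subgroup ↥K) ≤ centralizer ({z'} : Set ↥K) := fun s hs =>
    mem_centralizer_singleton_iff.2 (Subtype.ext
      (h.cen z hz s (h.hZS (mem_subgroupOf.1 (hT ▸ hs)))).symm)
  obtain ⟨z₁, hz₁, hz₁1, hz₁z⟩ : ∃ y ∈ Z, y ≠ 1 ∧ y ≠ z := by
    by_contra hcon
    push Not at hcon
    have hle : (Z : Set G) ⊆ {1, z} := fun y hy => by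
      by_cases hy1 : y = 1
      · exact Or.inl hy1
      · exact Or.inr (hcon y hy hy1)
    have := Set.ncard_le_ncard hle
    rw [← Nat.card_coe_set_eq, SetLike.coe_sort_coe, h.cardZ] at this
    have := (Set.ncard_insert_le (1 : G) {z}).trans (by rw [Set.ncard_singleton])
    omega
  set C := centralizer ({z} : Set G) ⊓ K with hC
  set H := (centralizer (Z : Set G)).subgroupOf C
  have hidx : H.index = (centralizer (Z : Set G)).relIndex C := rfl
  let zi : Fin 2 → G := ![z₁, z * z₁]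
  have hzi : ∀ i, zi i ∈ Z := by
    intro i
    fin_cases i
    · exact hz₁
    · exact mul_mem hz hz₁
  refine le_trans (Nat.card_le_card_of_surjective
    (α := Fin 2 × (↥C ⧸ H))
    (fun p => ⟨(p.2.out : G) * zi p.1 * (p.2.out : G)⁻¹, ?_, ?_, ?_, ?_⟩) ?_) ?_
  · exact mul_mem (mul_mem p.2.out.2.2 (hK.Z_le (hzi p.1))) (inv_mem p.2.out.2.2)
  · rw [orderOf_conj_eq]
    refine invol_of_mul_self (h.eZ (hzi p.1)) ?_
    rcases p with ⟨i, q⟩
    fin_cases i
    · exact hz₁1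
    · exact fun e => hz₁z (by
        have e' : z * z₁ = z * z := by rw [h.eZ hz]; exact e
        exact mul_left_cancel e')
  · have hcz : Commute (p.2.out : G) z := mem_centralizer_singleton_iff.1 p.2.out.2.1
    exact ((hcz.mul_left (h.cen z hz _ (h.hZS (hzi p.1))).symm).mul_left hcz.inv_left)
  · intro e
    have hcz : Commute (p.2.out : G) z := mem_centralizer_singleton_iff.1 p.2.out.2.1
    have e2 : zi p.1 = z := by
      have := mul_inv_eq_iff_eq_mul.1 e
      rw [← hcz.eq] at this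
      exact mul_left_cancel this
    rcases p with ⟨i, q⟩
    fin_cases i
    · exact hz₁z e2
    · exact hz₁1 (mul_eq_left.1 (show z * z₁ = z from e2))
  · rintro ⟨t, htK, ht2, htz, htne⟩
    obtain ⟨c, hc⟩ := exists_conj_invol_mem_sylow (T.subtype hTC)
      (x := (⟨⟨t, htK⟩, mem_centralizer_singleton_iff.2 (Subtype.ext htz.eq)⟩ :
        ↥(centralizer ({z'} : Set ↥K))))
      (by rw [Subgroup.orderOf_mk, Subgroup.orderOf_mk]; exact ht2)
    have hcT : (c : ↥K) * ⟨t, htK⟩ * (c : ↥K)⁻¹ ∈ (T : Subgroup ↥K) := hc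
    rw [hT] at hcT
    set cc := ((c : ↥K) : G)
    have hcZ : cc * t * cc⁻¹ ∈ Z := hcT
    have hccz : Commute cc z := congrArg Subtype.val (mem_centralizer_singleton_iff.1 c.2)
    have hne1 : cc * t * cc⁻¹ ≠ 1 := fun e => invol_ne_one ht2 (conj_eq_one_iff.1 e)
    have hnez : cc * t * cc⁻¹ ≠ z := fun e => htne (by
      have := mul_inv_eq_iff_eq_mul.1 e
      rw [← hccz.eq] at this
      exact mul_left_cancel this)
    obtain ⟨i, hi⟩ : ∃ i : Fin 2, zi i = cc * t * cc⁻¹ := by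
      rcases h.Z_cases_SS hz hz₁ hcZ hz1 hz₁1 hz₁z with e | e | e | e
      · exact absurd e hne1
      · exact absurd e hnez
      · exact ⟨0, e.symm⟩
      · exact ⟨1, e.symm⟩
    have hccC : cc⁻¹ ∈ C :=
      mem_inf.2 ⟨mem_centralizer_singleton_iff.2 hccz.inv_left.eq,
        inv_mem (show cc ∈ K from (c : ↥K).2)⟩
    refine ⟨(i, QuotientGroup.mk (⟨cc⁻¹, hccC⟩ : ↥C)), Subtype.ext ?_⟩
    obtain ⟨e, he⟩ := QuotientGroup.mk_out_eq_mul H (⟨cc⁻¹, hccC⟩ : ↥C)
    show ((QuotientGroup.mk (⟨cc⁻¹, hccC⟩ : ↥C) : ↥C ⧸ H).out : G) * zi i * _⁻¹ = t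
    rw [he]
    have hez : ((e : ↥C) : G) * zi i = zi i * ((e : ↥C) : G) :=
      (mem_centralizer_iff.1 (mem_subgroupOf.1 e.2) _ (hzi i)).symm
    push_cast
    rw [show cc⁻¹ * ((e : ↥C) : G) * zi i * (cc⁻¹ * ((e : ↥C) : G))⁻¹ =
      cc⁻¹ * (((e : ↥C) : G) * zi i * ((e : ↥C) : G)⁻¹) * cc by group, hez,
      mul_inv_cancel_right, hi]
    group
  · rw [Nat.card_prod, Nat.card_fin, ← Subgroup.index_eq_card, hidx]

/-- A non-solvable centralizer has fewer central involutions than the other one. -/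
theorem card_lt_of_not_solvable (hA : SType A Z) (hB : SType B Z) (hTA : Tr (P : Subgroup G) A Z)
    (hTB : Tr (P : Subgroup G) B Z) (hTZ : TrZ Z) {a b z : G} (ha : a ∈ A) (haZ : a ∉ Z)
    (hb : b ∈ B) (hbZ : b ∉ Z) (hz : z ∈ Z) (hz1 : z ≠ 1)
    (hns : ¬ Group.IsSolvable ↥(centralizer ({a} : Set G))) :
    Nat.card (CommClass z a) < Nat.card (CommClass z b) := by
  classical
  have := twoFact
  obtain ⟨K, hK⟩ := h.exists_sideCore hA ha haZ hns
  obtain ⟨T, hT⟩ := hK.sylow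
  have hz2 : orderOf z = 2 := invol_of_mul_self (h.eZ hz) hz1
  have hklein : IsKleinFour (T : Subgroup ↥K) := by
    have hc : Nat.card (T : Subgroup ↥K) = 4 := by
      rw [hT, Nat.card_congr (subgroupOfEquivOfLe hK.Z_le).toEquiv, h.cardZ]
    refine ⟨hc, ?_⟩
    haveI : Nontrivial (T : Subgroup ↥K) := Finite.one_lt_card_iff_nontrivial.1 (by omega)
    refine (Monoid.exponent_eq_prime_iff Nat.prime_two).2 fun t ht => invol_of_mul_self (Subtype.ext ?_) ht
    have htZ : ((t : ↥K) : G) ∈ Z := mem_subgroupOf.1 (hT ▸ t.2)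
    exact Subtype.ext (h.eZ htZ)
  set z' : ↥K := ⟨z, hK.Z_le hz⟩
  set k := (centralizer (Z : Set G)).relIndex (centralizer ({z} : Set G) ⊓ K) with hk
  have hone := one_class_of_perfect T hklein hK.perfect
  have hmemK : ∀ x : CommClass z a, (x : G) ∈ K ∧ orderOf (x : G) = 2 := fun x =>
    ⟨h.mem_core_of_conj hA ha haZ hK hz x.2.1 x.2.2.eq, (orderOf_eq_of_isConj x.2.1).trans hz2⟩
  have hN : Nat.card (CommClass z a) = Nat.card {x : ↥K // orderOf x = 2} :=
    Nat.card_congr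
      { toFun := fun x => ⟨⟨x, (hmemK x).1⟩, by rw [Subgroup.orderOf_mk]; exact (hmemK x).2⟩
        invFun := fun x => ⟨((x : ↥K) : G),
          MonoidHom.map_isConj K.subtype (hone z' x (by rw [Subgroup.orderOf_mk]; exact hz2) x.2),
          mem_centralizer_singleton_iff.1 (hK.le (x : ↥K).2)⟩
        left_inv := fun x => rfl
        right_inv := fun x => rfl }
  have hlow : 6 * k ^ 2 < Nat.card (CommClass z a) := by
    rw [hN]
    refine (four_sylow_invol_bounds T hklein hK.perfect z' (by rw [hT]; exact hz)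
      (by rw [Subgroup.orderOf_mk]; exact hz2) k ?_).1
    have e1 : centralizer ((T : Subgroup ↥K) : Set ↥K) =
        (centralizer (Z : Set G)).subgroupOf K := by
      ext x
      constructor
      · intro hx
        refine mem_subgroupOf.2 (mem_centralizer_iff.2 fun y hy => ?_)
        exact congrArg Subtype.val
          (mem_centralizer_iff.1 hx ⟨y, hK.Z_le hy⟩ (by rw [SetLike.mem_coe, hT]; exact hy))
      · intro hx
        refine mem_centralizer_iff.2 fun y hy => Subtype.ext ?_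
        rw [SetLike.mem_coe, hT] at hy
        exact mem_centralizer_iff.1 (mem_subgroupOf.1 hx) _ hy
    have e2 : centralizer ({z'} : Set ↥K) = (centralizer ({z} : Set G)).subgroupOf K := by
      ext x
      rw [mem_subgroupOf, mem_centralizer_singleton_iff, mem_centralizer_singleton_iff,
        Subtype.ext_iff]
      rfl
    rw [e1, e2, hk]
    exact ((relIndex_comap (centralizer (Z : Set G)) K.subtype _).trans
      (by rw [subgroupOf_map_subtype])).symm
  set D := CommClass z a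
  let S : G → Type u := fun x => {t : G // t ∈ K ∧ orderOf t = 2 ∧ Commute t x ∧ t ≠ x}
  have hS : ∀ x, x ∈ K → orderOf x = 2 → Nat.card (S x) ≤ 2 * k := fun x hxK hx2 =>
    h.card_core_comm_le hK hz hz1 hxK hx2
  have heven : Nat.card {p : D × D // ¬ Odd (orderOf ((p.1 : G) * p.2))} ≤
      Nat.card D * (2 * k * (2 * k)) := by
    let W : Type u := (x : D) × (t : S x) × S (t : G)
    have hp : ∀ p : {p : D × D // ¬ Odd (orderOf ((p.1 : G) * p.2))},
        ∃ t : G, t ∈ K ∧ orderOf t = 2 ∧ (Commute t p.1.1 ∧ t ≠ p.1.1) ∧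
          (Commute t p.1.2 ∧ t ≠ p.1.2) := by
      rintro ⟨⟨x, y⟩, hp⟩
      obtain ⟨hxK, hx2⟩ := hmemK x
      obtain ⟨hyK, hy2⟩ := hmemK y
      have hev := Nat.not_odd_iff_even.1 hp
      set t := ((x : G) * y) ^ (orderOf ((x : G) * y) / 2) with htdef
      have ht : Centre t ((x : G), (y : G)) := ⟨orderOf_pow_half hev, _, rfl⟩
      have hkey : ∀ q : G, (q = x ∨ q = y) → t ≠ q := by
        intro q hq e
        have hxy : Commute (x : G) y := by
          rcases hq with rfl | rfl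
          · exact e ▸ ht.commute_right hx2 hy2
          · exact (e ▸ ht.commute_left hx2 hy2).symm
        have h2 : ((x : G) * y) ^ 2 = 1 := by
          rw [hxy.mul_pow, pow_two, pow_two, invol_mul_self hx2, invol_mul_self hy2, mul_one]
        rcases (Nat.dvd_prime Nat.prime_two).1 (orderOf_dvd_of_pow_eq_one h2) with h3 | h3
        · rw [h3] at hev
          exact absurd hev (by decide)
        · rw [htdef, h3, show 2 / 2 = 1 from rfl, pow_one] at e
          rcases hq with rfl | rfl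
          · exact invol_ne_one hy2 (mul_eq_left.1 e)
          · exact invol_ne_one hx2 (mul_eq_right.1 e)
      exact ⟨t, pow_mem (mul_mem hxK hyK) _, ht.1, ⟨ht.commute_left hx2 hy2, hkey _ (Or.inl rfl)⟩,
        ht.commute_right hx2 hy2, hkey _ (Or.inr rfl)⟩
    choose τ hτK hτ2 hτx hτy using hp
    refine le_trans (Nat.card_le_card_of_injective (β := W)
      (fun p => ⟨p.1.1, ⟨τ p, hτK p, hτ2 p, hτx p⟩, ⟨p.1.2, (hmemK p.1.2).1, (hmemK p.1.2).2,
        (hτy p).1.symm, (hτy p).2.symm⟩⟩) ?_) ?_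
    · intro p q e
      exact Subtype.ext (Prod.ext (congrArg Sigma.fst e)
        (Subtype.ext (congrArg (fun w : W => (w.2.2 : G)) e)))
    · haveI : Fintype D := Fintype.ofFinite _
      rw [Nat.card_sigma, Nat.card_eq_fintype_card, ← Finset.card_univ, ← smul_eq_mul]
      refine Finset.sum_le_card_nsmul _ _ _ fun x _ => ?_
      haveI : Fintype (S (x : G)) := Fintype.ofFinite _
      rw [Nat.card_sigma]
      refine (Finset.sum_le_card_nsmul (Finset.univ : Finset (S (x : G))) _ (2 * k)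
        fun (t : S (x : G)) _ => hS (Subtype.val t) t.2.1 t.2.2.1).trans ?_
      rw [Finset.card_univ, ← Nat.card_eq_fintype_card, smul_eq_mul]
      exact Nat.mul_le_mul_right _ (hS x (hmemK x).1 (hmemK x).2)
  have hsplit : Nat.card D * Nat.card D =
      Nat.card {p : D × D // Odd (orderOf ((p.1 : G) * p.2))} +
        Nat.card {p : D × D // ¬ Odd (orderOf ((p.1 : G) * p.2))} := by
    rw [← Nat.card_sum, Nat.card_congr (Equiv.sumCompl _), Nat.card_prod]
  have hodd := h.odd_pairs_le hA hB hTA hTB hTZ ha haZ hb hbZ hz hz1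
  have h3 := h.three_mul_card hA hB hTA hTB hTZ ha haZ hb hbZ hz hz1
  haveI : Nonempty D :=
    ⟨⟨z, IsConj.refl z, h.cen z hz a (h.hA ha)⟩⟩
  have hpos := Nat.card_pos (α := D)
  set N := Nat.card D
  set N' := Nat.card (CommClass z b)
  by_contra hle
  push Not at hle
  nlinarith [mul_lt_mul_of_pos_left hlow hpos, Nat.mul_le_mul_left N hle]

/-- A solvable centralizer has no more central involutions than the other one. -/
theorem card_le_of_solvable (hA : SType A Z) (hB : SType B Z) (hTA : Tr (P : Subgroup G) A Z)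
    (hTB : Tr (P : Subgroup G) B Z) (hTZ : TrZ Z) {a b z : G} (ha : a ∈ A) (haZ : a ∉ Z)
    (hb : b ∈ B) (hbZ : b ∉ Z) (hz : z ∈ Z) (hz1 : z ≠ 1)
    (hsol : Group.IsSolvable ↥(centralizer ({a} : Set G))) :
    Nat.card (CommClass z a) ≤ Nat.card (CommClass z b) := by
  classical
  have hz2 : orderOf z = 2 := invol_of_mul_self (h.eZ hz) hz1
  set O := Cfsg.centralizerPPrimeCore 2 a
  set D := CommClass z a
  have hφ : ∀ x : D, ∃ y : {y : G // y ∈ Z ∧ y ≠ 1}, (x : G) * y ∈ O := by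
    rintro ⟨x, hxc, hxa⟩
    have hx2 := (orderOf_eq_of_isConj hxc).trans hz2
    obtain ⟨c, hca, hcA⟩ := h.conj_into hA ha haZ (invol_mul_self hx2) hxa
    have hcZ : c * x * c⁻¹ ∈ Z :=
      h.mem_Z_of_conj hA hB hz (h.hA hcA) (hxc.trans (isConj_iff.2 ⟨c, rfl⟩))
    have hnorm : normalizer (A : Set G) ⊓ centralizer ({a} : Set G) ≤
        normalizer (O : Set G) := fun n hn => by
      refine mem_normalizer_iff.2 fun v => ⟨fun hv =>
        core_conj (mem_centralizer_singleton_iff.1 hn.2) hv, fun hv => ?_⟩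
      have := core_conj (mem_centralizer_singleton_iff.1 (inv_mem hn.2)) hv
      simpa [mul_assoc] using this
    have hmem := h.cent_solvable_le hA ha haZ hsol
      (inv_mem (mem_centralizer_singleton_iff.2 hca : c ∈ centralizer ({a} : Set G)))
    rw [← SetLike.mem_coe, Subgroup.coe_mul_of_right_le_normalizer_left O _ hnorm] at hmem
    obtain ⟨o, ho, n, hn, hon⟩ := hmem
    set z' := n * (c * x * c⁻¹) * n⁻¹ with hz'
    have hz'Z : z' ∈ Z := conj_mem_of_normalizer (hA hn.1) hcZ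
    have hxz' : x = o * z' * o⁻¹ := by
      rw [hz', show o * (n * (c * x * c⁻¹) * n⁻¹) * o⁻¹ =
        o * n * (c * x * c⁻¹) * (o * n)⁻¹ by group, show o * n = c⁻¹ from hon]
      group
    refine ⟨⟨z', hz'Z, fun e => invol_ne_one hx2 (by rw [hxz', e]; group)⟩, ?_⟩
    show x * z' ∈ O
    rw [hxz', show o * z' * o⁻¹ * z' = o * (z' * o⁻¹ * z'⁻¹) * (z' * z') by group, h.eZ hz'Z,
      mul_one]
    exact mul_mem ho (core_conj (h.cen z' hz'Z a (h.hA ha)) (inv_mem ho))
  choose φ hφ using hφ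
  haveI : Fintype D := Fintype.ofFinite _
  haveI : Fintype {y : G // y ∈ Z ∧ y ≠ 1} := Fintype.ofFinite _
  haveI : Nonempty D := ⟨⟨z, IsConj.refl z, h.cen z hz a (h.hA ha)⟩⟩
  have hcard3 : Fintype.card {y : G // y ∈ Z ∧ y ≠ 1} = 3 := by
    rw [← Nat.card_eq_fintype_card,
      show Nat.card {y : G // y ∈ Z ∧ y ≠ 1} = Nat.card ↥((Z : Set G) \ {1}) from rfl,
      Nat.card_coe_set_eq, Set.ncard_sdiff_singleton_of_mem (SetLike.mem_coe.2 (one_mem Z)),
      ← Nat.card_coe_set_eq, SetLike.coe_sort_coe, h.cardZ]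
  have hle : (∑ y, Nat.card {x : D // φ x = y} * Nat.card {x : D // φ x = y}) ≤
      Nat.card {p : D × D // Odd (orderOf ((p.1 : G) * p.2))} := by
    rw [← Finset.sum_congr rfl fun y _ => Nat.card_prod {x : D // φ x = y} {x : D // φ x = y},
      ← Nat.card_sigma]
    refine Nat.card_le_card_of_injective
      (fun q => ⟨((q.2.1 : D), (q.2.2 : D)), Odd.of_dvd_nat ?_ dvd_rfl⟩) ?_
    · obtain ⟨y, ⟨x, hx⟩, ⟨x', hx'⟩⟩ := q
      have h1 := hφ x
      have h2 := hφ x'
      rw [hx] at h1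
      rw [hx'] at h2
      have hx'2 := invol_mul_self ((orderOf_eq_of_isConj x'.2.1).trans hz2)
      refine core_odd (z := a) ?_
      show (x : G) * x' ∈ O
      rw [show (x : G) * x' = (x : G) * y * ((x' : G) * y)⁻¹ by
        rw [mul_inv_rev, ← mul_assoc, mul_inv_cancel_right,
          inv_eq_of_mul_eq_one_right hx'2]]
      exact mul_mem h1 (inv_mem h2)
    · rintro ⟨y, ⟨x, hx⟩, ⟨x', hx'⟩⟩ ⟨y', ⟨w, hw⟩, ⟨w', hw'⟩⟩ e
      obtain ⟨rfl, rfl⟩ := Prod.mk.inj (congrArg Subtype.val e)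
      obtain rfl : y = y' := hx.symm.trans hw
      rfl
  have hsum : (∑ y, Nat.card {x : D // φ x = y}) = Nat.card D := by
    rw [← Nat.card_sigma]
    exact Nat.card_congr (Equiv.sigmaFiberEquiv φ)
  have hcs := sq_sum_le_card_mul_sum_sq (s := (Finset.univ : Finset {y : G // y ∈ Z ∧ y ≠ 1}))
    (f := fun y => Nat.card {x : D // φ x = y})
  rw [hsum, Finset.card_univ, hcard3] at hcs
  simp only [pow_two] at hcs
  have hodd := h.odd_pairs_le hA hB hTA hTB hTZ ha haZ hb hbZ hz hz1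
  have h3 := h.three_mul_card hA hB hTA hTB hTZ ha haZ hb hbZ hz hz1
  have h4 : Nat.card D * Nat.card D ≤ Nat.card D * Nat.card (CommClass z b) := by
    rw [← h3]
    exact hcs.trans (Nat.mul_le_mul_left 3 (hle.trans hodd))
  exact Nat.le_of_mul_le_mul_left h4 Nat.card_pos

omit h in
/-- The normalizer of the Sylow subgroup fixes the cosets when some centralizer of an involution
outside the centre is not solvable. -/
theorem ss_count (h : Shape (P : Subgroup G) A B Z) (hA : SType A Z) (hB : SType B Z) {u : G}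
    (hu : u ∈ A) (huZ : u ∉ Z) (hns : ¬ Group.IsSolvable ↥(centralizer ({u} : Set G)))
    (hT : ∃ n ∈ normalizer ((P : Subgroup G) : Set G), Odd (orderOf n) ∧ ∃ y ∈ A, ¬ Fixes Z n y) :
    False := by
  obtain ⟨hTA, hTB, hTZ⟩ := h.exists_trans hA hu huZ hns hT
  obtain ⟨z, hz, hz1⟩ := h.exists_Z_ne_one_SS
  obtain ⟨v, hv, hvZ⟩ := h.symm.exists_A_not_Z
  have h1 := h.card_lt_of_not_solvable hA hB hTA hTB hTZ hu huZ hv hvZ hz hz1 hns
  by_cases hsol : Group.IsSolvable ↥(centralizer ({v} : Set G))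
  · exact absurd (h.symm.card_le_of_solvable hB hA hTB hTA hTZ hv hvZ hu huZ hz hz1 hsol)
      (not_le.2 h1)
  · exact lt_asymm h1 (h.symm.card_lt_of_not_solvable hB hA hTB hTA hTZ hv hvZ hu huZ hz hz1 hsol)

end Shape

end CfsgLib.SylL34
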