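import Cfsg.Agent.Lib.SylLThreeFour.SSParts

/-!
Both subgroups of order 16 normalize the centre and the normalizer of the Sylow subgroup fixes the
cosets in one of them: the centralizers of the involutions of that subgroup are solvable.
-/

set_option autoImplicit false

namespace CfsgLib.SylL34

open Subgroup CfsgLib.Recog.LThreeFour CfsgLib.Invol

universe u

variable {G : Type u} [Group G] [Finite G]

namespace Shape

variable {P : Sylow 2 G} {A B Z : Subgroup G} (h : Shape (P : Subgroup G) A B Z)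
include h

/-- With trivial action on the cosets in `A`, odd elements normalizing `B` and fixing one
involution of `B` centralize it. -/
theorem cent_B_of_trivial (hA : SType A Z) (hB : SType B Z)
    (hall : ∀ n ∈ normalizer ((P : Subgroup G) : Set G), Odd (orderOf n) → ∀ y ∈ A, Fixes Z n y)
    {e x : G} (hodd : Odd (orderOf e)) (heB : e ∈ normalizer (B : Set G)) (hx : x ∈ B) (hx1 : x ≠ 1)
    (hex : e * x = x * e) {b : G} (hb : b ∈ B) : e * b = b * e := by
  have := twoFact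
  obtain ⟨u, hu, huZ⟩ := h.exists_A_not_Z
  by_cases hxZ : x ∈ Z
  · -- inside the centralizer of a central involution
    obtain ⟨O, hO_le, hOodd, hOn⟩ : ∃ O : Subgroup G, O ≤ centralizer ({x} : Set G) ∧
        Odd (Nat.card O) ∧ O = Cfsg.centralizerPPrimeCore 2 x :=
      ⟨_, core_le_centralizer x, CfsgLib.InvChar.ConstrainedSignalizer.odd_core x, rfl⟩
    have hCn : centralizer ({x} : Set G) ≤ normalizer (O : Set G) := fun c hc => by
      rw [hOn]
      exact CfsgLib.InvChar.ConstrainedSignalizer.le_normalizer_core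
        (mem_centralizer_singleton_iff.1 hc).symm
    have hle : O ⊔ (normalizer ((P : Subgroup G) : Set G) ⊓ centralizer ({x} : Set G)) ≥
        centralizer ({x} : Set G) := hOn ▸ h.cent_Z_le hxZ hx1
    have hmem := hle (mem_centralizer_singleton_iff.2 hex)
    rw [← SetLike.mem_coe, Subgroup.coe_mul_of_right_le_normalizer_left O _
      (inf_le_right.trans hCn)] at hmem
    obtain ⟨o, ho, m, hm, rfl⟩ := hmem
    obtain ⟨hmP, hmx⟩ := mem_inf.1 (SetLike.mem_coe.1 hm)
    have hmB := h.symm.normalizer_le_A hmP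
    have hoB : o ∈ normalizer (B : Set G) := by
      have := mul_mem heB (inv_mem hmB)
      rwa [mul_inv_cancel_right] at this
    have hob : ∀ b ∈ B, o * b = b * o := fun b hb => by
      have h1 : o * b * o⁻¹ * b⁻¹ ∈ B := mul_mem (conj_mem_of_normalizer hoB hb) (inv_mem hb)
      have h2 : o * b * o⁻¹ * b⁻¹ ∈ O := by
        rw [show o * b * o⁻¹ * b⁻¹ = o * (b * o⁻¹ * b⁻¹) by group]
        exact mul_mem ho (conj_mem_of_normalizer
          (hCn (mem_centralizer_singleton_iff.2 (comm_of_sq h.eB hb hx))) (inv_mem ho))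
      have h3 : o * b * o⁻¹ * b⁻¹ = 1 := by
        rw [← orderOf_eq_one_iff]
        have d1 : orderOf (o * b * o⁻¹ * b⁻¹) ∣ 2 :=
          orderOf_dvd_of_pow_eq_one (by rw [pow_two]; exact h.eB _ h1)
        have d2 := Subgroup.orderOf_dvd_natCard O h2
        rcases (Nat.dvd_prime Nat.prime_two).1 d1 with e | e
        · exact e
        · rw [e] at d2; exact absurd (even_iff_two_dvd.2 d2) (Nat.not_even_iff_odd.2 hOodd)
      rwa [mul_inv_eq_one, mul_inv_eq_iff_eq_mul] at h3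
    obtain ⟨s, hs, f, hfm, hfn, hfodd, rfl⟩ := exists_odd_part P hmP
    have hfx : f * x = x * f := mem_centralizer_singleton_iff.1 ((zpowers_le.2 hmx) hfm)
    have hfZ : ∀ y ∈ Z, f * y = y * f := fun y hy =>
      h.fix_Z hfodd (h.normalizer_le_Z hfn) hxZ hx1 hfx hy
    have hfb : ∀ b ∈ B, f * b = b * f := fun b hb =>
      h.symm.cent_of_fixes hfodd (h.symm.normalizer_le_A hfn) hfZ hb
        (h.fix_other (h.symm.normalizer_le_A hfn) hfZ hu huZ (hall f hfn hfodd u hu) hb)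
    -- `e` acts on `B` as the element `s` of the Sylow subgroup
    have hact : ∀ b ∈ B, o * (s * f) * b * (o * (s * f))⁻¹ = s * b * s⁻¹ := fun b hb => by
      calc o * (s * f) * b * (o * (s * f))⁻¹ = o * (s * (f * b * f⁻¹) * s⁻¹) * o⁻¹ := by group
        _ = o * (s * b * s⁻¹) * o⁻¹ := by rw [hfb b hb, mul_inv_cancel_right]
        _ = s * b * s⁻¹ := by rw [hob _ (h.symm.A_normal hs hb), mul_inv_cancel_right]
    have hsq : Commute ((o * (s * f)) ^ 2) b := by
      refine mul_inv_eq_iff_eq_mul.1 ?_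
      calc (o * (s * f)) ^ 2 * b * ((o * (s * f)) ^ 2)⁻¹ =
            o * (s * f) * (o * (s * f) * b * (o * (s * f))⁻¹) * (o * (s * f))⁻¹ := by
              rw [pow_two]; group
        _ = s * (s * b * s⁻¹) * s⁻¹ := by rw [hact b hb, hact _ (h.symm.A_normal hs hb)]
        _ = s * s * b * (s * s)⁻¹ := by group
        _ = b := by rw [h.cen _ (h.sq_mem hs) b (h.hB hb), mul_inv_cancel_right]
    obtain ⟨k, hk⟩ := pow_sq_eq hodd
    have := Commute.pow_left hsq k
    rwa [hk] at this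
  · -- outside the centre
    have heZ := hB heB
    have hfx : Fixes Z e x := by
      unfold Fixes; rw [hex, mul_inv_cancel_right, inv_mul_cancel]; exact one_mem _
    have hfall : ∀ y ∈ B, Fixes Z e y := fun y hy => h.symm.fix_coset hodd heB heZ hx hxZ hfx hy
    refine h.symm.cent_of_fixes hodd heB (fun y hy => ?_) hb (hfall b hb)
    by_contra hey
    -- otherwise some element of the normalizer acts trivially on both families of cosets
    let K0 : Subgroup G :=
      { carrier := {g | g ∈ normalizer (B : Set G) ∧ ∀ y ∈ B, Fixes Z g y}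
        mul_mem' := fun {g k} hg hk =>
          ⟨mul_mem hg.1 hk.1, fun y hy => Fixes.mul (hB hg.1) (hg.2 y hy) (hk.2 y hy)⟩
        one_mem' := ⟨one_mem _, fun y _ => Fixes.one y⟩
        inv_mem' := fun {g} hg => by
          refine ⟨inv_mem hg.1, fun y hy => ?_⟩
          have e : g⁻¹ = g ^ (orderOf g - 1) := inv_eq_of_mul_eq_one_right (by
            rw [← pow_succ', Nat.sub_add_cancel (orderOf_pos g), pow_orderOf_eq_one])
          rw [e]
          exact Fixes.pow (hB hg.1) (hg.2 y hy) _ }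
    have hPK : (P : Subgroup G) ≤ K0 := fun s hs => ⟨h.symm.S_le_normalizer hs, fun y hy => by
      obtain ⟨b, hb, a, ha, rfl⟩ := h.symm.exists_mul hs
      refine Fixes.mul (hB (h.symm.S_le_normalizer (h.hB hb))) ?_ ?_
      · unfold Fixes
        rw [comm_of_sq h.eB hb hy, mul_inv_cancel_right, inv_mul_cancel]
        exact one_mem _
      · unfold Fixes
        rw [show y⁻¹ * (a * y * a⁻¹) = y⁻¹ * (y * a * y⁻¹ * a⁻¹)⁻¹ * y by group,
          mul_assoc, h.cen _ (inv_mem (h.symm.comm y hy a ha)) y (h.hB hy), inv_mul_cancel_left]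
        exact inv_mem (h.symm.comm y hy a ha)⟩
    have hKZ : K0 ≤ normalizer (Z : Set G) := fun g hg => hB hg.1
    obtain ⟨m, hm, hmK, l, hl, hml⟩ := frattini P (M := K0) (N := centralizer (Z : Set G) ⊓ K0)
      (le_inf (fun s hs => mem_centralizer_iff.2 fun z hz => h.cen z hz s hs) hPK) inf_le_right
      (fun g hg => by
        refine mem_normalizer_iff.2 fun c => ?_
        have key : ∀ g ∈ K0, ∀ c ∈ centralizer (Z : Set G) ⊓ K0,
            g * c * g⁻¹ ∈ centralizer (Z : Set G) ⊓ K0 := by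
          intro g hg c hc
          refine mem_inf.2 ⟨mem_centralizer_iff.2 fun z hz => ?_,
            mul_mem (mul_mem hg (mem_inf.1 hc).2) (inv_mem hg)⟩
          have hz' := conj_mem_of_normalizer (inv_mem (hKZ hg)) (SetLike.mem_coe.1 hz)
          rw [inv_inv] at hz'
          calc z * (g * c * g⁻¹) = g * ((g⁻¹ * z * g) * c) * g⁻¹ := by group
            _ = g * (c * (g⁻¹ * z * g)) * g⁻¹ := by
              rw [mem_centralizer_iff.1 (mem_inf.1 hc).1 _ hz']
            _ = g * c * g⁻¹ * z := by group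
        refine ⟨key g hg c, fun hc => ?_⟩
        have := key g⁻¹ (inv_mem hg) _ hc
        rwa [show g⁻¹ * (g * c * g⁻¹) * g⁻¹⁻¹ = c by group] at this)
      (g := e) ⟨heB, hfall⟩
    obtain ⟨s, hs, f, hfm, hfn, hfodd, rfl⟩ := exists_odd_part P hm
    have hfK : f ∈ K0 := (zpowers_le.2 hmK) hfm
    -- acting trivially on both, it centralizes the commutators
    obtain ⟨b₀, hb₀, hb₀Z⟩ := h.symm.exists_A_not_Z
    obtain ⟨a₁, ha₁, hya⟩ := h.symm.exists_move hb₀ hb₀Z hy
    set c₁ := b₀⁻¹ * (f * b₀ * f⁻¹) with hc₁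
    set d₁ := a₁⁻¹ * (f * a₁ * f⁻¹) with hd₁
    have hc₁Z : c₁ ∈ Z := hfK.2 b₀ hb₀
    have hd₁Z : d₁ ∈ Z := hall f hfn hfodd a₁ ha₁
    have hfy : f * y = y * f := by
      refine mul_inv_eq_iff_eq_mul.1 ?_
      have e2 : f * y * f⁻¹ = (b₀ * c₁)⁻¹ * ((a₁ * d₁) * (b₀ * c₁) * (a₁ * d₁)⁻¹) := by
        rw [hc₁, hd₁, mul_inv_cancel_left, mul_inv_cancel_left,
          show y = b₀⁻¹ * (a₁ * b₀ * a₁⁻¹) by rw [hya, inv_mul_cancel_left]]
        group
      rw [e2, show (b₀ * c₁)⁻¹ * ((a₁ * d₁) * (b₀ * c₁) * (a₁ * d₁)⁻¹) =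
        c₁⁻¹ * b₀⁻¹ * a₁ * (d₁ * (b₀ * c₁)) * d₁⁻¹ * a₁⁻¹ by group,
        h.cen _ hd₁Z _ (mul_mem (h.hB hb₀) (h.hZS hc₁Z)),
        show c₁⁻¹ * b₀⁻¹ * a₁ * (b₀ * c₁ * d₁) * d₁⁻¹ * a₁⁻¹ =
          c₁⁻¹ * b₀⁻¹ * (a₁ * b₀) * (c₁ * a₁⁻¹) by group,
        h.cen _ hc₁Z _ (inv_mem (h.hA ha₁)),
        show c₁⁻¹ * b₀⁻¹ * (a₁ * b₀) * (a₁⁻¹ * c₁) = c₁⁻¹ * (b₀⁻¹ * (a₁ * b₀ * a₁⁻¹)) * c₁ by group,
        hya, inv_mul_cancel_left, mul_assoc, h.cen y hy _ (h.hZS hc₁Z), inv_mul_cancel_left]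
    refine hey ?_
    have hly : l * y = y * l := ((mem_centralizer_iff.1 (mem_inf.1 hl).1) y hy).symm
    rw [hml, mul_assoc, hly, ← mul_assoc, mul_assoc s f y, hfy, ← mul_assoc s y f,
      ← h.cen y hy s hs]
    group

/-- Trivial action of the normalizer on the cosets in `A` makes the centralizers of the
involutions of `A` solvable. -/
theorem ss_trivial (hO : Cfsg.oddCore G = ⊥) (hA : SType A Z) (hB : SType B Z)
    (hall : ∀ n ∈ normalizer ((P : Subgroup G) : Set G), Odd (orderOf n) → ∀ y ∈ A, Fixes Z n y)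
    {u : G} (hu : u ∈ A) (huZ : u ∉ Z) : Group.IsSolvable ↥(centralizer ({u} : Set G)) := by
  classical
  have := twoFact
  by_contra hns
  obtain ⟨K, hK⟩ := h.exists_sideCore hA hu huZ hns
  let B' : Subgroup ↥(P : Subgroup G) := B.subgroupOf (P : Subgroup G)
  haveI : B'.Normal := ⟨fun b hb s => h.symm.A_normal s.2 hb⟩
  let φ₀ : ↥(P : Subgroup G) →* ↥(P : Subgroup G) ⧸ B' := QuotientGroup.mk' B'
  have hrep : ∀ x : ↥(P : Subgroup G), ∃ a : A, φ₀ x = φ₀ ⟨a, h.hA a.2⟩ := by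
    intro x
    obtain ⟨a, ha, b, hb, he⟩ := h.exists_mul x.2
    refine ⟨⟨a, ha⟩, ?_⟩
    rw [show x = ⟨a, h.hA ha⟩ * ⟨b, h.hB hb⟩ from Subtype.ext he, map_mul,
      show φ₀ ⟨b, h.hB hb⟩ = 1 from (QuotientGroup.eq_one_iff _).2 hb, mul_one]
  let _ : CommGroup (↥(P : Subgroup G) ⧸ B') :=
    { QuotientGroup.Quotient.group B' with
      mul_comm := fun x y => by
        obtain ⟨x, rfl⟩ := QuotientGroup.mk'_surjective B' x
        obtain ⟨y, rfl⟩ := QuotientGroup.mk'_surjective B' y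
        obtain ⟨a, ha⟩ := hrep x
        obtain ⟨a', ha'⟩ := hrep y
        show φ₀ x * φ₀ y = φ₀ y * φ₀ x
        rw [ha, ha', ← map_mul, ← map_mul]
        exact congrArg φ₀ (Subtype.ext (comm_of_sq h.eA a.2 a'.2)) }
  let φ : ↥(P : Subgroup G) →* ↥(P : Subgroup G) ⧸ B' := QuotientGroup.mk' B'
  have hφ1 : ∀ {x : G} (hx : x ∈ (P : Subgroup G)), x ∈ B → φ ⟨x, hx⟩ = 1 := fun hx hxB =>
    (QuotientGroup.eq_one_iff _).2 hxB
  have hτA : ∀ a (ha : a ∈ A), MonoidHom.transfer φ a = φ ⟨a, h.hA ha⟩ := fun a ha => by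
    refine transfer_involution P φ (h.hA ha) (h.eA a ha) fun g hg => ?_
    have h2 : g⁻¹ * a * g * (g⁻¹ * a * g) = 1 := by
      rw [show g⁻¹ * a * g * (g⁻¹ * a * g) = g⁻¹ * (a * a) * g by group, h.eA a ha]; group
    have e : g⁻¹ * a * g = g⁻¹ * a * g⁻¹⁻¹ := by rw [inv_inv]
    by_cases haZ : a ∈ Z
    · have : g⁻¹ * a * g ∈ Z := by
        rcases h.invol _ hg h2 with e' | e'
        · rw [e] at e' ⊢; exact h.conj_mem_Z hA haZ e'
        · rw [e] at e' ⊢; exact h.symm.conj_mem_Z hB haZ e'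
      rw [hφ1 _ (h.hZB this), hφ1 _ (h.hZB haZ)]
    rcases h.invol _ hg h2 with e' | e'
    · obtain ⟨n, hn, hne⟩ := h.conj_normalizer ha (g := g⁻¹) (e ▸ e')
      rw [← e] at hne
      refine ((QuotientGroup.eq (s := B')).2 ?_).symm
      show a⁻¹ * (g⁻¹ * a * g) ∈ B
      rw [← hne]
      exact h.hZB (h.fixes_all hA hall hn ha)
    · by_cases hgZ : g⁻¹ * a * g ∈ Z
      · exfalso
        have := h.conj_mem_Z hA hgZ (g := g) (by
          rwa [show g * (g⁻¹ * a * g) * g⁻¹ = a by group])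
        rw [show g * (g⁻¹ * a * g) * g⁻¹ = a by group] at this
        exact haZ this
      · exact absurd (isConj_iff.2 ⟨g⁻¹, e.symm⟩) (h.not_isConj_A_B hA hB ha haZ e' hgZ)
  have hτB : ∀ b ∈ B, MonoidHom.transfer φ b = 1 := fun b hb => by
    rw [transfer_involution P φ (h.hB hb) (h.eB b hb) fun g hg => ?_, hφ1 _ hb]
    rw [hφ1 (h.hB hb) hb, hφ1 hg]
    have h2 : g⁻¹ * b * g * (g⁻¹ * b * g) = 1 := by
      rw [show g⁻¹ * b * g * (g⁻¹ * b * g) = g⁻¹ * (b * b) * g by group, h.eB b hb]; group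
    rcases h.invol _ hg h2 with e' | e'
    · by_contra hgB
      have hgZ : g⁻¹ * b * g ∉ Z := fun e => hgB (h.hZB e)
      by_cases hbZ : b ∈ Z
      · exact hgZ (by
          have := h.conj_mem_Z hA hbZ (g := g⁻¹) (by rwa [inv_inv])
          rwa [inv_inv] at this)
      · exact h.not_isConj_A_B hA hB e' hgZ hb hbZ (isConj_iff.2 ⟨g, by group⟩)
    · exact e'
  set G0 := (MonoidHom.transfer φ).ker with hG0
  have hBG0 : B ≤ G0 := fun b hb => hτB b hb
  have hPG0 : ∀ x ∈ (P : Subgroup G), x ∈ G0 → x ∈ B := by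
    intro x hx hx0
    obtain ⟨a, ha, b, hb, rfl⟩ := h.exists_mul hx
    refine mul_mem ?_ hb
    have h0 : MonoidHom.transfer φ (a * b) = 1 := hx0
    rw [map_mul, hτB b hb, mul_one, hτA a ha] at h0
    exact mem_subgroupOf.1 ((QuotientGroup.eq_one_iff (N := B') _).1 h0)
  haveI hG0n : G0.Normal := inferInstance
  -- the Sylow subgroup of the kernel
  obtain ⟨T, hT⟩ : ∃ T : Sylow 2 G0, (T : Subgroup G0) = B.subgroupOf G0 := by
    obtain ⟨T, hT⟩ := ((h.isPGroup.to_le h.hB).of_equiv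
      (subgroupOfEquivOfLe hBG0).symm).exists_le_sylow
    refine ⟨T, (eq_of_le_of_card_ge hT ?_).symm⟩
    obtain ⟨Q, hQ⟩ := (T.2.map G0.subtype).exists_le_sylow
    obtain ⟨c, hc⟩ := MulAction.exists_smul_eq G Q P
    refine Nat.card_le_card_of_injective (fun t : (T : Subgroup G0) =>
      (⟨⟨c * (t : G0) * c⁻¹, hG0n.conj_mem _ t.1.2 c⟩, hPG0 _ (by
        rw [← hc]; exact mem_cj_of c (hQ ⟨t, t.2, rfl⟩)) (hG0n.conj_mem _ t.1.2 c)⟩ :
        ↥(B.subgroupOf G0))) fun t t' e => Subtype.ext (Subtype.ext ?_)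
    have e' : c * ((t : G0) : G) * c⁻¹ = c * ((t' : G0) : G) * c⁻¹ :=
      congrArg (fun v : ↥(B.subgroupOf G0) => ((v : G0) : G)) e
    simpa using e'
  have hTel : Cfsg.IsElementaryAbelian 2 (T : Subgroup G0) := by
    refine ⟨⟨⟨fun x y => Subtype.ext (Subtype.ext ?_)⟩⟩, fun x hx => Subtype.ext ?_⟩
    · have hx := x.2
      have hy := y.2
      simp only [hT] at hx hy
      exact comm_of_sq h.eB hx hy
    · rw [hT, mem_subgroupOf] at hx
      simpa [pow_two] using h.eB _ hx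
  have hT16 : Nat.card (T : Subgroup G0) = 16 := by
    rw [hT, Nat.card_congr (subgroupOfEquivOfLe hBG0).toEquiv, h.cardB]
  have hO0 : Cfsg.oddCore G0 = ⊥ := by
    have := CfsgLib.Solvable.map_pPrimeCore_le 2 G0
    rw [show Cfsg.pPrimeCore 2 G = ⊥ from hO, le_bot_iff,
      map_eq_bot_iff_of_injective _ G0.subtype_injective] at this
    exact this
  have hfix : ∀ g ∈ normalizer ((T : Subgroup G0) : Set G0), ∀ x ∈ (T : Subgroup G0), x ≠ 1 →
      g * x = x * g → g ∈ centralizer ((T : Subgroup G0) : Set G0) := by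
    intro g hg x hx hx1 hgx
    obtain ⟨s, hs, e, he, ⟨k, hk⟩, hodd, rfl⟩ := exists_two_odd g
    have hle : zpowers (s * e) ≤ normalizer ((T : Subgroup G0) : Set G0) ⊓ centralizer ({x} : Set G0) :=
      zpowers_le.2 (mem_inf.2 ⟨hg, mem_centralizer_singleton_iff.2 hgx⟩)
    have hsT : s ∈ (T : Subgroup G0) := mem_sylow_of_normalizes T (mem_inf.1 (hle hs)).1 hk
    obtain ⟨heN, hex⟩ := mem_inf.1 (hle he)
    have heB : (e : G) ∈ normalizer (B : Set G) := by
      refine mem_normalizer_iff.2 fun v => ⟨fun hv => ?_, fun hv => ?_⟩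
      · have := (mem_normalizer_iff.1 heN ⟨v, hBG0 hv⟩).1 (hT ▸ hv)
        rwa [hT] at this
      · have hv0 : v ∈ G0 := by
          have := mul_mem (mul_mem (inv_mem e.2) (hBG0 hv)) e.2
          simpa [mul_assoc] using this
        have := (mem_normalizer_iff.1 heN ⟨v, hv0⟩).2 (hT ▸ hv)
        rwa [hT] at this
    rw [hT, mem_subgroupOf] at hx hsT
    refine mem_centralizer_iff.2 fun b hb => Subtype.ext ?_
    have hb' : (b : G) ∈ B := by
      have := SetLike.mem_coe.1 hb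
      rwa [hT] at this
    have hx1' : (x : G) ≠ 1 := fun e => hx1 (Subtype.ext e)
    have heb := h.cent_B_of_trivial hA hB hall (e := (e : G)) (by rwa [Subgroup.orderOf_coe]) heB hx
      hx1' (congrArg Subtype.val (mem_centralizer_singleton_iff.1 hex)) hb'
    show (b : G) * ((s : G) * e) = (s : G) * e * b
    rw [← mul_assoc, comm_of_sq h.eB hb' hsT, mul_assoc, ← heb, mul_assoc]
  obtain ⟨z, hz1⟩ := Subgroup.ne_bot_iff_exists_ne_one.1 (fun e : Z = ⊥ => by
    have := h.cardZ; rw [e, card_bot] at this; omega)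
  have hz1' : (z : G) ≠ 1 := fun e => hz1 (OneMemClass.coe_eq_one.1 e)
  obtain ⟨v, hv, hvZ⟩ := h.symm.exists_A_not_Z
  haveI hTn := abelian_sylow_normal T hTel hT16 hO0 hfix
    (x := ⟨z, hBG0 (h.hZB z.2)⟩) (y := ⟨v, hBG0 hv⟩)
    (by rw [hT]; exact h.hZB z.2) (fun e => hz1' (congrArg Subtype.val e))
    (by rw [hT]; exact hv) (fun e => hvZ (by
      have : v = 1 := congrArg Subtype.val e
      rw [this]; exact one_mem _))
    (fun hc => by
      obtain ⟨g, hg⟩ := isConj_iff.1 hc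
      have hg' : (g : G) * z * (g : G)⁻¹ = v := congrArg Subtype.val hg
      exact hvZ (hg' ▸ h.symm.conj_mem_Z hB z.2 (hg' ▸ hv)))
  have hBn : ∀ (g : G), ∀ b ∈ B, g * b * g⁻¹ ∈ B := fun g b hb => by
    have hmem : g * b * g⁻¹ ∈ G0 := hG0n.conj_mem b (hBG0 hb) g
    have : (⟨_, hmem⟩ : G0) ∈ (T : Subgroup G0) := by
      refine mem_sylow_of_normalizes T ?_ (k := 1) (Subtype.ext ?_)
      · rw [normalizer_eq_top_iff.2 hTn]; exact mem_top _
      · show (g * b * g⁻¹) ^ (2 ^ 1) = 1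
        rw [pow_one, pow_two, show g * b * g⁻¹ * (g * b * g⁻¹) = g * (b * b) * g⁻¹ by group,
          h.eB b hb]
        group
    rwa [hT] at this
  -- so the core normalizes `Z`
  have hKZ : K ≤ normalizer (Z : Set G) := by
    have key : ∀ c ∈ centralizer ({u} : Set G), ∀ y ∈ Z, c * y * c⁻¹ ∈ Z := by
      intro c hc y hy
      have hcu := mem_centralizer_singleton_iff.1 hc
      refine (h.key hu (hBn c y (h.hZB hy)) ?_).resolve_left huZ
      calc u * (c * y * c⁻¹) = (u * c) * y * c⁻¹ := by group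
        _ = (c * u) * y * c⁻¹ := by rw [← hcu]
        _ = c * (u * y) * c⁻¹ := by group
        _ = c * (y * u) * c⁻¹ := by rw [h.cen y hy u (h.hA hu)]
        _ = (c * y) * (u * c⁻¹) := by group
        _ = (c * y) * (c⁻¹ * u) := by
          rw [show u * c⁻¹ = c⁻¹ * u by rw [eq_inv_mul_iff_mul_eq, ← mul_assoc, hcu, mul_inv_cancel_right]]
        _ = c * y * c⁻¹ * u := by group
    intro c hc
    refine mem_normalizer_iff.2 fun y => ⟨key c (hK.le hc) y, fun hy => ?_⟩
    have := key c⁻¹ (inv_mem (hK.le hc)) _ hy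
    rwa [show c⁻¹ * (c * y * c⁻¹) * c⁻¹⁻¹ = y by group] at this
  obtain ⟨R, hR⟩ := hK.sylow
  haveI : (R : Subgroup K).Normal := by
    rw [hR]
    exact (normal_subgroupOf_iff_le_normalizer hK.Z_le).2 hKZ
  haveI := R.2.isNilpotent
  haveI : Group.IsSolvable (↥K ⧸ (R : Subgroup K)) := Cfsg.Agent.S0205.result (by
    rw [← index_eq_card, ← Nat.not_even_iff_odd, even_iff_two_dvd]; exact R.not_dvd_index)
  haveI : Group.IsSolvable ↥K := Group.isSolvable_of_ker_le_range (R : Subgroup K).subtype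
    (QuotientGroup.mk' (R : Subgroup K)) (by rw [QuotientGroup.ker_mk', range_subtype])
  have hK1 : K ≠ ⊥ := fun e => hz1' (by simpa [e] using hK.Z_le z.2)
  haveI : Nontrivial ↥K := (nontrivial_iff_ne_bot K).2 hK1
  exact (Group.IsSolvable.commutator_lt_top_of_nontrivial (G := ↥K)).ne hK.perfect

end Shape

end CfsgLib.SylL34
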