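import Cfsg.Agent.Lib.SylLThreeFour.LSCores
import Cfsg.Agent.Lib.SylLThreeFour.NormalA
import Cfsg.Agent.Lib.SylLThreeFour.LSCount
import Cfsg.Agent.Lib.SylLThreeFour.SSCount
import Cfsg.Agent.Lib.SylLThreeFour.CaseLL
import Cfsg.Agent.Lib.SylLThreeFour.SSTrivial
import Cfsg.Agent.Lib.SylLThreeFour.EmbedSylow
import Cfsg.Agent.Lib.SylLThreeFour.EmbedPSL

/-!
Groups with a Sylow 2-subgroup of the type of `PSL(3, 4)`: modulo the odd core they embed in
`PGL(3, 4)`.
-/

set_option autoImplicit false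

namespace CfsgLib.SylL34

open Subgroup

universe u v

variable {G : Type u} [Group G] [Finite G]

namespace Shape

variable {P : Sylow 2 G} {A B Z : Subgroup G} (h : Shape (P : Subgroup G) A B Z)
include h

/-- Both normalizers preserving the centre: the centralizers in `A` are solvable. -/
theorem ss_side (hO : Cfsg.oddCore G = ⊥) (hA : SType A Z) (hB : SType B Z) {a : G} (ha : a ∈ A)
    (haZ : a ∉ Z) : Group.IsSolvable ↥(centralizer ({a} : Set G)) := by
  by_contra hns
  by_cases hall : ∀ n ∈ normalizer ((P : Subgroup G) : Set G), Odd (orderOf n) → ∀ y ∈ A, Fixes Z n y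
  · exact hns (h.ss_trivial hO hA hB hall ha haZ)
  · push Not at hall
    obtain ⟨n, hn, hodd, y, hy, hfix⟩ := hall
    exact h.ss_count hA hB ha haZ hns ⟨n, hn, hodd, y, hy, hfix⟩

/-- Both normalizers preserve the centre. -/
theorem case_SS (hO : Cfsg.oddCore G = ⊥) (hA : SType A Z) (hB : SType B Z) :
    (P : Subgroup G).Normal :=
  h.ss_solvable hO hA hB (fun _ ha haZ => h.ss_side hO hA hB ha haZ)
    fun _ hb hbZ => h.symm.ss_side hO hB hA hb hbZ

/-- Exactly one normalizer is transitive. -/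
theorem case_LS (hO : Cfsg.oddCore G = ⊥) (hA : LType A) (hB : SType B Z) : A.Normal := by
  by_cases hsol : ∀ b ∈ B, b ∉ Z → Group.IsSolvable ↥(centralizer ({b} : Set G))
  · exact h.ls_solvable hO hA hB hsol
  push Not at hsol
  obtain ⟨v, hv, hvZ, hns⟩ := hsol
  have hT := h.exists_moving_B hA
  exact h.ls_count hO hA hB hv hvZ hns hT (h.ls_cores_trivial hO hA hB hv hvZ hns hT)

/-- Without odd core the group embeds. -/
theorem embed {F : Type v} [Field F] [Fintype F] (hF : Fintype.card F = 4)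
    (hO : Cfsg.oddCore G = ⊥) (P0 : Sylow 2 (Matrix.ProjectiveSpecialLinearGroup (Fin 3) F))
    (hS : Nonempty (↥(P : Subgroup G) ≃*
      ↥(P0 : Subgroup (Matrix.ProjectiveSpecialLinearGroup (Fin 3) F)))) :
    ∃ f : G →* GL (Fin 3) F ⧸ Subgroup.center (GL (Fin 3) F), Function.Injective f := by
  rcases h.sType_or_lType with hA | hA <;> rcases h.symm.sType_or_lType with hB | hB
  · exact embed_of_P_normal h (h.case_SS hO hA hB) hO P0 hS hF
  · exact h.symm.embed_of_LType_normal hO hB (h.symm.case_LS hO hB hA) hF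
  · exact h.embed_of_LType_normal hO hA (h.case_LS hO hA hB) hF
  · obtain ⟨N, hN, hiso, hC, hi⟩ := h.case_LL hO hA hB hF
    haveI := hN
    exact embed_of_psl_normal N hiso hC hi hF

end Shape

/-- The embedding modulo the odd core. -/
theorem embeds_mod_core {F : Type v} [Field F] [Fintype F] (hF : Fintype.card F = 4) (S : Sylow 2 G)
    (P0 : Sylow 2 (Matrix.ProjectiveSpecialLinearGroup (Fin 3) F))
    (hS : Nonempty (↥(S : Subgroup G) ≃*
      ↥(P0 : Subgroup (Matrix.ProjectiveSpecialLinearGroup (Fin 3) F)))) :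
    ∃ f : G ⧸ Cfsg.oddCore G →* GL (Fin 3) F ⧸ Subgroup.center (GL (Fin 3) F),
      Function.Injective f := by
  have := twoFact
  haveI : (Cfsg.oddCore G).Normal := CfsgLib.Solvable.pPrimeCore_normal 2 G
  set π := QuotientGroup.mk' (Cfsg.oddCore G)
  let T : Sylow 2 (G ⧸ Cfsg.oddCore G) := S.mapSurjective (QuotientGroup.mk'_surjective _)
  have hinj : Function.Injective (π.subgroupMap (S : Subgroup G)) := by
    refine (injective_iff_map_eq_one _).2 fun x hx => Subtype.ext ?_
    have hxO : (x : G) ∈ Cfsg.oddCore G :=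
      (QuotientGroup.eq_one_iff _).1 (congrArg Subtype.val hx)
    obtain ⟨k, hk⟩ := S.2 x
    have h1 : orderOf (x : G) ∣ 2 ^ k := orderOf_dvd_of_pow_eq_one (congrArg Subtype.val hk)
    have h2 := Subgroup.orderOf_dvd_natCard _ hxO
    exact orderOf_eq_one_iff.1 (Nat.eq_one_of_dvd_coprimes
      (Nat.Coprime.pow_left k (Nat.coprime_two_left.2 (CfsgLib.Invol.odd_card_oddCore G))) h1 h2)
  let e : ↥(S : Subgroup G) ≃* ↥(T : Subgroup (G ⧸ Cfsg.oddCore G)) :=
    MulEquiv.ofBijective (π.subgroupMap (S : Subgroup G)) ⟨hinj, π.subgroupMap_surjective _⟩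
  have hT : Nonempty (↥(T : Subgroup (G ⧸ Cfsg.oddCore G)) ≃*
      ↥(P0 : Subgroup (Matrix.ProjectiveSpecialLinearGroup (Fin 3) F))) := hS.map fun f => e.symm.trans f
  obtain ⟨A, B, Z, h⟩ := exists_shape hF (T : Subgroup (G ⧸ Cfsg.oddCore G)) P0 hT
  exact h.embed hF CfsgLib.Fusion.oddCore_quotient_oddCore P0 hT

end CfsgLib.SylL34
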