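import Cfsg.Agent.Lib.SylLThreeFour.Count
import Cfsg.Agent.Lib.SylLThreeFour.Local

/-!
Both subgroups of order 16 normalize the centre: the solvable case and the case of trivial action
on the cosets.
-/

set_option autoImplicit false

namespace CfsgLib.SylL34

open Subgroup CfsgLib.Recog.LThreeFour CfsgLib.Invol

universe u

variable {G : Type u} [Group G] [Finite G]

namespace Shape

variable {P : Sylow 2 G} {A B Z : Subgroup G} (h : Shape (P : Subgroup G) A B Z)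
include h

/-- All centralizers solvable: the Sylow subgroup is normal. -/
theorem ss_solvable (hO : Cfsg.oddCore G = ⊥) (hA : SType A Z) (hB : SType B Z)
    (hsA : ∀ a ∈ A, a ∉ Z → Group.IsSolvable ↥(centralizer ({a} : Set G)))
    (hsB : ∀ b ∈ B, b ∉ Z → Group.IsSolvable ↥(centralizer ({b} : Set G))) :
    (P : Subgroup G).Normal := by
  have := twoFact
  have hsolA : ∀ a ∈ A, a ≠ 1 → Group.IsSolvable ↥(centralizer ({a} : Set G)) := fun a ha ha1 => by
    by_cases haZ : a ∈ Z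
    · exact h.cent_Z_solvable haZ ha1
    · exact hsA a ha haZ
  have hsolB : ∀ b ∈ B, b ≠ 1 → Group.IsSolvable ↥(centralizer ({b} : Set G)) := fun b hb hb1 => by
    by_cases hbZ : b ∈ Z
    · exact h.cent_Z_solvable hbZ hb1
    · exact hsB b hb hbZ
  obtain ⟨hodd, heqA, hNW⟩ := h.closure_eq hsolA
  obtain ⟨-, heqB, -⟩ := h.symm.closure_eq hsolB
  set W := coreClosure A with hW
  have hcoreA : ∀ a ∈ A, a ≠ 1 → Cfsg.centralizerPPrimeCore 2 a ≤ W := fun a ha ha1 =>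
    core_le_coreClosure ha ha1
  have hcoreB : ∀ b ∈ B, b ≠ 1 → Cfsg.centralizerPPrimeCore 2 b ≤ W := fun b hb hb1 => by
    rw [heqA, ← heqB]
    exact core_le_coreClosure hb hb1
  have hNP : normalizer ((P : Subgroup G) : Set G) ≤ normalizer (W : Set G) :=
    h.normalizer_le_Z.trans hNW
  obtain ⟨z₀, hz₀⟩ := Subgroup.ne_bot_iff_exists_ne_one.1 (fun e : Z = ⊥ => by
    have := h.cardZ; rw [e, card_bot] at this; omega)
  have hz₀1 : (z₀ : G) ≠ 1 := fun e => hz₀ (OneMemClass.coe_eq_one.1 e)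
  obtain ⟨u, hu, huZ⟩ := h.exists_A_not_Z
  have hu1 : u ≠ 1 := fun e => huZ (e ▸ one_mem _)
  have hzu : ¬ IsConj (z₀ : G) u := fun hc => by
    obtain ⟨g, hg⟩ := isConj_iff.1 hc
    exact huZ (hg ▸ h.conj_mem_Z hA z₀.2 (hg ▸ hu))
  -- the centralizers of involutions normalize the closure
  have hcov : ∀ x ∈ (P : Subgroup G), orderOf x = 2 →
      centralizer ({x} : Set G) ≤ normalizer (W : Set G) := by
    intro x hx hx2
    have hx1 := invol_ne_one hx2
    by_cases hxZ : x ∈ Z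
    · exact h.cent_Z_le_of hxZ hx1 ((hcoreA x (h.hZA hxZ) hx1).trans le_normalizer) hNP
    rcases h.invol x hx (invol_mul_self hx2) with hxA | hxB
    · exact (h.cent_solvable_le hA hxA hxZ (hsA x hxA hxZ)).trans
        (sup_le ((hcoreA x hxA hx1).trans le_normalizer) ((inf_le_left.trans hA).trans hNW))
    · exact (h.symm.cent_solvable_le hB hxB hxZ (hsB x hxB hxZ)).trans
        (sup_le ((hcoreB x hxB hx1).trans le_normalizer) ((inf_le_left.trans hB).trans hNW))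
  have hW1 : W = ⊥ := eq_bot_of_normalizer_top hO hodd
    (eq_top_of_two_classes P _ hNP hcov (invol_of_mul_self (h.eZ z₀.2) hz₀1)
      (invol_of_mul_self (h.eA u hu) hu1) hzu)
  have hPZ : normalizer ((P : Subgroup G) : Set G) ≤ normalizer (Z : Set G) := h.normalizer_le_Z
  have hCP : ∀ z ∈ Z, z ≠ 1 →
      centralizer ({z} : Set G) ≤ normalizer ((P : Subgroup G) : Set G) := fun z hz hz1 =>
    h.cent_Z_le_of hz hz1 ((hW1 ▸ hcoreA z (h.hZA hz) hz1 :
      Cfsg.centralizerPPrimeCore 2 z ≤ ⊥).trans bot_le) le_rfl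
  have hCZ : ∀ x ∈ (P : Subgroup G), x * x = 1 → x ≠ 1 →
      centralizer ({x} : Set G) ≤ normalizer (Z : Set G) := by
    intro x hx hx2 hx1
    by_cases hxZ : x ∈ Z
    · exact (hCP x hxZ hx1).trans hPZ
    rcases h.invol x hx hx2 with hxA | hxB
    · exact (h.cent_solvable_le hA hxA hxZ (hsA x hxA hxZ)).trans
        (sup_le ((hW1 ▸ hcoreA x hxA hx1 : Cfsg.centralizerPPrimeCore 2 x ≤ ⊥).trans bot_le)
          (inf_le_left.trans hA))
    · exact (h.symm.cent_solvable_le hB hxB hxZ (hsB x hxB hxZ)).trans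
        (sup_le ((hW1 ▸ hcoreB x hxB hx1 : Cfsg.centralizerPPrimeCore 2 x ≤ ⊥).trans bot_le)
          (inf_le_left.trans hB))
  have hPN : (P : Subgroup G) ≤ normalizer (Z : Set G) := le_normalizer.trans hPZ
  -- the class of the central involutions
  set D : Set G := {x | ∃ z ∈ Z, z ≠ 1 ∧ IsConj z x}
  have hD2 : ∀ d ∈ D, orderOf d = 2 := by
    rintro d ⟨z, hz, hz1, hc⟩
    exact (orderOf_eq_of_isConj hc).trans (invol_of_mul_self (h.eZ hz) hz1)
  have hDconj : ∀ g : G, ∀ d ∈ D, g * d * g⁻¹ ∈ D := by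
    rintro g d ⟨z, hz, hz1, hc⟩
    exact ⟨z, hz, hz1, hc.trans (isConj_iff.2 ⟨g, rfl⟩)⟩
  have hDN : ∀ d ∈ D, d ∈ normalizer (Z : Set G) → d ∈ Z := by
    rintro d ⟨z, hz, hz1, hc⟩ hdN
    obtain ⟨g, hg⟩ := isConj_iff.1 hc
    have hd2 : d * d = 1 := invol_mul_self (hD2 d ⟨z, hz, hz1, hc⟩)
    obtain ⟨k, hk, hkP⟩ := exists_conj_into P hPN hdN (k := 1) (by rw [pow_one, pow_two, hd2])
    have hkd : k * d * k⁻¹ = k * g * z * (k * g)⁻¹ := by rw [← hg]; group
    have hk2 : k * d * k⁻¹ * (k * d * k⁻¹) = 1 := by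
      rw [show k * d * k⁻¹ * (k * d * k⁻¹) = k * (d * d) * k⁻¹ by group, hd2]; group
    have hkZ : k * d * k⁻¹ ∈ Z := by
      rcases h.invol _ hkP hk2 with e | e
      · rw [hkd] at e ⊢; exact h.conj_mem_Z hA hz e
      · rw [hkd] at e ⊢; exact h.symm.conj_mem_Z hB hz e
    exact (mem_normalizer_iff.1 hk d).2 hkZ
  have hDZ : D ⊆ Z := by
    refine commuting_classes hD2 hDconj Z (fun x hx y hy => h.cen x hx y (h.hZS hy))
      (fun d hd hdZ => hCZ d (h.hZS hdZ) (h.eZ hdZ) (invol_ne_one (hD2 d hd))) hDN u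
      (invol_of_mul_self (h.eA u hu) hu1) ?_ ?_ ?_ ?_
    · rintro ⟨z, hz, -, hc⟩
      obtain ⟨g, hg⟩ := isConj_iff.1 hc
      exact huZ (hg ▸ h.conj_mem_Z hA hz (hg ▸ hu))
    · intro d hd hdu
      exact hDN d hd (hCZ u (h.hA hu) (h.eA u hu) hu1 (mem_centralizer_singleton_iff.2 hdu.eq))
    · intro u' hu' hu'N
      have hu'2 : u' * u' = 1 := invol_mul_self
        ((orderOf_eq_of_isConj hu').trans (invol_of_mul_self (h.eA u hu) hu1))
      obtain ⟨k, hk, hkP⟩ := exists_conj_into P hPN hu'N (k := 1) (by rw [pow_one, pow_two, hu'2])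
      have hy := conj_mem_of_normalizer (inv_mem hk) z₀.2
      rw [inv_inv] at hy
      refine ⟨k⁻¹ * z₀ * k, ⟨z₀, z₀.2, hz₀1, isConj_iff.2 ⟨k⁻¹, by rw [inv_inv]⟩⟩, hy, ?_⟩
      show k⁻¹ * z₀ * k * u' = u' * (k⁻¹ * z₀ * k)
      calc k⁻¹ * z₀ * k * u' = k⁻¹ * ((z₀ : G) * (k * u' * k⁻¹)) * k := by group
        _ = k⁻¹ * ((k * u' * k⁻¹) * (z₀ : G)) * k := by rw [h.cen _ z₀.2 _ hkP]
        _ = u' * (k⁻¹ * z₀ * k) := by group
    · intro d hd w hw
      have hw2 : w * w = 1 := invol_mul_self hw.1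
      obtain ⟨g, -, hgP⟩ := exists_conj_into P le_top (mem_top w) (k := 1)
        (by rw [pow_one, pow_two, hw2])
      have hg2 : g * w * g⁻¹ * (g * w * g⁻¹) = 1 := by
        rw [show g * w * g⁻¹ * (g * w * g⁻¹) = g * (w * w) * g⁻¹ by group, hw2]; group
      have hg1 : g * w * g⁻¹ ≠ 1 := fun e => invol_ne_one hw.1 (conj_eq_one_iff.1 e)
      by_cases hgZ : g * w * g⁻¹ ∈ Z
      · exact Or.inl ⟨_, hgZ, hg1, isConj_iff.2 ⟨g⁻¹, by group⟩⟩
      refine Or.inr (centre_side_of_isConj hDconj Z (w₀ := g * w * g⁻¹)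
        (isConj_iff.2 ⟨g⁻¹, by group⟩) 1 ?_ ?_)
      · intro x hx hc
        simpa using hDN x hx (hCZ _ hgP hg2 hg1 (mem_centralizer_singleton_iff.2 hc.eq))
      · intro y hc
        simpa using hCZ _ hgP hg2 hg1 (mem_centralizer_singleton_iff.2 hc.eq)
  haveI hZn : Z.Normal := ⟨fun z hz g => by
    by_cases hz1 : z = 1
    · simp [hz1]
    exact hDZ ⟨z, hz, hz1, isConj_iff.2 ⟨g, rfl⟩⟩⟩
  refine normal_of_le_normal P (M := centralizer (Z : Set G)) ?_ (fun s hs =>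
    mem_centralizer_iff.2 fun z hz => h.cen z hz s hs) fun c hc => hCP z₀ z₀.2 hz₀1
      (mem_centralizer_singleton_iff.2 (mem_centralizer_iff.1 hc z₀ z₀.2).symm)
  refine ⟨fun c hc g => mem_centralizer_iff.2 fun z hz => ?_⟩
  have hy : g⁻¹ * z * g ∈ Z := by simpa using hZn.conj_mem z hz g⁻¹
  calc z * (g * c * g⁻¹) = g * ((g⁻¹ * z * g) * c) * g⁻¹ := by group
    _ = g * (c * (g⁻¹ * z * g)) * g⁻¹ := by rw [mem_centralizer_iff.1 hc _ hy]
    _ = g * c * g⁻¹ * z := by group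

/-- Elements fixing all cosets of `Z` in `A`, as a subgroup. -/
theorem fixes_all (hA : SType A Z)
    (hall : ∀ n ∈ normalizer ((P : Subgroup G) : Set G), Odd (orderOf n) → ∀ y ∈ A, Fixes Z n y)
    {n : G} (hn : n ∈ normalizer (A : Set G)) {y : G} (hy : y ∈ A) : Fixes Z n y := by
  have := twoFact
  let K0 : Subgroup G :=
    { carrier := {g | g ∈ normalizer (A : Set G) ∧ ∀ y ∈ A, Fixes Z g y}
      mul_mem' := fun {g k} hg hk =>
        ⟨mul_mem hg.1 hk.1, fun y hy => Fixes.mul (hA hg.1) (hg.2 y hy) (hk.2 y hy)⟩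
      one_mem' := ⟨one_mem _, fun y _ => Fixes.one y⟩
      inv_mem' := fun {g} hg => by
        refine ⟨inv_mem hg.1, fun y hy => ?_⟩
        have e : g⁻¹ = g ^ (orderOf g - 1) := inv_eq_of_mul_eq_one_right (by
          rw [← pow_succ', Nat.sub_add_cancel (orderOf_pos g), pow_orderOf_eq_one])
        rw [e]
        exact Fixes.pow (hA hg.1) (hg.2 y hy) _ }
  have hPK : (P : Subgroup G) ≤ K0 := fun s hs => ⟨h.S_le_normalizer hs, fun y hy => by
    obtain ⟨a, ha, b, hb, rfl⟩ := h.exists_mul hs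
    refine Fixes.mul (hA (h.S_le_normalizer (h.hA ha))) ?_ ?_
    · unfold Fixes
      rw [comm_of_sq h.eA ha hy, mul_inv_cancel_right, inv_mul_cancel]
      exact one_mem _
    · unfold Fixes
      rw [show y⁻¹ * (b * y * b⁻¹) = y⁻¹ * (y * b * y⁻¹ * b⁻¹)⁻¹ * y by group,
        mul_assoc, h.cen _ (inv_mem (h.comm y hy b hb)) y (h.hA hy), inv_mul_cancel_left]
      exact inv_mem (h.comm y hy b hb)⟩
  have hKn : normalizer (A : Set G) ≤ normalizer (K0 : Set G) := by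
    have key : ∀ g ∈ normalizer (A : Set G), ∀ k ∈ K0, g * k * g⁻¹ ∈ K0 := by
      intro g hg k hk
      refine ⟨mul_mem (mul_mem hg hk.1) (inv_mem hg), fun y hy => ?_⟩
      have hy' : g⁻¹ * y * g ∈ A := by simpa using conj_mem_of_normalizer (inv_mem hg) hy
      have := conj_mem_of_normalizer (hA hg) (hk.2 _ hy')
      unfold Fixes
      rwa [show g * ((g⁻¹ * y * g)⁻¹ * (k * (g⁻¹ * y * g) * k⁻¹)) * g⁻¹ =
        y⁻¹ * (g * k * g⁻¹ * y * (g * k * g⁻¹)⁻¹) by group] at this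
    intro g hg
    refine mem_normalizer_iff.2 fun k => ⟨key g hg k, fun hk => ?_⟩
    have := key g⁻¹ (inv_mem hg) _ hk
    rwa [show g⁻¹ * (g * k * g⁻¹) * g⁻¹⁻¹ = k by group] at this
  obtain ⟨m, hm, -, k, hk, rfl⟩ := frattini P hPK (fun g hg => hg.1) hKn hn
  obtain ⟨s, hs, e, -, hen, hodd, rfl⟩ := exists_odd_part P hm
  exact Fixes.mul (hA (mul_mem (h.S_le_normalizer hs) (h.normalizer_le_A hen)))
    (Fixes.mul (hA (h.S_le_normalizer hs)) ((hPK hs).2 y hy) (hall e hen hodd y hy)) (hk.2 y hy)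

end Shape

end CfsgLib.SylL34
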