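import Cfsg.Agent.Lib.SylLThreeFour.Weak

/-!
The endomorphism of order three of a normal elementary abelian group `A` of order sixteen that
preserves the five conjugates of the centre `Z` of a Sylow 2-subgroup.
-/

set_option autoImplicit false

namespace CfsgLib.SylL34

open Subgroup

universe u

/-- The elements of a group of order four with two given ones. -/
theorem klein_cases {K : Type u} [Group K] (h4 : Nat.card K = 4) (he : ∀ x : K, x * x = 1)
    {x y : K} (hx : x ≠ 1) (hy : y ≠ 1) (hxy : y ≠ x) (w : K) :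
    w = 1 ∨ w = x ∨ w = y ∨ w = x * y := by
  classical
  haveI : Finite K := Nat.finite_of_card_ne_zero (by omega)
  letI := Fintype.ofFinite K
  have h1 : x * y ≠ 1 := fun e => hxy (mul_left_cancel (e.trans (he x).symm))
  have h2 : x * y ≠ x := fun e => hy (mul_eq_left.1 e)
  have h3 : x * y ≠ y := fun e => hx (mul_eq_right.1 e)
  have hu : ({1, x, y, x * y} : Finset K) = Finset.univ := by
    refine Finset.eq_univ_of_card _ ?_
    rw [← Nat.card_eq_fintype_card, h4, Finset.card_insert_of_notMem,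
      Finset.card_insert_of_notMem, Finset.card_insert_of_notMem, Finset.card_singleton] <;>
      simp [Ne.symm hx, Ne.symm hy, Ne.symm hxy, Ne.symm h1, Ne.symm h2, Ne.symm h3]
  simpa using hu.ge (Finset.mem_univ w)

/-- An injective fixed-point-free endomorphism of a four-group. -/
theorem klein_sum {K : Type u} [Group K] (h4 : Nat.card K = 4) (he : ∀ x : K, x * x = 1)
    (f : K →* K) (hinj : Function.Injective f) (hfix : ∀ x, f x = x → x = 1) (x : K) :
    x * f x * f (f x) = 1 := by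
  by_cases hx : x = 1
  · simp [hx]
  have hfx : f x ≠ 1 := fun e => hx (hinj (e.trans (map_one f).symm))
  have hne : f x ≠ x := fun e => hx (hfix x e)
  rcases klein_cases h4 he hx hfx hne (f (f x)) with e | e | e | e
  · exact absurd (hinj (e.trans (map_one f).symm)) hfx
  · have h := hfix (x * f x) (by
      rw [map_mul, e]
      have h1 : f x * x = (f x * x)⁻¹ := eq_inv_of_mul_eq_one_left (he _)
      rw [h1, mul_inv_rev, inv_eq_of_mul_eq_one_right (he x),
        inv_eq_of_mul_eq_one_right (he (f x))])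
    exact absurd (mul_left_cancel (h.trans (he x).symm)) hne
  · exact absurd (hinj e) hne
  · rw [e, he]

namespace Shape

variable {G : Type u} [Group G] [Finite G] {P : Sylow 2 G} {A B Z : Subgroup G}

/-- The conjugates of `Z` meet `Z` trivially or equal it. -/
theorem block (h : Shape (P : Subgroup G) A B Z)
    (hC : ∀ z ∈ Z, z ≠ 1 → centralizer ({z} : Set G) ≤ normalizer ((P : Subgroup G) : Set G))
    {g x : G} (hx : x ∈ Z) (hx1 : x ≠ 1) (hgx : g * x * g⁻¹ ∈ Z) {y : G} (hy : y ∈ Z) :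
    g * y * g⁻¹ ∈ Z := by
  obtain ⟨n, hn, e⟩ := h.conj_Z hx hgx
  have hc : n⁻¹ * g ∈ centralizer ({x} : Set G) := mem_centralizer_singleton_iff.2 (by
    calc n⁻¹ * g * x = n⁻¹ * (g * x * g⁻¹) * g := by group
      _ = x * (n⁻¹ * g) := by rw [← e]; group)
  have hg : g ∈ normalizer ((P : Subgroup G) : Set G) := by
    rw [show g = n * (n⁻¹ * g) by group]
    exact mul_mem hn (hC x hx hx1 hc)
  exact conj_mem_of_normalizer (h.normalizer_le_Z hg) hy

/-- An endomorphism of `A` that preserves the conjugates of `Z` and kills a nontrivial element of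
`Z` is trivial. -/
theorem endo_eq_one (h : Shape (P : Subgroup G) A B Z)
    (hC : ∀ z ∈ Z, z ≠ 1 → centralizer ({z} : Set G) ≤ normalizer ((P : Subgroup G) : Set G))
    (hcov : ∀ a ∈ A, a ≠ 1 → ∃ g : G, g⁻¹ * a * g ∈ Z)
    (d : ↥A →* ↥A) (hd : ∀ (g : G) (x : ↥A), g⁻¹ * (x : G) * g ∈ Z → g⁻¹ * (d x : G) * g ∈ Z)
    {z : ↥A} (hz : (z : G) ∈ Z) (hz1 : z ≠ 1) (hdz : d z = 1) (x : ↥A) : d x = 1 := by
  have hout : ∀ x : ↥A, (x : G) ∉ Z → d x = 1 := by
    intro x hxZ
    by_contra hne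
    have hx1 : x ≠ 1 := fun e => hxZ (e ▸ one_mem Z)
    have hzx1 : z * x ≠ 1 := fun e => hxZ (by
      have : x = z⁻¹ := eq_inv_of_mul_eq_one_right e
      rw [this]; exact inv_mem hz)
    obtain ⟨g, hg⟩ := hcov x x.2 (fun e => hx1 (Subtype.ext e))
    obtain ⟨k, hk⟩ := hcov (z * x : ↥A) (z * x).2 (fun e => hzx1 (Subtype.ext e))
    have h1 := hd g x hg
    have h2 := hd k (z * x) hk
    rw [map_mul, hdz, one_mul] at h2
    have hdx : (d x : G) ≠ 1 := fun e => hne (Subtype.ext e)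
    have hdx' : g⁻¹ * (d x : G) * g ≠ 1 := fun e => hdx (by
      rwa [show g⁻¹ * (d x : G) * g = g⁻¹ * (d x : G) * g⁻¹⁻¹ by rw [inv_inv], conj_eq_one_iff] at e)
    have e0 : k⁻¹ * g * (g⁻¹ * (d x : G) * g) * (k⁻¹ * g)⁻¹ = k⁻¹ * (d x : G) * k := by group
    have h3 := h.block hC h1 hdx' (g := k⁻¹ * g) (by rw [e0]; exact h2) hg
    rw [show k⁻¹ * g * (g⁻¹ * (x : G) * g) * (k⁻¹ * g)⁻¹ = k⁻¹ * (x : G) * k by group] at h3
    have hzk : k⁻¹ * (z : G) * k ∈ Z := by
      have := mul_mem hk (inv_mem h3)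
      rwa [show k⁻¹ * ((z * x : ↥A) : G) * k * (k⁻¹ * (x : G) * k)⁻¹ = k⁻¹ * (z : G) * k by
        push_cast; group] at this
    refine hxZ ?_
    have h4 := h.block hC hzk (fun e => hz1 (Subtype.ext (by
      rwa [show k⁻¹ * (z : G) * k = k⁻¹ * (z : G) * k⁻¹⁻¹ by rw [inv_inv], conj_eq_one_iff] at e)))
      (g := k) (by rw [show k * (k⁻¹ * (z : G) * k) * k⁻¹ = z by group]; exact hz) h3
    rwa [show k * (k⁻¹ * (x : G) * k) * k⁻¹ = x by group] at h4
  by_cases hx : (x : G) ∈ Z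
  · obtain ⟨a, ha, haZ⟩ := h.exists_A_not_Z
    have hax : ((⟨a, ha⟩ * x : ↥A) : G) ∉ Z := fun e => haZ ((mul_mem_cancel_right hx).1 e)
    have := hout _ hax
    rwa [map_mul, hout ⟨a, ha⟩ haZ, one_mul] at this
  · exact hout x hx

/-- The endomorphism of order three of `A` commuting with the whole group. -/
theorem exists_endo (h : Shape (P : Subgroup G) A B Z) [A.Normal] [IsMulCommutative ↥A]
    (htr : LType A)
    (hC : ∀ z ∈ Z, z ≠ 1 → centralizer ({z} : Set G) ≤ normalizer ((P : Subgroup G) : Set G)) :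
    (∃ ζ : ↥A →* ↥A, (∀ x, x * ζ x * ζ (ζ x) = 1) ∧
      ∀ (g : G) (x : ↥A), ζ (MulAut.conjNormal g x) = MulAut.conjNormal g (ζ x)) ∧
    ∃ W : Subgroup G, A ⊓ W = ⊥ ∧ A ⊔ W = (P : Subgroup G) := by
  classical
  haveI : Finite ↥Z := inferInstance
  obtain ⟨z0, hz0, hz01⟩ : ∃ z ∈ Z, z ≠ 1 := by
    have : Z ≠ ⊥ := fun e => by
      have := h.cardZ
      rw [e, Subgroup.card_bot] at this
      omega
    exact Z.ne_bot_iff_exists_ne_one.1 this |>.elim fun z hz => ⟨z, z.2, fun e => hz (Subtype.ext e)⟩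
  have hcov : ∀ a ∈ A, a ≠ 1 → ∃ g : G, g⁻¹ * a * g ∈ Z := fun a ha ha1 => by
    obtain ⟨g, -, hg⟩ := htr z0 (h.hZA hz0) hz01 a ha ha1
    exact ⟨g, by rwa [← hg, show g⁻¹ * (g * z0 * g⁻¹) * g = z0 by group]⟩
  obtain ⟨a0, ha0, ha0Z⟩ := h.exists_A_not_Z
  obtain ⟨g0, hg0⟩ := hcov a0 ha0 (fun e => ha0Z (e ▸ one_mem Z))
  set Y : Subgroup G := Z.map (MulAut.conj g0).toMonoidHom with hY
  have memY : ∀ {y : G}, y ∈ Y ↔ g0⁻¹ * y * g0 ∈ Z := fun {y} =>
    ⟨by rintro ⟨t, ht, rfl⟩; simpa [mul_assoc] using ht,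
     fun ht => ⟨_, ht, by simp [mul_assoc]⟩⟩
  have hYA : Y ≤ A := by
    rintro _ ⟨t, ht, rfl⟩
    exact (inferInstance : A.Normal).conj_mem t (h.hZA ht) g0
  have hY4 : Nat.card ↥Y = 4 := by
    rw [hY, card_map_of_injective (MulAut.conj g0).injective, h.cardZ]
  have hYZ : ∀ y ∈ Y, y ∈ Z → y = 1 := fun y hy hyZ => by
    by_contra hy1
    have h1 : g0⁻¹ * y * g0 ≠ 1 := fun e => hy1 (by
      rwa [show g0⁻¹ * y * g0 = g0⁻¹ * y * g0⁻¹⁻¹ by rw [inv_inv], conj_eq_one_iff] at e)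
    have h2 := h.block hC (memY.1 hy) h1 (g := g0)
      (by rw [show g0 * (g0⁻¹ * y * g0) * g0⁻¹ = y by group]; exact hyZ) hg0
    rw [show g0 * (g0⁻¹ * a0 * g0) * g0⁻¹ = a0 by group] at h2
    exact ha0Z h2
  -- two elements of `B` independent modulo `Z`
  obtain ⟨b₁, hb₁, hb₁Z⟩ := h.symm.exists_A_not_Z
  obtain ⟨b₂, hb₂, hb₂Z, hb₁₂⟩ : ∃ b ∈ B, b ∉ Z ∧ b₁ * b ∉ Z := by
    by_contra hno
    push Not at hno
    have hsub : (B : Set G) ⊆ (Z : Set G) ∪ (fun t => b₁ * t) '' (Z : Set G) := fun b hb => by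
      by_cases hbZ : b ∈ Z
      · exact Or.inl hbZ
      · exact Or.inr ⟨b₁ * b, hno b hb hbZ, by
          change b₁ * (b₁ * b) = b
          rw [← mul_assoc, h.eB b₁ hb₁, one_mul]⟩
    have h1 := (Set.ncard_le_ncard hsub (Set.toFinite _)).trans (Set.ncard_union_le _ _)
    have h2 : ((fun t => b₁ * t) '' (Z : Set G)).ncard ≤ (Z : Set G).ncard :=
      Set.ncard_image_le (Set.toFinite _)
    have e1 : (B : Set G).ncard = 16 := by rw [← Nat.card_coe_set_eq]; exact h.cardB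
    have e2 : (Z : Set G).ncard = 4 := by rw [← Nat.card_coe_set_eq]; exact h.cardZ
    omega
  have hbcomm : b₂ * b₁ = b₁ * b₂ := CfsgLib.Recog.LThreeFour.comm_of_sq h.eB hb₂ hb₁
  -- the commutator maps from `Y` to `Z`
  have hwY : ∀ b ∈ B, ∀ y ∈ Y, y * b * y⁻¹ * b⁻¹ ∈ Z := fun b hb y hy => h.comm y (hYA hy) b hb
  have hmulb : ∀ b ∈ B, ∀ c ∈ B, ∀ y ∈ Y,
      y * (b * c) * y⁻¹ * (b * c)⁻¹ = (y * b * y⁻¹ * b⁻¹) * (y * c * y⁻¹ * c⁻¹) := by
    intro b hb c hc y hy
    calc y * (b * c) * y⁻¹ * (b * c)⁻¹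
        = (y * b * y⁻¹ * b⁻¹) * (b * (y * c * y⁻¹ * c⁻¹)) * b⁻¹ := by group
      _ = (y * b * y⁻¹ * b⁻¹) * ((y * c * y⁻¹ * c⁻¹) * b) * b⁻¹ := by
          rw [h.cen _ (hwY c hc y hy) b (h.hB hb)]
      _ = _ := by group
  let mk : ∀ b ∈ B, ↥Y →* ↥Z := fun b hb =>
    { toFun := fun y => ⟨(y : G) * b * (y : G)⁻¹ * b⁻¹, hwY b hb y y.2⟩
      map_one' := Subtype.ext (by simp)
      map_mul' := fun y y' => Subtype.ext (by
        push_cast
        calc (y : G) * y' * b * ((y : G) * y')⁻¹ * b⁻¹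
            = (y : G) * ((y' : G) * b * (y' : G)⁻¹ * b⁻¹) * (b * (y : G)⁻¹ * b⁻¹) := by group
          _ = ((y' : G) * b * (y' : G)⁻¹ * b⁻¹) * (y : G) * (b * (y : G)⁻¹ * b⁻¹) := by
              rw [h.cen _ (hwY b hb y' y'.2) (y : G) (h.hA (hYA y.2))]
          _ = ((y' : G) * b * (y' : G)⁻¹ * b⁻¹) * ((y : G) * b * (y : G)⁻¹ * b⁻¹) := by group
          _ = _ := h.cen _ (hwY b hb y' y'.2) _ (h.hZS (hwY b hb y y.2))) }
  have hinj : ∀ b (hb : b ∈ B), b ∉ Z → Function.Injective (mk b hb) := fun b hb hbZ => by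
    rw [← MonoidHom.ker_eq_bot_iff, eq_bot_iff]
    intro y hy
    have h1 : (y : G) * b * (y : G)⁻¹ * b⁻¹ = 1 := congrArg Subtype.val (MonoidHom.mem_ker.1 hy)
    rw [mul_inv_eq_one, mul_inv_eq_iff_eq_mul] at h1
    rw [mem_bot]
    exact Subtype.ext (hYZ y y.2 ((h.key (hYA y.2) hb h1).resolve_right hbZ))
  have hbij : ∀ b (hb : b ∈ B), b ∉ Z → Function.Bijective (mk b hb) := fun b hb hbZ =>
    (Nat.bijective_iff_injective_and_card _).2 ⟨hinj b hb hbZ, by rw [hY4, h.cardZ]⟩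
  let w₁ := MulEquiv.ofBijective (mk b₁ hb₁) (hbij b₁ hb₁ hb₁Z)
  let w₂ := MulEquiv.ofBijective (mk b₂ hb₂) (hbij b₂ hb₂ hb₂Z)
  have hw₁₂ : ∀ y, w₁ y = w₂ y → y = 1 := fun y e => by
    refine hinj (b₁ * b₂) (mul_mem hb₁ hb₂) hb₁₂ (Eq.trans ?_ (map_one _).symm)
    refine Subtype.ext ?_
    change (y : G) * (b₁ * b₂) * (y : G)⁻¹ * (b₁ * b₂)⁻¹ = 1
    rw [hmulb b₁ hb₁ b₂ hb₂ y y.2]
    have e' : (y : G) * b₁ * (y : G)⁻¹ * b₁⁻¹ = (y : G) * b₂ * (y : G)⁻¹ * b₂⁻¹ :=
      congrArg Subtype.val e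
    rw [← e', h.eZ (hwY b₁ hb₁ y y.2)]
  let η : ↥Y →* ↥Y := w₁.symm.toMonoidHom.comp w₂.toMonoidHom
  let γ : ↥Z →* ↥Z := w₂.toMonoidHom.comp w₁.symm.toMonoidHom
  have hηsum : ∀ y : ↥Y, y * η y * η (η y) = 1 := klein_sum hY4
    (fun y => Subtype.ext (h.eA y (hYA y.2))) η (w₁.symm.injective.comp w₂.injective)
    fun y e => hw₁₂ y (by
      have := congrArg w₁ e
      simpa [η] using this.symm)
  have hγsum : ∀ t : ↥Z, t * γ t * γ (γ t) = 1 := klein_sum h.cardZ
    (fun t => Subtype.ext (h.eZ t.2)) γ (w₂.injective.comp w₁.symm.injective)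
    fun t e => by
      have := hw₁₂ (w₁.symm t) (by simpa [γ] using e.symm)
      simpa using congrArg w₁ this
  -- `A = Z × Y`
  let μ : ↥Z × ↥Y →* ↥A :=
    { toFun := fun p => ⟨(p.1 : G) * p.2, mul_mem (h.hZA p.1.2) (hYA p.2.2)⟩
      map_one' := Subtype.ext (by simp)
      map_mul' := fun p q => Subtype.ext (by
        push_cast [Prod.fst_mul, Prod.snd_mul]
        calc (p.1 : G) * q.1 * ((p.2 : G) * q.2) = (p.1 : G) * ((q.1 : G) * p.2) * q.2 := by group
          _ = (p.1 : G) * ((p.2 : G) * q.1) * q.2 := by rw [h.cen _ q.1.2 _ (h.hA (hYA p.2.2))]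
          _ = _ := by group) }
  have hμ : Function.Bijective μ := by
    refine (Nat.bijective_iff_injective_and_card _).2 ⟨?_, ?_⟩
    · rw [← MonoidHom.ker_eq_bot_iff, eq_bot_iff]
      intro p hp
      have h1 : (p.1 : G) * p.2 = 1 := congrArg Subtype.val (MonoidHom.mem_ker.1 hp)
      have h2 : (p.2 : G) = 1 := hYZ _ p.2.2 (by
        rw [eq_inv_of_mul_eq_one_right h1]; exact inv_mem p.1.2)
      rw [h2, mul_one] at h1
      rw [mem_bot]
      exact Prod.ext (Subtype.ext h1) (Subtype.ext h2)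
    · rw [Nat.card_prod, h.cardZ, hY4, h.cardA]
  let e := MulEquiv.ofBijective μ hμ
  let ζ : ↥A →* ↥A := μ.comp ((γ.prodMap η).comp e.symm.toMonoidHom)
  have hζ : ∀ t y, ζ (μ (t, y)) = μ (γ t, η y) := fun t y => by
    change μ (γ.prodMap η (e.symm (e (t, y)))) = _
    rw [e.symm_apply_apply]
    rfl
  have hsum : ∀ x, x * ζ x * ζ (ζ x) = 1 := fun x => by
    obtain ⟨⟨t, y⟩, rfl⟩ := hμ.2 x
    rw [hζ, hζ, ← map_mul, ← map_mul, Prod.mk_mul_mk, Prod.mk_mul_mk, hγsum, hηsum]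
    exact map_one μ
  have hγw : ∀ y, γ (w₁ y) = w₁ (η y) ∧ γ (w₂ y) = w₂ (η y) := fun y => by simp [γ, η]
  -- conjugation by elements of `B`
  have hb : ∀ b (hb : b ∈ B) (t : ↥Z) (y : ↥Y),
      MulAut.conjNormal b (μ (t, y)) = μ (t * mk b hb y, y) := fun b hb t y => by
    refine Subtype.ext ?_
    change b * ((t : G) * y) * b⁻¹ = (t : G) * ((y : G) * b * (y : G)⁻¹ * b⁻¹) * y
    have hy2 : (y : G)⁻¹ = y := inv_eq_of_mul_eq_one_right (h.eA y (hYA y.2))
    have hc := h.cen _ (hwY b hb y y.2) y (h.hA (hYA y.2))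
    calc b * ((t : G) * y) * b⁻¹ = (b * t) * y * b⁻¹ := by group
      _ = (t : G) * (b * (y : G) * b⁻¹) := by rw [← h.cen _ t.2 b (h.hB hb)]; group
      _ = (t : G) * ((y : G) * ((y : G) * b * (y : G)⁻¹ * b⁻¹)) := by
          conv_rhs => rw [hy2]
          rw [show (y : G) * ((y : G) * b * (y : G) * b⁻¹) = ((y : G) * y) * (b * (y : G) * b⁻¹) by
            group, h.eA y (hYA y.2), one_mul]
      _ = _ := by rw [← hc]; group
  let Cm : Subgroup G :=
    { carrier := {g | ∀ x, ζ (MulAut.conjNormal g x) = MulAut.conjNormal g (ζ x)}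
      one_mem' := fun x => by simp
      mul_mem' := fun {g k} hg hk x => by
        rw [map_mul, MulAut.mul_apply, MulAut.mul_apply, hg, hk]
      inv_mem' := fun {g} hg x => by
        apply (MulAut.conjNormal g).injective
        rw [← hg, ← MulAut.mul_apply, ← MulAut.mul_apply, ← map_mul, mul_inv_cancel, map_one,
          MulAut.one_apply, MulAut.one_apply] }
  have hb₁C : b₁ ∈ Cm := fun x => by
    obtain ⟨⟨t, y⟩, rfl⟩ := hμ.2 x
    rw [hb b₁ hb₁, hζ, hζ, hb b₁ hb₁, map_mul γ]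
    exact congrArg (fun r => μ (γ t * r, η y)) (hγw y).1
  have hb₂C : b₂ ∈ Cm := fun x => by
    obtain ⟨⟨t, y⟩, rfl⟩ := hμ.2 x
    rw [hb b₂ hb₂, hζ, hζ, hb b₂ hb₂, map_mul γ]
    exact congrArg (fun r => μ (γ t * r, η y)) (hγw y).2
  have hconjA : ∀ a ∈ A, ∀ x : ↥A, MulAut.conjNormal a x = x := fun a ha x => Subtype.ext (by
    rw [MulAut.conjNormal_apply, CfsgLib.Recog.LThreeFour.comm_of_sq h.eA ha x.2,
      mul_inv_cancel_right])
  have hAC : A ≤ Cm := fun a ha x => by rw [hconjA a ha, hconjA a ha]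
  -- the complement
  let W : Subgroup G :=
    { carrier := {1, b₁, b₂, b₁ * b₂}
      one_mem' := Or.inl rfl
      mul_mem' := fun {p q} hp hq => by
        have e1 := h.eB b₁ hb₁
        have e2 := h.eB b₂ hb₂
        have f1 : b₁ * (b₁ * b₂) = b₂ := by rw [← mul_assoc, e1, one_mul]
        have f2 : b₂ * (b₁ * b₂) = b₁ := by rw [← mul_assoc, hbcomm, mul_assoc, e2, mul_one]
        have f3 : b₁ * b₂ * b₁ = b₂ := by rw [mul_assoc, hbcomm, f1]
        have f4 : b₁ * b₂ * b₂ = b₁ := by rw [mul_assoc, e2, mul_one]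
        have f5 : b₁ * b₂ * (b₁ * b₂) = 1 := by rw [mul_assoc, f2, e1]
        simp only [Set.mem_insert_iff, Set.mem_singleton_iff] at hp hq ⊢
        rcases hp with hp | hp | hp | hp <;> rcases hq with hq | hq | hq | hq <;> rw [hp, hq] <;>
          simp [e1, e2, f1, f2, f3, f4, f5, hbcomm]
      inv_mem' := fun {p} hp => by
        simp only [Set.mem_insert_iff, Set.mem_singleton_iff] at hp ⊢
        rcases hp with hp | hp | hp | hp <;> rw [hp] <;>
          simp [inv_eq_of_mul_eq_one_right (h.eB b₁ hb₁), inv_eq_of_mul_eq_one_right (h.eB b₂ hb₂),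
            hbcomm] }
  have hWB : W ≤ B := by
    rintro p (rfl | rfl | rfl | rfl)
    exacts [one_mem B, hb₁, hb₂, mul_mem hb₁ hb₂]
  have hWC : W ≤ Cm := by
    rintro p (rfl | rfl | rfl | rfl)
    exacts [one_mem Cm, hb₁C, hb₂C, mul_mem hb₁C hb₂C]
  have hWsup : A ⊔ W = (P : Subgroup G) := by
    refine le_antisymm (sup_le h.hA (hWB.trans h.hB)) ?_
    intro s hs
    obtain ⟨a, ha, b, hbB, rfl⟩ := h.exists_mul hs
    refine mul_mem (mem_sup_left ha) ?_
    by_cases hbZ : b ∈ Z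
    · exact mem_sup_left (h.hZA hbZ)
    have hay : b₁⁻¹ * b₂ ∉ Z := by rwa [inv_eq_of_mul_eq_one_right (h.eB b₁ hb₁)]
    rcases h.symm.cosets hb₁ hb₁Z hb₂ hb₂Z hay hbB with h1 | h1 | h1 | h1
    · exact absurd h1 hbZ
    · rw [show b = b₁ * (b₁⁻¹ * b) by group]
      exact mul_mem (mem_sup_right (Or.inr (Or.inl rfl))) (mem_sup_left (h.hZA h1))
    · rw [show b = b₂ * (b₂⁻¹ * b) by group]
      exact mul_mem (mem_sup_right (Or.inr (Or.inr (Or.inl rfl)))) (mem_sup_left (h.hZA h1))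
    · rw [show b = b₁ * b₂ * ((b₁ * b₂)⁻¹ * b) by group]
      exact mul_mem (mem_sup_right (Or.inr (Or.inr (Or.inr rfl)))) (mem_sup_left (h.hZA h1))
  have hPC : (P : Subgroup G) ≤ Cm := hWsup ▸ sup_le hAC hWC
  have hWbot : A ⊓ W = ⊥ := by
    refine eq_bot_iff.2 fun p hp => ?_
    obtain ⟨hpA, hpW⟩ := mem_inf.1 hp
    have hpZ : p ∈ Z := h.mem_Z hpA (hWB hpW)
    rcases hpW with rfl | rfl | rfl | rfl
    exacts [mem_bot.2 rfl, absurd hpZ hb₁Z, absurd hpZ hb₂Z, absurd hpZ hb₁₂]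
  -- `ζ` preserves the conjugates of `Z`
  have hkeep : ∀ (g : G) (x : ↥A), g⁻¹ * (x : G) * g ∈ Z → g⁻¹ * (ζ x : G) * g ∈ Z := by
    intro g x hx
    obtain ⟨⟨t, y⟩, rfl⟩ := hμ.2 x
    rw [hζ]
    by_cases hy : y = 1
    · subst hy
      rw [map_one η]
      simp only [μ, MonoidHom.coe_mk, OneHom.coe_mk, OneMemClass.coe_one, mul_one] at hx ⊢
      by_cases ht : (t : G) = 1
      · rw [show t = 1 from Subtype.ext ht, map_one γ]; simp
      · exact h.block hC t.2 ht (g := g⁻¹) (by rwa [inv_inv]) (γ t).2 |> fun r => by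
          rwa [inv_inv] at r
    · -- `t` is the commutator of `y` with some element of `W`
      obtain ⟨c, hcW, hct⟩ : ∃ c, ∃ hc : c ∈ W, mk c (hWB hc) y = t := by
        rcases klein_cases h.cardZ (fun r : ↥Z => Subtype.ext (h.eZ r.2))
          (x := w₁ y) (y := w₂ y) (fun e => hy (w₁.injective (e.trans (map_one w₁).symm)))
          (fun e => hy (w₂.injective (e.trans (map_one w₂).symm)))
          (fun e => hy (hw₁₂ y e.symm)) t with r | r | r | r
        · exact ⟨1, one_mem W, r ▸ Subtype.ext (by simp [mk])⟩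
        · exact ⟨b₁, Or.inr (Or.inl rfl), r.symm⟩
        · exact ⟨b₂, Or.inr (Or.inr (Or.inl rfl)), r.symm⟩
        · exact ⟨b₁ * b₂, Or.inr (Or.inr (Or.inr rfl)),
            r ▸ Subtype.ext (hmulb b₁ hb₁ b₂ hb₂ y y.2)⟩
      have ey : ∀ s : ↥Y, MulAut.conjNormal c (μ (1, s)) = μ (mk c (hWB hcW) s, s) := fun s => by
        rw [hb c (hWB hcW), one_mul]
      have hx' : μ (t, y) = MulAut.conjNormal c (μ (1, y)) := by rw [ey, hct]
      have hz' : μ (γ t, η y) = MulAut.conjNormal c (μ (1, η y)) := by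
        rw [← hζ t y, hx', hWC hcW, hζ, map_one γ]
      rw [hx', MulAut.conjNormal_apply] at hx
      rw [hz', MulAut.conjNormal_apply]
      simp only [μ, MonoidHom.coe_mk, OneHom.coe_mk, OneMemClass.coe_one, one_mul] at hx ⊢
      have hy1 : g0⁻¹ * (y : G) * g0 ≠ 1 := fun e => hy (Subtype.ext (by
        rwa [show g0⁻¹ * (y : G) * g0 = g0⁻¹ * (y : G) * g0⁻¹⁻¹ by rw [inv_inv],
          conj_eq_one_iff] at e))
      have := h.block hC (memY.1 y.2) hy1 (g := g⁻¹ * c * g0)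
        (by
          rw [show g⁻¹ * c * g0 * (g0⁻¹ * (y : G) * g0) * (g⁻¹ * c * g0)⁻¹ =
            g⁻¹ * (c * (y : G) * c⁻¹) * g by group]
          exact hx) (memY.1 (η y).2)
      rwa [show g⁻¹ * c * g0 * (g0⁻¹ * (η y : G) * g0) * (g⁻¹ * c * g0)⁻¹ =
        g⁻¹ * (c * (η y : G) * c⁻¹) * g by group] at this
  -- every element commutes with `ζ`
  have hz0A := h.hZA hz0
  set zA : ↥A := ⟨z0, hz0A⟩
  have hcube : ∀ x, ζ (ζ (ζ x)) = x := fun x => by
    have h1 := hsum x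
    have h2 := hsum (ζ x)
    have h3 : x * ζ x * ζ (ζ x) = ζ x * ζ (ζ x) * ζ (ζ (ζ x)) := h1.trans h2.symm
    have h4 : ∀ p q : ↥A, p * q = q * p := fun p q => Subtype.ext
      (CfsgLib.Recog.LThreeFour.comm_of_sq h.eA p.2 q.2)
    rw [mul_assoc x, h4 x] at h3
    exact (mul_left_cancel h3).symm
  have hdich : ∀ g : G,
      (∀ x, MulAut.conjNormal g (ζ (MulAut.conjNormal g⁻¹ x)) = ζ x) ∨
      (∀ x, MulAut.conjNormal g (ζ (MulAut.conjNormal g⁻¹ x)) = ζ (ζ x)) := by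
    intro g
    let ζ' : ↥A →* ↥A := (MulAut.conjNormal g).toMonoidHom.comp
      (ζ.comp (MulAut.conjNormal g⁻¹).toMonoidHom)
    have hkeep' : ∀ (k : G) (x : ↥A), k⁻¹ * (x : G) * k ∈ Z → k⁻¹ * (ζ' x : G) * k ∈ Z := by
      intro k x hx
      have h1 := hkeep (g⁻¹ * k) (MulAut.conjNormal g⁻¹ x) (by
        rw [MulAut.conjNormal_apply]
        rwa [show (g⁻¹ * k)⁻¹ * (g⁻¹ * (x : G) * g⁻¹⁻¹) * (g⁻¹ * k) = k⁻¹ * (x : G) * k by group])
      change k⁻¹ * (MulAut.conjNormal g (ζ (MulAut.conjNormal g⁻¹ x)) : G) * k ∈ Z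
      rw [MulAut.conjNormal_apply]
      rwa [show (g⁻¹ * k)⁻¹ * (ζ (MulAut.conjNormal g⁻¹ x) : G) * (g⁻¹ * k) =
        k⁻¹ * (g * (ζ (MulAut.conjNormal g⁻¹ x) : G) * g⁻¹) * k by group] at h1
    have hagree : ∀ f : ↥A →* ↥A,
        (∀ (k : G) (x : ↥A), k⁻¹ * (x : G) * k ∈ Z → k⁻¹ * (f x : G) * k ∈ Z) →
        ζ' zA = f zA → ∀ x, ζ' x = f x := by
      intro f hf he x
      have hd := h.endo_eq_one hC hcov
        { toFun := fun r => ζ' r * (f r)⁻¹
          map_one' := by simp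
          map_mul' := fun r s => by
            rw [map_mul, map_mul, mul_inv_rev]
            refine Subtype.ext ?_
            push_cast
            have hc : ∀ p q : ↥A, (p : G) * q = (q : G) * p := fun p q =>
              CfsgLib.Recog.LThreeFour.comm_of_sq h.eA p.2 q.2
            calc (ζ' r : G) * (ζ' s) * ((f s : G)⁻¹ * (f r : G)⁻¹)
                = (ζ' r : G) * (((ζ' s * (f s)⁻¹ : ↥A) : G) * (((f r)⁻¹ : ↥A) : G)) := by
                  push_cast; group
              _ = (ζ' r : G) * ((((f r)⁻¹ : ↥A) : G) * ((ζ' s * (f s)⁻¹ : ↥A) : G)) := by rw [hc]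
              _ = _ := by push_cast; group }
        (fun k r hr => by
          change k⁻¹ * ((ζ' r * (f r)⁻¹ : ↥A) : G) * k ∈ Z
          have := mul_mem (hkeep' k r hr) (inv_mem (hf k r hr))
          push_cast
          rwa [show k⁻¹ * (ζ' r : G) * k * (k⁻¹ * (f r : G) * k)⁻¹ =
            k⁻¹ * ((ζ' r : G) * (f r : G)⁻¹) * k by group] at this)
        (z := zA) hz0 (fun e => hz01 (congrArg Subtype.val e)) (by
          change ζ' zA * (f zA)⁻¹ = 1
          rw [he, mul_inv_cancel]) x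
      exact mul_inv_eq_one.1 hd
    have hin : ∀ f : ↥A →* ↥A,
        (∀ (k : G) (x : ↥A), k⁻¹ * (x : G) * k ∈ Z → k⁻¹ * (f x : G) * k ∈ Z) →
        (f zA : G) ∈ Z := fun f hf => by
      have := hf 1 zA (by simpa using hz0)
      simpa using this
    have hzne : zA ≠ 1 := fun e => hz01 (congrArg Subtype.val e)
    have hζinj : Function.Injective ζ := fun p q e => by rw [← hcube p, e, hcube]
    have hne1 : ∀ x, ζ x = x → x = 1 := fun x e => by
      have := hsum x
      rwa [e, e, show x * x = 1 from Subtype.ext (h.eA x x.2), one_mul] at this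
    have h1 : ζ zA ≠ 1 := fun e => hzne (hζinj (e.trans (map_one ζ).symm))
    rcases klein_cases h.cardZ (fun r : ↥Z => Subtype.ext (h.eZ r.2))
      (x := ⟨z0, hz0⟩) (y := ⟨(ζ zA : G), hin ζ hkeep⟩)
      (fun e => hz01 (congrArg Subtype.val e))
      (fun e => h1 (Subtype.ext (congrArg (fun r : ↥Z => (r : G)) e :)))
      (fun e => hzne (hne1 _ (Subtype.ext (congrArg (fun r : ↥Z => (r : G)) e :))))
      (⟨(ζ' zA : G), hin ζ' hkeep'⟩) with r | r | r | r
    · exfalso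
      have : ζ' zA = 1 := Subtype.ext (congrArg (fun r : ↥Z => (r : G)) r :)
      have h5 : ζ (MulAut.conjNormal g⁻¹ zA) = 1 :=
        (MulAut.conjNormal g).injective (this.trans (map_one _).symm)
      exact hzne ((MulAut.conjNormal g⁻¹).injective
        ((hζinj (h5.trans (map_one ζ).symm)).trans (map_one _).symm))
    · exfalso
      have : ζ' zA = zA := Subtype.ext (congrArg (fun r : ↥Z => (r : G)) r :)
      have h5 : ζ (MulAut.conjNormal g⁻¹ zA) = MulAut.conjNormal g⁻¹ zA := by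
        apply (MulAut.conjNormal g).injective
        refine this.trans ?_
        rw [map_inv, MulAut.apply_inv_self]
      exact hzne ((MulAut.conjNormal g⁻¹).injective ((hne1 _ h5).trans (map_one _).symm))
    · exact Or.inl (hagree ζ hkeep (Subtype.ext (congrArg (fun r : ↥Z => (r : G)) r :)))
    · refine Or.inr (hagree (ζ.comp ζ) (fun k x hx => hkeep k _ (hkeep k x hx)) ?_)
      have e1 : ζ' zA = zA * ζ zA := Subtype.ext (congrArg (fun r : ↥Z => (r : G)) r :)
      rw [e1]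
      change zA * ζ zA = ζ (ζ zA)
      have hs := hsum zA
      rw [mul_eq_one_iff_eq_inv] at hs
      rw [hs]
      exact inv_eq_of_mul_eq_one_right (Subtype.ext (h.eA _ (ζ (ζ zA)).2))
  -- `g ζ g⁻¹` applied as a rewriting rule
  have hall : ∀ g : G, g ∈ Cm := by
    intro g
    have hsq : ∀ k : G, k * k ∈ Cm := fun k x => by
      rcases hdich k with e | e
      · have hk : k ∈ Cm := fun r => by
          have := e (MulAut.conjNormal k r)
          rw [map_inv, MulAut.inv_apply_self] at this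
          exact this.symm
        exact mul_mem hk hk x
      · have hk : ∀ r, MulAut.conjNormal k (ζ r) = ζ (ζ (MulAut.conjNormal k r)) := fun r => by
          have := e (MulAut.conjNormal k r)
          rwa [map_inv, MulAut.inv_apply_self] at this
        rw [map_mul, MulAut.mul_apply, MulAut.mul_apply, hk, hk, hk, hcube]
    haveI : Cm.Normal := ⟨fun c hc k x => by
      have hk : MulAut.conjNormal (H := A) (k * c * k⁻¹) = MulAut.conjNormal k *
          MulAut.conjNormal c * (MulAut.conjNormal k)⁻¹ := by rw [map_mul, map_mul, map_inv]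
      rw [hk, MulAut.mul_apply, MulAut.mul_apply, MulAut.mul_apply, MulAut.mul_apply]
      rcases hdich k with e | e
      · have hk' : ∀ r, ζ (MulAut.conjNormal k r) = MulAut.conjNormal k (ζ r) := fun r => by
          have := e (MulAut.conjNormal k r)
          rw [map_inv, MulAut.inv_apply_self] at this
          exact this.symm
        rw [hk', hc, ← e x, map_inv, MulAut.inv_apply_self]
      · have hk' : ∀ r, ζ (MulAut.conjNormal k r) = MulAut.conjNormal k (ζ (ζ r)) := fun r => by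
          have e' : ∀ r, MulAut.conjNormal k (ζ r) = ζ (ζ (MulAut.conjNormal k r)) := fun r => by
            have := e (MulAut.conjNormal k r)
            rwa [map_inv, MulAut.inv_apply_self] at this
          rw [e', e', hcube]
        rw [hk', hc, hc]
        have := hk' ((MulAut.conjNormal k)⁻¹ x)
        rw [MulAut.apply_inv_self] at this
        rw [this, MulAut.inv_apply_self]⟩
    have hodd : Odd Cm.index := Odd.of_dvd_nat
      (Nat.odd_iff.2 (Nat.two_dvd_ne_zero.1 (by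
        haveI : Fact (Nat.Prime 2) := ⟨Nat.prime_two⟩
        exact P.not_dvd_index))) (Subgroup.index_dvd_of_le hPC)
    obtain ⟨m, hm⟩ := hodd
    have h1 := Cm.pow_index_mem g
    rw [hm, pow_succ, pow_mul] at h1
    exact (mul_mem_cancel_left (pow_mem (by rw [pow_two]; exact hsq g) m)).1 h1
  exact ⟨⟨ζ, hsum, fun g x => hall g x⟩, W, hWbot, hWsup⟩

end Shape

end CfsgLib.SylL34
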